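import Cfsg.Agent.OddHalf.NI3.FThree.MainCore
import Cfsg.Agent.OddHalf.NI3.Amal

/-!
# (F2'₃): the two parts in the form of THEOREM X(3)

* `f23a` : `F23a`;
* `f23b` : `F23b` for `S7 := ChartB3 (ZMod 3)`.

Both from THEOREM T and `SmallFalse` (file `C3.lean`).
-/

set_option autoImplicit false
set_option linter.unusedSectionVars false
set_option linter.dupNamespace false

namespace Cfsg.Agent.OddHalf.NI3.FThree

open Cfsg Cfsg.Agent.Cit Cfsg.Agent.SignalizersComponents
open Cfsg.Agent.OddHalf.NI.FTwo (ChartB3 eq_top_of_component isComponent_top core_eq_bot)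

universe u

/-- **(F2'₃), the ambient part** -/
theorem f23a_of (hT : TStmt.{u}) (hF : SmallFalse.{u}) : F23a.{u} := by
  intro H _ _ hO x z J' J h' h hs hc hz hD h2 hQ
  refine Sit3.J_le hT hF (x := x) (j := z)
    { core := hO
      cl := h'
      pr := h
      sn := hs
      cm := hc
      jc := fun y => Subgroup.mem_center_iff.1 hz y
      comp := hD
      two := h2
      ge := ?_ }
  rw [QQ, Subgroup.closure_le]
  exact fun y hy => hQ y hy.1 hy.2

/-- **(F2'₃), the intrinsic part** -/
theorem f23b_of (hT : TStmt.{u}) (hF : SmallFalse.{u}) :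
    F23b.{u} (fun N _ c d A B A' => ChartB3 (ZMod 3) N c d A B A') := by
  intro N _ _ hN h2 x z J' J h' h hs hc hz
  have hO : pPrimeCore 2 N = ⊥ := core_eq_bot hN h2 h'.pr.ord
  have hOm := h'.hyp' hT hO
  have hDc : IsComponent (pc (cls J') J') := by
    rcases step' hT hO h' h hs hc with h3 | h3
    · exfalso
      obtain ⟨a, ha, b, hb, -, -, hab⟩ := QQ_not_comm h
      exact hab (comm_component h h3 (isComponent_top hN) a (QQ_le ha) b (Subgroup.mem_top b))
    · exact h3.1
  have htop : pc (cls J') J' = ⊤ := eq_top_of_component hN hDc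
  have h2' : IsPGroup 2 (Subgroup.center ↥(pc (cls J') J')) := by
    rw [htop]
    intro g
    have hg : ((g : (⊤ : Subgroup N)) : N) ∈ Subgroup.center N := by
      rw [Subgroup.mem_center_iff]
      intro y
      have h3 := Subgroup.mem_center_iff.1 g.2 ⟨y, Subgroup.mem_top y⟩
      exact congrArg Subtype.val h3
    obtain ⟨k, hk⟩ := h2 ⟨_, hg⟩
    refine ⟨k, ?_⟩
    apply Subtype.ext
    apply Subtype.ext
    have h4 := congrArg Subtype.val hk
    simpa using h4
  have S : Sit3 x z J' J :=
    { core := hO
      cl := h'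
      pr := h
      sn := hs
      cm := hc
      jc := fun y => Subgroup.mem_center_iff.1 hz y
      comp := hDc
      two := h2'
      ge := by rw [htop]; exact le_top }
  obtain ⟨B⟩ := exists_bad_chart hT hF S
  have key : ∀ D : Subgroup N, D = ⊤ → BadChart x z J' J D → ∃ T : Subgroup N, IsPr T (x * z) ∧
      Sn T (Subgroup.centralizer ({x} : Set N)) ∧ ChartB3 (ZMod 3) N z x J J' T := by
    rintro D rfl B
    exact B.chartB3 hOm
  exact key _ htop B

end Cfsg.Agent.OddHalf.NI3.FThree
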