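import Cfsg.Agent.OddHalf.NI3.FThree.Rk1

/-!
# (F2'₃): a rank one group in characteristic 3 whose normal 2-subgroup contains `O₂(J)`

`Rn M N U V` : `U`, `V` are opposite root groups of order 3 of the rank one group `M`, `N` a normal 2-subgroup.
`eq_sup` : if `J ≅ SL₂(3)` and `⟨U, V⟩` are subnormal in `C`, `O₂(J) ≤ N` does not commute with `U`, then
`J = ⟨U, V⟩`.
-/

set_option autoImplicit false
set_option linter.unusedSectionVars false
set_option linter.dupNamespace false

namespace Cfsg.Agent.OddHalf.NI3.FThree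

open Cfsg Cfsg.Agent.Cit
open Cfsg.Agent.Cit.SLThree (Qt Sl IsSl)

/-- four cosets -/
theorem four_cosets {G : Type*} [Group G] {C : Subgroup G} (hC : C.index = 4) {a b c : G} (ha : a ∉ C)
    (hb : b ∉ C) (hc : c ∉ C) (hab : a⁻¹ * b ∉ C) (hac : a⁻¹ * c ∉ C) (hbc : b⁻¹ * c ∉ C) (y : G) :
    y ∈ C ∨ a⁻¹ * y ∈ C ∨ b⁻¹ * y ∈ C ∨ c⁻¹ * y ∈ C := by
  have hfin : Finite (G ⧸ C) := Nat.finite_of_card_ne_zero (by
    change C.index ≠ 0
    rw [hC]; norm_num)
  let f : Fin 4 → G ⧸ C := ![QuotientGroup.mk 1, QuotientGroup.mk a, QuotientGroup.mk b, QuotientGroup.mk c]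
  have e : ∀ {s t : G}, (QuotientGroup.mk s : G ⧸ C) = QuotientGroup.mk t → s⁻¹ * t ∈ C := fun h =>
    QuotientGroup.eq.1 h
  have hf : Function.Injective f := by
    intro s t hst
    fin_cases s <;> fin_cases t <;> first | rfl | exfalso
    · exact ha (by simpa using e hst)
    · exact hb (by simpa using e hst)
    · exact hc (by simpa using e hst)
    · exact ha (by simpa using e hst)
    · exact hab (e hst)
    · exact hac (e hst)
    · exact hb (by simpa using e hst)
    · exact hab (by have := inv_mem (e hst); simpa using this)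
    · exact hbc (e hst)
    · exact hc (by simpa using e hst)
    · exact hac (by have := inv_mem (e hst); simpa using this)
    · exact hbc (by have := inv_mem (e hst); simpa using this)
  have hb := hf.bijective_of_nat_card_le (by
    rw [Nat.card_fin]
    change C.index ≤ 4
    rw [hC])
  obtain ⟨s, hs⟩ := hb.2 (QuotientGroup.mk y)
  fin_cases s
  · left; simpa using e hs
  · right; left; exact e hs
  · right; right; left; exact e hs
  · right; right; right; exact e hs

variable {Y : Type*} [Group Y]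

/-- a rank one group in characteristic 3 with root groups of order 3 and a normal 2-subgroup -/
structure Rn (M N U V : Subgroup Y) : Prop where
  UM : U ≤ M
  VM : V ≤ M
  NM : N ≤ M
  two : IsPGroup 2 N
  norm : M ≤ Subgroup.normalizer (N : Set Y)
  card : Nat.card U = 3
  all : ∀ g ∈ M, ∃ m ∈ N, m⁻¹ * g ∈ Subgroup.normalizer (U : Set Y)
  four : 4 * Nat.card (N ⊓ Subgroup.centralizer (U : Set Y) : Subgroup Y) = Nat.card N
  cent : ∀ t ∈ N, (∀ u ∈ U, t * u = u * t) → ∀ v ∈ V, t * v = v * t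
  conj : ∃ nn ∈ M, V = cj nn U
  normL : M ≤ Subgroup.normalizer ((U ⊔ V : Subgroup Y) : Set Y)

section quat

/-- two elements of order 4 of `O₂(J)` -/
theorem qt_of_QQ [Finite Y] {J : Subgroup Y} {j : Y} (h : IsPr J j) {i k : Y} (hi : i ∈ J) (hk : k ∈ J)
    (hii : i * i = j) (hkk : k * k = j) (h1 : k ≠ i) (h2 : k ≠ j * i) :
    Qt j i k ∧ QQ J j = Subgroup.closure {i, k} := by
  obtain ⟨i₀, k₀, d, hl⟩ := h.sl
  have hq := hl.q
  have e0 := QQ_eq hl
  have hiQ : i ∈ Subgroup.closure ({i₀, k₀} : Set Y) := by rw [← e0]; exact mem_QQ hi hii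
  have hkQ : k ∈ Subgroup.closure ({i₀, k₀} : Set Y) := by rw [← e0]; exact mem_QQ hk hkk
  have hz := hq.z1
  have hji : k * i = j * (i * k) := by
    rcases hq.mem_cases hiQ with rfl | rfl | rfl | rfl | rfl | rfl | rfl | rfl <;>
    rcases hq.mem_cases hkQ with rfl | rfl | rfl | rfl | rfl | rfl | rfl | rfl <;>
    simp only [mul_assoc, one_mul, mul_one, hq.z2, hq.zz, hq.iz, hq.jz, hq.izx, hq.jzx, hq.i2, hq.j2, hq.iix,
      hq.ji, hq.jix, ne_eq, not_true_eq_false] at hii hkk h1 h2 ⊢ <;>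
    first
    | exact absurd hii.symm hz
    | exact absurd hkk.symm hz
  have hQ : Qt j i k := ⟨hq.z2, hq.z1, hii, hkk, hji⟩
  refine ⟨hQ, ?_⟩
  rw [e0]
  symm
  refine Subgroup.eq_of_le_of_card_ge ?_ (by rw [hQ.card, hq.card])
  rw [Subgroup.closure_le]
  rintro x (rfl | rfl)
  · exact hiQ
  · exact hkQ

/-- an element `u` with `u³ = 1` normalising `O₂(J)` and not centralising it permutes `i → k → i k` -/
theorem exists_perm [Finite Y] {J : Subgroup Y} {j u : Y} (h : IsPr J j) (hj : ∀ y : Y, y * j = j * y)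
    (hu : ∀ y ∈ J, y * y = j → u * y * u⁻¹ ∈ J) (h3 : u * u * u = 1)
    (hne : ¬ ∀ y ∈ J, y * y = j → u * y = y * u) :
    (∀ y ∈ J, y * y = j → u * y ≠ y * u) ∧
    ∃ i k, i ∈ J ∧ k ∈ J ∧ Qt j i k ∧ QQ J j = Subgroup.closure {i, k} ∧ u * i * u⁻¹ = k ∧ u * k * u⁻¹ = i * k := by
  have hz := h.t3.z_ne
  have hzz := h.t3.z_sq
  obtain ⟨φ, hφ⟩ : ∃ φ : Y →* Y, ∀ y, u * y * u⁻¹ = φ y := ⟨(MulAut.conj u).toMonoidHom, fun y => rfl⟩
  have hju : φ j = j := by rw [← hφ, hj u]; group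
  have hfx : ∀ y : Y, u * y = y * u ↔ φ y = y := fun y => by rw [← hφ, mul_inv_eq_iff_eq_mul]
  simp only [hφ] at hu ⊢
  simp only [ne_eq, hfx] at hne ⊢
  have hsq : ∀ y : Y, y * y = j → φ y * φ y = j := by
    intro y hy
    rw [← map_mul, hy, hju]
  have hcube : ∀ y : Y, φ (φ (φ y)) = y := by
    intro y
    rw [← hφ, ← hφ, ← hφ]
    calc u * (u * (u * y * u⁻¹) * u⁻¹) * u⁻¹ = (u * u * u) * y * (u * u * u)⁻¹ := by group
      _ = y := by rw [h3]; group
  -- `u y u⁻¹ ≠ j y`
  have hneg : ∀ y : Y, φ y ≠ j * y := by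
    intro y hy
    have h4 := hcube y
    rw [hy, map_mul, hju, hy, ← mul_assoc, hzz, one_mul, hy] at h4
    apply hz
    exact mul_right_cancel (h4.trans (one_mul y).symm)
  -- no element of order 4 is fixed
  have hfix : ∀ y ∈ J, y * y = j → ¬ φ y = y := by
    intro i hi hii hui'
    apply hne
    intro k hk hkk
    by_cases h4 : k = i
    · rw [h4]; exact hui'
    by_cases h5 : k = j * i
    · rw [h5, map_mul, hju, hui']
    obtain ⟨hQ, hQQ⟩ := qt_of_QQ h hi hk hii hkk h4 h5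
    have hk' := hu k hk hkk
    have hk'Q : φ k ∈ Subgroup.closure ({i, k} : Set Y) := by rw [← hQQ]; exact mem_QQ hk' (hsq k hkk)
    have hsk := hsq k hkk
    have hc := hcube k
    rcases hQ.mem_cases hk'Q with e | e | e | e | e | e | e | e
    · exfalso; rw [e, one_mul] at hsk; exact hz hsk.symm
    · exfalso; rw [e, hzz] at hsk; exact hz hsk.symm
    · exfalso
      rw [e, hui', hui'] at hc
      exact h4 hc.symm
    · exfalso
      rw [e, map_mul, hju, hui', map_mul, hju, hui'] at hc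
      exact h5 hc.symm
    · exact e
    · exact absurd e (hneg k)
    · exfalso
      rw [e, map_mul, hui', e, map_mul, map_mul, hui', e] at hc
      -- `i * (i * (i * k)) = k`
      rw [← mul_assoc i i, hii] at hc
      have : j * (i * k) = 1 * k := by rw [one_mul]; exact hc
      rw [← mul_assoc] at this
      have h6 := mul_right_cancel this
      have h7 : i = j := by
        calc i = j * (j * i) := by rw [← mul_assoc, hzz, one_mul]
          _ = j := by rw [h6, mul_one]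
      rw [h7, hzz] at hii
      exact hz hii.symm
    · exfalso
      have e1 : φ (φ k) = j * k := by
        rw [e, map_mul, map_mul, hju, hui', e, hQ.izx, hQ.zz, ← mul_assoc, hii]
      rw [e1, map_mul, hju, e, hQ.zz] at hc
      have h9 : i * k = 1 * k := by rw [one_mul]; exact hc
      have h10 := mul_right_cancel h9
      rw [h10, one_mul] at hii
      exact hz hii.symm
  refine ⟨hfix, ?_⟩
  obtain ⟨i, hi, -, -, hii, -, -⟩ := h.t3.ex4
  set k := φ i with hk
  have hkJ : k ∈ J := hu i hi hii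
  have hkk : k * k = j := hsq i hii
  have h4 : k ≠ i := hfix i hi hii
  have h5 : k ≠ j * i := hneg i
  obtain ⟨hQ, hQQ⟩ := qt_of_QQ h hi hkJ hii hkk h4 h5
  set l := φ k with hl
  have hlJ : l ∈ J := hu k hkJ hkk
  have hll : l * l = j := hsq k hkk
  have hul : φ l = i := hcube i
  have hlQ : l ∈ Subgroup.closure ({i, k} : Set Y) := by rw [← hQQ]; exact mem_QQ hlJ hll
  rcases hQ.mem_cases hlQ with e | e | e | e | e | e | e | e
  · exfalso; rw [e, one_mul] at hll; exact hz hll.symm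
  · exfalso; rw [e, hzz] at hll; exact hz hll.symm
  · exfalso
    rw [e, ← hk] at hul
    exact h4 hul
  · exfalso
    rw [e, map_mul, hju, ← hk] at hul
    apply h5
    rw [← hul, ← mul_assoc, hzz, one_mul]
  · exfalso
    exact hfix k hkJ hkk e
  · exact absurd e (hneg k)
  · exact ⟨i, k, hi, hkJ, hQ, hQQ, hk.symm, hl.symm.trans e⟩
  · have hjJ : j ∈ J := h.mem
    have e1 : (j * i) * (j * i) = j := by
      rw [mul_assoc, hQ.izx, hQ.zz, hii]
    have e2 : (j * k) * (j * k) = j := by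
      rw [mul_assoc, hQ.jzx, hQ.zz, hkk]
    have e3 : j * k ≠ j * i := fun h6 => h4 (mul_left_cancel h6)
    have e4 : j * k ≠ j * (j * i) := fun h6 => h5 (mul_left_cancel h6)
    obtain ⟨hQ', hQQ'⟩ := qt_of_QQ h (mul_mem hjJ hi) (mul_mem hjJ hkJ) e1 e2 e3 e4
    refine ⟨j * i, j * k, mul_mem hjJ hi, mul_mem hjJ hkJ, hQ', hQQ', ?_, ?_⟩
    · rw [map_mul, hju, ← hk]
    · rw [map_mul, hju, ← hl, e, ← mul_assoc j j, hzz, one_mul, mul_assoc j i, hQ.izx, hQ.zz]

end quat

section main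

variable {J C M N U V : Subgroup Y} {j : Y}

namespace Rn

theorem cube (H : Rn M N U V) {u : Y} (hu : u ∈ U) : u * u * u = 1 := by
  have h1 : (⟨u, hu⟩ : U) ^ Nat.card U = 1 := pow_card_eq_one'
  rw [H.card] at h1
  have h2 : u ^ 3 = 1 := by simpa using congrArg Subtype.val h1
  rw [← h2, pow_succ, pow_two]

/-- `U` is generated by any of its non-trivial elements -/
theorem gen [Finite Y] (H : Rn M N U V) {u : Y} (hu : u ∈ U) (hu1 : u ≠ 1) : U = Subgroup.zpowers u := by
  symm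
  refine Subgroup.eq_of_le_of_card_ge (by rw [Subgroup.zpowers_le]; exact hu) ?_
  rw [H.card, Nat.card_zpowers]
  have h1 : orderOf u = 3 := orderOf_eq_prime (by rw [pow_succ, pow_two]; exact H.cube hu) hu1
  rw [h1]

theorem comm_of_gen [Finite Y] (H : Rn M N U V) {u : Y} (hu : u ∈ U) (hu1 : u ≠ 1) {t : Y} (ht : u * t = t * u) :
    ∀ v ∈ U, t * v = v * t := by
  rw [H.gen hu hu1]
  rintro _ ⟨k, rfl⟩
  exact (Commute.zpow_right (show Commute t u from ht.symm) k)

/-- the four cosets of `N ∩ C(U)` -/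
theorem cosets [Finite Y] (H : Rn M N U V) {a b c : Y} (haN : a ∈ N) (hbN : b ∈ N) (hcN : c ∈ N)
    (ha : a ∉ Subgroup.centralizer (U : Set Y)) (hb : b ∉ Subgroup.centralizer (U : Set Y))
    (hc : c ∉ Subgroup.centralizer (U : Set Y)) (hab : a⁻¹ * b ∉ Subgroup.centralizer (U : Set Y))
    (hac : a⁻¹ * c ∉ Subgroup.centralizer (U : Set Y)) (hbc : b⁻¹ * c ∉ Subgroup.centralizer (U : Set Y))
    {y : Y} (hy : y ∈ N) : ∃ x, (x = 1 ∨ x = a ∨ x = b ∨ x = c) ∧ x ∈ N ∧
      x⁻¹ * y ∈ N ∧ x⁻¹ * y ∈ Subgroup.centralizer (U : Set Y) := by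
  have h1 : ((Subgroup.centralizer (U : Set Y)).subgroupOf N).index = 4 := by
    have h2 := Subgroup.card_mul_index ((Subgroup.centralizer (U : Set Y)).subgroupOf N)
    have h3 : Nat.card ((Subgroup.centralizer (U : Set Y)).subgroupOf N) =
        Nat.card (N ⊓ Subgroup.centralizer (U : Set Y) : Subgroup Y) := by
      rw [← Subgroup.inf_subgroupOf_left]
      exact Nat.card_congr (Subgroup.subgroupOfEquivOfLe inf_le_left).toEquiv
    rw [h3, ← H.four, mul_comm] at h2
    exact Nat.eq_of_mul_eq_mul_right Nat.card_pos h2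
  rcases four_cosets h1 (a := ⟨a, haN⟩) (b := ⟨b, hbN⟩) (c := ⟨c, hcN⟩) ha hb hc hab hac hbc ⟨y, hy⟩ with
    h2 | h2 | h2 | h2
  · exact ⟨1, Or.inl rfl, one_mem _, by rw [inv_one, one_mul]; exact hy, by rw [inv_one, one_mul]; exact h2⟩
  · exact ⟨a, Or.inr (Or.inl rfl), haN, mul_mem (inv_mem haN) hy, h2⟩
  · exact ⟨b, Or.inr (Or.inr (Or.inl rfl)), hbN, mul_mem (inv_mem hbN) hy, h2⟩
  · exact ⟨c, Or.inr (Or.inr (Or.inr rfl)), hcN, mul_mem (inv_mem hcN) hy, h2⟩

/-- the elements of `U` normalise `J` -/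
theorem mem_normalizer [Finite Y] (H : Rn M N U V) (hO : pPrimeCore 2 ↥C = ⊥) (hj : ∀ y : Y, y * j = j * y)
    (h : IsPr J j) (hs : Sn J C) (hMC : M ≤ C) (hQN : QQ J j ≤ N) {u : Y} (hu : u ∈ U) :
    u ∈ Subgroup.normalizer (J : Set Y) := by
  rw [mem_normalizer_iff_cj]
  by_contra hne
  have hu1 : u ≠ 1 := by
    rintro rfl
    exact hne (cj_one J)
  have h3 := H.cube hu
  have huM := H.UM hu
  have huC := hMC huM
  have huN := H.norm huM
  -- conjugates
  have hcj : ∀ g ∈ C, cj g J ≠ J → ∀ x ∈ J, ∀ y ∈ cj g J, x * y = y * x := by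
    intro g hg hgne
    have h1 : IsSl (cj g J) j := by
      have h2 := (show IsSl J j from h.sl).cj g
      have h3 : g * j * g⁻¹ = j := by rw [hj g]; group
      rwa [h3] at h2
    have h2 : Sn (cj g J) C := by
      have := hs.cj g
      rwa [mem_normalizer_iff_cj.1 (Subgroup.le_normalizer hg)] at this
    rcases eq_or_comm hO (fun x _ => hj x) h.sl h1 hs h2 with h3 | h3
    · exact absurd h3.symm hgne
    · exact h3
  have hne2 : cj (u * u) J ≠ J := by
    intro h1
    apply hne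
    have h2 := congrArg (cj u) h1
    rw [← cj_mul, ← mul_assoc, h3, cj_one] at h2
    exact h2.symm
  have c1 := hcj u huC hne
  have c2 := hcj (u * u) (mul_mem huC huC) hne2
  -- `φ y = u y u⁻¹`
  obtain ⟨φ, hφ⟩ : ∃ φ : Y →* Y, ∀ y, u * y * u⁻¹ = φ y := ⟨(MulAut.conj u).toMonoidHom, fun y => rfl⟩
  have hcube : ∀ y : Y, φ (φ (φ y)) = y := by
    intro y
    rw [← hφ, ← hφ, ← hφ]
    calc u * (u * (u * y * u⁻¹) * u⁻¹) * u⁻¹ = (u * u * u) * y * (u * u * u)⁻¹ := by group
      _ = y := by rw [h3]; group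
  have hφ1 : ∀ y ∈ J, φ y ∈ cj u J := fun y hy => by rw [← hφ]; exact conj_mem_cj hy
  have hφ2 : ∀ y ∈ J, φ (φ y) ∈ cj (u * u) J := fun y hy => by
    rw [← hφ, ← hφ]
    have : u * (u * y * u⁻¹) * u⁻¹ = (u * u) * y * (u * u)⁻¹ := by group
    rw [this]; exact conj_mem_cj hy
  have k01 : ∀ x ∈ J, ∀ y ∈ J, Commute x (φ y) := fun x hx y hy => c1 x hx _ (hφ1 y hy)
  have k02 : ∀ x ∈ J, ∀ y ∈ J, Commute x (φ (φ y)) := fun x hx y hy => c2 x hx _ (hφ2 y hy)
  have k12 : ∀ x ∈ J, ∀ y ∈ J, Commute (φ x) (φ (φ y)) := fun x hx y hy => by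
    have h1 := k01 x hx y hy
    exact h1.map φ
  -- the elements
  obtain ⟨a, ha, b, hb, haj, hbj, hab⟩ := h.t3.ex4
  have haN : a ∈ N := hQN (mem_QQ ha haj)
  have hbN : b ∈ N := hQN (mem_QQ hb hbj)
  have hφN : ∀ y ∈ N, φ y ∈ N := fun y hy => by
    rw [← hφ]; exact (Subgroup.mem_normalizer_iff.1 huN y).1 hy
  have huL : u ∈ U ⊔ V := Subgroup.mem_sup_left hu
  have hφL : ∀ y ∈ U ⊔ V, φ y ∈ U ⊔ V := fun y hy => by
    rw [← hφ]; exact mul_mem (mul_mem huL hy) (inv_mem huL)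
  have hnL : ∀ y ∈ N, y⁻¹ * φ y ∈ U ⊔ V := by
    intro y hy
    rw [← hφ]
    have h1 : y⁻¹ * u * y⁻¹⁻¹ ∈ U ⊔ V :=
      (Subgroup.mem_normalizer_iff.1 (H.normL (H.NM (inv_mem hy))) u).1 huL
    have h2 : y⁻¹ * (u * y * u⁻¹) = (y⁻¹ * u * y⁻¹⁻¹) * u⁻¹ := by group
    rw [h2]; exact mul_mem h1 (inv_mem huL)
  -- elements of `N` commuting with `u` commute with `⟨U, V⟩`
  have hcL : ∀ t ∈ N, φ t = t → ∀ l ∈ U ⊔ V, Commute t l := by
    intro t ht htu l hl
    have h1 : u * t = t * u := by rw [← hφ, mul_inv_eq_iff_eq_mul] at htu; exact htu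
    have h2 := H.comm_of_gen hu hu1 h1
    have h4 := H.cent t ht h2
    have h5 : U ⊔ V ≤ Subgroup.centralizer ({t} : Set Y) := by
      refine sup_le (fun x hx => ?_) (fun x hx => ?_)
      · rw [Subgroup.mem_centralizer_singleton_iff]; exact (h2 x hx).symm
      · rw [Subgroup.mem_centralizer_singleton_iff]; exact (h4 x hx).symm
    exact (Subgroup.mem_centralizer_singleton_iff.1 (h5 hl)).symm
  have hcen : ∀ t, t ∈ Subgroup.centralizer (U : Set Y) ↔ φ t = t := by
    intro t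
    rw [← hφ, mul_inv_eq_iff_eq_mul]
    constructor
    · intro h1
      exact Subgroup.mem_centralizer_iff.1 h1 u hu
    · intro h1
      rw [Subgroup.mem_centralizer_iff]
      intro v hv
      exact (H.comm_of_gen hu hu1 h1 v hv).symm
  set x := a⁻¹ * φ a with hx
  set y := φ (b⁻¹ * φ b) with hy
  have hxN : x ∈ N := mul_mem (inv_mem haN) (hφN a haN)
  have hyN : y ∈ N := hφN _ (mul_mem (inv_mem hbN) (hφN b hbN))
  have hxL : x ∈ U ⊔ V := hnL a haN
  have hyL : y ∈ U ⊔ V := hφL _ (hnL b hbN)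
  have hy' : y = (φ b)⁻¹ * φ (φ b) := by rw [hy, map_mul, map_inv]
  -- `x` and `y` do not commute
  have hxy : ¬ Commute x y := by
    intro h1
    have h2 : x * y = y * x := h1
    rw [hy', hx] at h2
    have e1 := (k01 a ha b hb)
    have e2 := (k02 a ha b hb)
    have e3 := (k12 a ha b hb)
    -- cancel `a⁻¹` and `φ (φ b)`
    have h4 : a⁻¹ * φ a * ((φ b)⁻¹ * φ (φ b)) = a⁻¹ * (φ a * (φ b)⁻¹) * φ (φ b) := by group
    have h5 : (φ b)⁻¹ * φ (φ b) * (a⁻¹ * φ a) = a⁻¹ * ((φ b)⁻¹ * φ a) * φ (φ b) := by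
      have c1 : Commute ((φ b)⁻¹) a⁻¹ := e1.symm.inv_inv
      have c2 : Commute (φ (φ b)) a⁻¹ := e2.symm.inv_right
      have c3 : Commute (φ (φ b)) (φ a) := e3.symm
      calc (φ b)⁻¹ * φ (φ b) * (a⁻¹ * φ a) = (φ b)⁻¹ * (φ (φ b) * a⁻¹) * φ a := by group
        _ = (φ b)⁻¹ * (a⁻¹ * φ (φ b)) * φ a := by rw [c2.eq]
        _ = ((φ b)⁻¹ * a⁻¹) * (φ (φ b) * φ a) := by group
        _ = (a⁻¹ * (φ b)⁻¹) * (φ a * φ (φ b)) := by rw [c1.eq, c3.eq]
        _ = a⁻¹ * ((φ b)⁻¹ * φ a) * φ (φ b) := by group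
    rw [h4, h5] at h2
    have h6 : φ a * (φ b)⁻¹ = (φ b)⁻¹ * φ a := mul_left_cancel (mul_right_cancel h2)
    have h7 : Commute (φ a) (φ b) := by
      have h8 : Commute (φ a) (φ b)⁻¹ := h6
      simpa using h8.inv_right
    have h9 := (h7.map φ).map φ
    rw [hcube, hcube] at h9
    exact hab h9
  -- `x` commutes with `φ x`, `φ (φ x)`
  have hxx1 : Commute x (φ x) := by
    have e1 := k01 a ha a ha
    have e2 := k02 a ha a ha
    have e3 := k12 a ha a ha
    have h1 : φ x = (φ a)⁻¹ * φ (φ a) := by rw [hx, map_mul, map_inv]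
    rw [h1, hx]
    refine Commute.mul_left ?_ ?_
    · exact (e1.inv_inv).mul_right (e2.inv_left)
    · exact ((Commute.refl (φ a)).inv_right).mul_right e3
  have hxx2 : Commute x (φ (φ x)) := by
    have h1 := (hxx1.map φ).map φ
    rw [hcube] at h1
    exact h1.symm
  -- the case `x ∈ C(U)`
  by_cases hxc : φ x = x
  · exact hxy (hcL x hxN hxc y hyL)
  have hφxN := hφN x hxN
  have hφφxN := hφN _ hφxN
  have hn1 : x ∉ Subgroup.centralizer (U : Set Y) := fun h1 => hxc ((hcen x).1 h1)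
  have hn2 : φ x ∉ Subgroup.centralizer (U : Set Y) := by
    intro h1
    have h2 := (hcen _).1 h1
    apply hxc
    have h4 := congrArg φ h2
    rw [hcube] at h4
    rw [h2] at h4
    exact h4.symm
  have hn3 : φ (φ x) ∉ Subgroup.centralizer (U : Set Y) := by
    intro h1
    have h2 := (hcen _).1 h1
    rw [hcube] at h2
    apply hxc
    have h4 := congrArg φ h2
    rw [hcube] at h4
    exact h4
  have hn4 : x⁻¹ * φ x ∉ Subgroup.centralizer (U : Set Y) := by
    intro h1
    set c := x⁻¹ * φ x with hc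
    have h2 : φ c = c := (hcen _).1 h1
    have hcN : c ∈ N := mul_mem (inv_mem hxN) hφxN
    have e1 : φ x = x * c := by rw [hc]; group
    have e2 := hcube x
    rw [e1, map_mul, e1, h2, map_mul, map_mul, e1, h2] at e2
    have e3 : c * c * c = 1 := by
      have : x * (c * c * c) = x * 1 := by
        rw [mul_one]
        calc x * (c * c * c) = x * c * c * c := by group
          _ = x := e2
      exact mul_left_cancel this
    obtain ⟨m, hm⟩ := H.two ⟨c, hcN⟩
    have e4 : c = 1 := SLThree.Sl.eq_one_of_cube e3 (n := m) (by simpa using congrArg Subtype.val hm)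
    rw [e4, mul_one] at e1
    exact hxc e1
  have hn6 : (φ x)⁻¹ * φ (φ x) ∉ Subgroup.centralizer (U : Set Y) := by
    intro h1
    have h2 := (hcen _).1 h1
    apply hn4
    rw [hcen]
    have h4 : φ (x⁻¹ * φ x) = (φ x)⁻¹ * φ (φ x) := by rw [map_mul, map_inv]
    rw [← h4] at h2
    have h5 := congrArg φ h2
    rw [hcube] at h5
    rw [h2] at h5
    exact h5.symm
  have hn5 : x⁻¹ * φ (φ x) ∉ Subgroup.centralizer (U : Set Y) := by
    intro h1
    have h2 := (hcen _).1 h1
    apply hn4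
    rw [map_mul, map_inv, hcube] at h2
    -- `(φ x)⁻¹ * x = x⁻¹ * φ (φ x)` lies in the centralizer
    have h4 : (φ x)⁻¹ * x ∈ Subgroup.centralizer (U : Set Y) := by rw [h2]; exact h1
    have h5 := inv_mem h4
    rwa [mul_inv_rev, inv_inv] at h5
  obtain ⟨s, hsx, -, hs1, hs2⟩ := H.cosets hxN hφxN hφφxN hn1 hn2 hn3 hn4 hn5 hn6 hyN
  apply hxy
  have h1 : Commute x (s⁻¹ * y) := (hcL _ hs1 ((hcen _).1 hs2) x hxL).symm
  have h2 : Commute x s := by
    rcases hsx with rfl | rfl | rfl | rfl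
    · exact Commute.one_right x
    · exact Commute.refl x
    · exact hxx1
    · exact hxx2
  have h4 := h2.mul_right h1
  rwa [mul_inv_cancel_left] at h4

end Rn

/-- **the rank one group is `J`** -/
theorem eq_sup [Finite Y] (H : Rn M N U V) (hO : pPrimeCore 2 ↥C = ⊥)
    (hj : ∀ y : Y, y * j = j * y) (h : IsPr J j) (hs : Sn J C) (hMC : M ≤ C) (hsL : Sn (U ⊔ V) C)
    (hQN : QQ J j ≤ N) (hne : ¬ ∀ q ∈ QQ J j, ∀ u ∈ U, q * u = u * q) : J = U ⊔ V := by
  have hUJ : U ≤ Subgroup.normalizer (J : Set Y) := fun u hu => H.mem_normalizer hO hj h hs hMC hQN hu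
  obtain ⟨u, hu, hu1⟩ : ∃ u ∈ U, u ≠ 1 := by
    by_contra h0
    push Not at h0
    have h1 : U = ⊥ := (Subgroup.eq_bot_iff_forall _).2 h0
    have h2 := H.card
    rw [h1, Subgroup.card_bot] at h2
    omega
  have h3 := H.cube hu
  obtain ⟨hfix, i, k, hi, hk, hQ, hQQ, hik, hkk⟩ := exists_perm (u := u) h hj
    (fun y hy _ => (Subgroup.mem_normalizer_iff.1 (hUJ hu) y).1 hy) h3 (by
      intro h1
      apply hne
      intro q hq v hv
      refine H.comm_of_gen hu hu1 ?_ v hv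
      rcases QQ_cases h hq with h2 | h2 | h2
      · exact h1 q (QQ_le hq) h2
      · rw [h2, mul_one, one_mul]
      · rw [h2]; exact hj u)
  have hz := h.t3.z_ne
  have hiN : i ∈ N := hQN (mem_QQ hi hQ.i2)
  have hkN : k ∈ N := hQN (mem_QQ hk hQ.j2)
  have hjN : j ∈ N := hQN (mem_z_QQ h)
  have hikJ : i * k ∈ J := mul_mem hi hk
  have hiksq : (i * k) * (i * k) = j := by
    calc (i * k) * (i * k) = i * (k * i) * k := by group
      _ = i * (j * (i * k)) * k := by rw [hQ.ji]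
      _ = j * ((i * i) * (k * k)) := by rw [hQ.izx]; group
      _ = j := by rw [hQ.i2, hQ.j2, hQ.z2, mul_one]
  -- elements of order 4 of `J` are not in the centralizer of `U`
  have hn : ∀ y ∈ J, y * y = j → y ∉ Subgroup.centralizer (U : Set Y) := by
    intro y hy hyj h1
    exact hfix y hy hyj (Subgroup.mem_centralizer_iff.1 h1 u hu)
  have e1 : i⁻¹ * k = j * (i * k) := by rw [hQ.i_inv, mul_assoc]
  have e2 : i⁻¹ * (i * k) = k := by group
  have e3 : k⁻¹ * (i * k) = j * i := by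
    rw [hQ.j_inv]
    calc j * k * (i * k) = j * ((k * i) * k) := by group
      _ = j * (j * (i * k) * k) := by rw [hQ.ji]
      _ = j * (j * (i * (k * k))) := by group
      _ = i * j := by rw [hQ.j2, ← mul_assoc j j, hQ.z2, one_mul]
      _ = j * i := hQ.iz
  have sqj : ∀ y : Y, y * y = j → (j * y) * (j * y) = j := by
    intro y hy
    calc (j * y) * (j * y) = j * (y * j) * y := by group
      _ = j * (j * y) * y := by rw [hj y]
      _ = (j * j) * (y * y) := by group
      _ = j := by rw [hQ.z2, one_mul, hy]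
  -- `U ⊔ V = closure {i, u}`
  have hgen : U ⊔ V = Subgroup.closure {i, u} := by
    apply le_antisymm
    · have hUc : U ≤ Subgroup.closure ({i, u} : Set Y) := by
        rw [H.gen hu hu1, Subgroup.zpowers_le]
        exact Subgroup.subset_closure (by simp)
      have hic : i ∈ Subgroup.closure ({i, u} : Set Y) := Subgroup.subset_closure (by simp)
      have huc : u ∈ Subgroup.closure ({i, u} : Set Y) := Subgroup.subset_closure (by simp)
      have hkc : k ∈ Subgroup.closure ({i, u} : Set Y) := by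
        rw [← hik]; exact mul_mem (mul_mem huc hic) (inv_mem huc)
      refine sup_le hUc ?_
      obtain ⟨nn, hnn, hV⟩ := H.conj
      obtain ⟨m, hm, hmn⟩ := H.all nn hnn
      have hV' : V = cj m U := by
        have h4 : nn = m * (m⁻¹ * nn) := by group
        rw [hV, h4, cj_mul, mem_normalizer_iff_cj.1 hmn]
      obtain ⟨x, hx, -, -, hx2⟩ := H.cosets (a := i) (b := k) (c := i * k) hiN hkN (mul_mem hiN hkN) (hn i hi hQ.i2)
        (hn k hk hQ.j2) (hn _ hikJ hiksq) (by rw [e1]; exact hn _ (mul_mem h.mem hikJ) (sqj _ hiksq))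
        (by rw [e2]; exact hn k hk hQ.j2) (by rw [e3]; exact hn _ (mul_mem h.mem hi) (sqj _ hQ.i2)) hm
      have hxc : x ∈ Subgroup.closure ({i, u} : Set Y) := by
        rcases hx with rfl | rfl | rfl | rfl
        · exact one_mem _
        · exact hic
        · exact hkc
        · exact mul_mem hic hkc
      have hV2 : V = cj x U := by
        have h4 : m = x * (x⁻¹ * m) := by group
        have h5 : x⁻¹ * m ∈ Subgroup.normalizer (U : Set Y) := Nodes.ClsNorm.centralizer_le_normalizer' _ hx2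
        rw [hV', h4, cj_mul, mem_normalizer_iff_cj.1 h5]
      rw [hV2]
      rintro _ ⟨v, hv, rfl⟩
      exact mul_mem (mul_mem hxc (hUc hv)) (inv_mem hxc)
    · rw [Subgroup.closure_le]
      have huL : u ∈ U ⊔ V := Subgroup.mem_sup_left hu
      rintro y (rfl | rfl)
      · -- `i⁻¹ k ∈ L`
        have h1 : y⁻¹ * k ∈ U ⊔ V := by
          rw [← hik]
          have h2 : y⁻¹ * u * y⁻¹⁻¹ ∈ U ⊔ V :=
            (Subgroup.mem_normalizer_iff.1 (H.normL (H.NM (inv_mem hiN))) u).1 huL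
          have h4 : y⁻¹ * (u * y * u⁻¹) = (y⁻¹ * u * y⁻¹⁻¹) * u⁻¹ := by group
          rw [h4]; exact mul_mem h2 (inv_mem huL)
        have h2 : k⁻¹ * (y * k) ∈ U ⊔ V := by
          have h4 : k⁻¹ * (y * k) = u * (y⁻¹ * k) * u⁻¹ := by
            rw [← hkk]
            have h5 : k⁻¹ * (u * k * u⁻¹) = (u * y * u⁻¹)⁻¹ * (u * k * u⁻¹) := by rw [hik]
            rw [h5]; group
          rw [h4]; exact mul_mem (mul_mem huL h1) (inv_mem huL)
        rw [e3] at h2
        have h4 : j ∈ U ⊔ V := by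
          rw [← sqj y hQ.i2]; exact mul_mem h2 h2
        exact (Subgroup.mul_mem_cancel_left _ h4).1 h2
      · exact huL
  have hSl : Sl (U ⊔ V) j i k u := ⟨hQ, hik, hkk, h3, hgen⟩
  rcases eq_or_comm hO (fun x _ => hj x) h.sl ⟨i, k, u, hSl⟩ hs hsL with h1 | h1
  · exact h1
  · exact absurd (h1 i hi k hSl.hj) hQ.not_comm

end main

end Cfsg.Agent.OddHalf.NI3.FThree
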