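import Cfsg.Agent.OddHalf.NI3.FThree.A
import Cfsg.Agent.OddHalf.NI3.FThree.Eq
import Cfsg.Agent.OddHalf.NI.FTwo.ChartMain

/-!
# (F2'₃): kind `B₃`

* `St.levi_sn` : `⟨X b, X (-b)⟩` is subnormal in `C(z r)`;
* `St.eq_LL` : `J = ⟨X b, X (-b)⟩`, `|X b| = 3`.
-/

set_option autoImplicit false
set_option linter.unusedSectionVars false
set_option linter.dupNamespace false

namespace Cfsg.Agent.OddHalf.NI3.FThree

open Cfsg
open CoxeterSystem Cfsg.Agent.ChevalleyStructure.CoxeterGeom Cfsg.Agent.Tits.Roots Cfsg.Agent.Tits.Core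
  Cfsg.Agent.Tits.RootComb Cfsg.Agent.Nodes.Comb Cfsg.Agent.Nodes.Reps Cfsg.Agent.Nodes.BNOf
  Cfsg.Agent.Nodes.RGDLib Cfsg.Agent.Nodes.Chart Cfsg.Agent.Nodes.Coroot Cfsg.Agent.Nodes.FreeTorus
  Cfsg.Agent.Nodes.SubComb Cfsg.Agent.Nodes.Bruhat Cfsg.Agent.Nodes.StabComb Cfsg.Agent.Nodes.Perp
  Cfsg.Agent.Nodes.Sub Cfsg.Agent.Nodes.ClsSub
open Cfsg.Agent.OddHalf.NI.FTwo (R1 commute_cj mem_of_sq_mem cj_T cj_LL le_T_DD₂)

variable {I W Y : Type*} [Fintype I] [DecidableEq I] [Group W] [Fintype W] [Group Y] {M : CoxeterMatrix I}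
  {cs : CoxeterSystem M W} {A : I → I → ℤ} {h : IsCartan M A} {p : ℕ} {T : Subgroup Y} {n : I → Y}
  {X : (I → ℤ) → Subgroup Y} {R : Set (I → ℤ)} {Z : (I → ℤ) → Subgroup Y} {z : (I → ℤ) → Y}
  {J : Subgroup Y} {j : Y} {r : I → ℤ}

/-- the roots orthogonal to `r` in kind `B₃` -/
structure Fr (cs : CoxeterSystem M W) {A : I → I → ℤ} (h : IsCartan M A) (X : (I → ℤ) → Subgroup Y)
    (R : Set (I → ℤ)) (Z : (I → ℤ) → Subgroup Y) (r r' b : I → ℤ) : Prop where
  r'_mem : r' ∈ R
  rr' : form cs h r' r = 0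
  b_root : IsRoot cs h b
  b_not : b ∉ R
  br : form cs h b r = 0
  br' : form cs h b r' = 0
  perp : ∀ y, IsRoot cs h y → form cs h y r = 0 → y = r' ∨ y = -r' ∨ y = b ∨ y = -b
  zx : ∀ s ∈ R, Z s = X s
  ab : ∀ x ∈ X b, ∀ y ∈ X b, x * y = y * x

namespace St

/-- `p = 3` -/
theorem p_eq [Finite Y] (C : Cls cs h p T n X R Z z) (S : St cs h p T X R Z z r J j) : p = 3 := by
  have : Fact p.Prime := ⟨S.prime⟩
  have h1 : Nat.card (KK Z r) = 24 := by
    obtain ⟨i, k, d, hl⟩ := (S.cl r S.mem).pr.sl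
    exact hl.card
  have hp : IsPGroup p (Z r) := (C.rgd.pgrp' (C.root r S.mem)).to_le (C.le r S.mem)
  obtain ⟨m, hm⟩ := IsPGroup.iff_card.1 hp
  have h2 : Nat.card (Z r) ∣ Nat.card (KK Z r) := Subgroup.card_dvd_of_le le_sup_left
  have h3 : m ≠ 0 := by
    rintro rfl
    rw [pow_zero] at hm
    exact C.ne_bot r S.mem (Subgroup.eq_bot_of_card_eq _ hm)
  have h4 : p ∣ 24 := by
    rw [← h1]
    refine dvd_trans ?_ h2
    rw [hm]; exact dvd_pow_self p h3
  have h5 : p ∣ 2 ^ 3 * 3 := by norm_num; exact h4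
  rcases (Nat.Prime.dvd_mul S.prime).1 h5 with h6 | h6
  · exact absurd ((Nat.prime_dvd_prime_iff_eq S.prime Nat.prime_two).1 (S.prime.dvd_of_dvd_pow h6)) S.odd
  · exact (Nat.prime_dvd_prime_iff_eq S.prime Nat.prime_three).1 h6

/-- `|Z s| = 3` -/
theorem card_Z [Finite Y] (C : Cls cs h p T n X R Z z) (S : St cs h p T X R Z z r J j) {s : I → ℤ} (hs : s ∈ R) :
    Nat.card (Z s) = 3 := by
  have h0 := S.p_eq C
  have : Fact (Nat.Prime 3) := ⟨Nat.prime_three⟩
  have h1 : Nat.card (KK Z s) = 24 := by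
    obtain ⟨i, k, d, hl⟩ := (S.cl s hs).pr.sl
    exact hl.card
  have hp : IsPGroup 3 (Z s) := by
    rw [← h0]; exact (C.rgd.pgrp' (C.root s hs)).to_le (C.le s hs)
  obtain ⟨m, hm⟩ := IsPGroup.iff_card.1 hp
  have h2 : Nat.card (Z s) ∣ Nat.card (KK Z s) := Subgroup.card_dvd_of_le le_sup_left
  rw [hm, h1] at h2
  have h3 : m ≠ 0 := by
    rintro rfl
    rw [pow_zero] at hm
    exact C.ne_bot s hs (Subgroup.eq_bot_of_card_eq _ hm)
  have h4 : m < 2 := by
    by_contra h5
    push Not at h5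
    have h6 : 3 ^ 2 ∣ 24 := (pow_dvd_pow 3 h5).trans h2
    norm_num at h6
  have h5 : m = 1 := by omega
  rw [hm, h5, pow_one]

theorem LL_le_cent (C : Cls cs h p T n X R Z z) (S : St cs h p T X R Z z r J j) {b : I → ℤ} (hb : IsRoot cs h b)
    (hbr : form cs h b r = 0) : LL X b ≤ Subgroup.centralizer ({z r} : Set Y) :=
  sup_le (S.zr_comm C hb hbr) (S.zr_comm C hb.neg (by rw [form_neg_left, hbr, neg_zero]))

theorem T_le_cent (C : Cls cs h p T n X R Z z) (S : St cs h p T X R Z z r J j) :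
    T ≤ Subgroup.centralizer ({z r} : Set Y) := fun t ht => mem_cent.2 (C.z_T r S.mem t ht).symm

theorem LL_le_GG' {b : I → ℤ} (hb : IsRoot cs h b) : LL X b ≤ GG cs h T X :=
  sup_le (X_le_GG hb) (X_le_GG hb.neg)

/-- a reflection-type statement: the elements of `N` centralising `z r` preserve `± b` -/
theorem rep_b [Finite Y] (C : Cls cs h p T n X R Z z) (S : St cs h p T X R Z z r J j) {r' b : I → ℤ}
    (F : Fr cs h X R Z r r' b) {w : W} {k : Y} (hk : Rp cs C.rgd.nsys w k) (hkz : k * z r = z r * k) :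
    rep cs h w b = b ∨ rep cs h w b = -b := by
  have hr := S.mem
  have hz1 : z (rep cs h w r) = z r := by
    rw [← Nodes.ClsNorm.conj_z C hk hr, hkz]; group
  have hwR : ∀ y, rep cs h w y ∈ R → y ∈ R := by
    intro y hy
    have := C.act _ hy w⁻¹
    rwa [rep_inv_apply] at this
  have hwR' : ∀ y, rep cs h w⁻¹ y ∈ R → y ∈ R := by
    intro y hy
    have := C.act _ hy w
    rwa [rep_apply_inv] at this
  have hbR : rep cs h w b ∉ R := fun h1 => F.b_not (hwR b h1)
  have hnb : -b ∉ R := fun h1 => F.b_not (by rw [← neg_neg b]; exact Nodes.Perp.neg_mem C h1)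
  have hR1 := C.act r hr w
  -- `w r` is `± r` or orthogonal to `r`
  have hcases : rep cs h w r = r ∨ rep cs h w r = -r ∨ form cs h (rep cs h w r) r = 0 := by
    by_contra hcon
    push Not at hcon
    obtain ⟨c, hc, hc1⟩ := Z_ne_bot' C hR1
    have h1 := C.z_inv r hr _ (C.root _ hR1) hcon.1 hcon.2.1 hcon.2.2 c (C.le _ hR1 hc)
    have h2 := C.z_cent _ hR1 c hc
    rw [hz1] at h2
    rw [h2, mul_assoc, C.z_sq r hr, mul_one] at h1
    obtain ⟨m, hm⟩ := (C.rgd.pgrp' (C.root _ hR1)) ⟨c, C.le _ hR1 hc⟩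
    have h3 : c ∈ (⊥ : Subgroup Y) := by
      refine mem_of_sq_mem (k := p ^ m) ((S.prime.odd_of_ne_two S.odd).pow) (by simpa using congrArg Subtype.val hm) ?_
      rw [Subgroup.mem_bot]
      nth_rewrite 1 [h1]
      exact inv_mul_cancel c
    exact hc1 (Subgroup.mem_bot.1 h3)
  have hb0 : form cs h (rep cs h w b) (rep cs h w r) = 0 := by rw [form_rep]; exact F.br
  have fin1 : form cs h (rep cs h w b) r = 0 → rep cs h w b = b ∨ rep cs h w b = -b := by
    intro h1
    rcases F.perp _ (F.b_root.act w) h1 with h2 | h2 | h2 | h2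
    · exact absurd (h2 ▸ F.r'_mem) hbR
    · exact absurd (h2 ▸ Nodes.Perp.neg_mem C F.r'_mem) hbR
    · exact Or.inl h2
    · exact Or.inr h2
  rcases hcases with h1 | h1 | h1
  · rw [h1] at hb0; exact fin1 hb0
  · rw [h1, form_neg_right, neg_eq_zero] at hb0; exact fin1 hb0
  · -- `w r = ± r'`
    have h2 : rep cs h w r = r' ∨ rep cs h w r = -r' := by
      rcases F.perp _ (C.root _ hR1) h1 with h2 | h2 | h2 | h2
      · exact Or.inl h2
      · exact Or.inr h2
      · exact absurd (h2 ▸ hR1) F.b_not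
      · exact absurd (h2 ▸ hR1) hnb
    have h3 : form cs h b (rep cs h w r) = 0 := by
      rcases h2 with h2 | h2
      · rw [h2]; exact F.br'
      · rw [h2, form_neg_right, F.br', neg_zero]
    have h4 : form cs h (rep cs h w⁻¹ b) r = 0 := by
      rw [form_rep_left, inv_inv]; exact h3
    rcases F.perp _ (F.b_root.act _) h4 with h5 | h5 | h5 | h5
    · exact absurd (hwR' b (h5 ▸ F.r'_mem)) F.b_not
    · exact absurd (hwR' b (h5 ▸ Nodes.Perp.neg_mem C F.r'_mem)) F.b_not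
    · left
      have := congrArg (rep cs h w) h5
      rw [rep_apply_inv] at this
      exact this.symm
    · right
      have := congrArg (rep cs h w) h5
      rw [rep_apply_inv, map_neg] at this
      exact neg_eq_iff_eq_neg.1 this.symm

/-- `⟨X b, X (-b)⟩` is normal in `C_GG(z r)` -/
theorem levi_norm [Finite Y] (C : Cls cs h p T n X R Z z) (S : St cs h p T X R Z z r J j) {r' b : I → ℤ}
    (F : Fr cs h X R Z r r' b) :
    GG cs h T X ⊓ Subgroup.centralizer ({z r} : Set Y) ≤ Subgroup.normalizer (LL X b : Set Y) := by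
  have hr := S.mem
  have hb := F.b_root
  rintro g ⟨hgG, hgz⟩
  have hS : ({z r} : Set Y) ⊆ T := by
    rintro _ rfl
    exact C.z_torus r hr
  obtain ⟨u, hu, w, k, hk, hkz, v, hv, rfl⟩ := Nodes.NormalForm.mem_centralizer C.rgd hS hgG hgz
  -- the root groups
  have hle : RGD.Sup (fun x => X x ⊓ Subgroup.centralizer ({z r} : Set Y)) (RGD.Pos cs h) ≤
      Subgroup.normalizer (LL X b : Set Y) := by
    refine RGD.Sup_le fun x hx => ?_
    have hxr : IsRoot cs h x := hx.1
    -- a member of `R` orthogonal to `b`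
    have hR : ∀ s ∈ R, form cs h b s = 0 → X s ≤ Subgroup.normalizer (LL X b : Set Y) := by
      intro s hs h0
      refine le_trans ?_ (Nodes.ClsNorm.centralizer_le_normalizer' _)
      intro a ha
      rw [Subgroup.mem_centralizer_iff]
      have ha' : a ∈ KK Z s := Subgroup.mem_sup_left (by rw [F.zx s hs]; exact ha)
      have h1 : LL X b ≤ Subgroup.centralizer ({a} : Set Y) := by
        refine sup_le (fun y hy => ?_) (fun y hy => ?_)
        · exact mem_cent.2 (X_cm_KK C hs hb h0 y hy a ha')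
        · exact mem_cent.2 (X_cm_KK C hs hb.neg (by rw [form_neg_left, h0, neg_zero]) y hy a ha')
      intro y hy
      exact mem_cent.1 (h1 hy)
    by_cases h1 : form cs h x r = 0
    · refine inf_le_left.trans ?_
      rcases F.perp x hxr h1 with rfl | rfl | rfl | rfl
      · exact hR _ F.r'_mem F.br'
      · exact hR _ (Nodes.Perp.neg_mem C F.r'_mem) (by rw [form_neg_right, F.br', neg_zero])
      · exact (le_sup_left : X x ≤ LL X x).trans Subgroup.le_normalizer
      · exact (le_sup_right : X (-b) ≤ LL X b).trans Subgroup.le_normalizer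
    · by_cases h2 : x = r
      · refine inf_le_left.trans ?_
        rw [h2]; exact hR r hr F.br
      by_cases h3 : x = -r
      · refine inf_le_left.trans ?_
        rw [h3]; exact hR _ (Nodes.Perp.neg_mem C hr) (by rw [form_neg_right, F.br, neg_zero])
      · rintro a ⟨ha, haz⟩
        have h4 := C.z_inv r hr x hxr h2 h3 h1 a ha
        have h5 : a * z r = z r * a := mem_cent.1 haz
        rw [← h5, mul_assoc, C.z_sq r hr, mul_one] at h4
        obtain ⟨m, hm⟩ := (C.rgd.pgrp' hxr) ⟨a, ha⟩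
        have h6 : a ∈ (⊥ : Subgroup Y) := by
          refine mem_of_sq_mem (k := p ^ m) ((S.prime.odd_of_ne_two S.odd).pow)
            (by simpa using congrArg Subtype.val hm) ?_
          rw [Subgroup.mem_bot]
          nth_rewrite 1 [h4]
          exact inv_mul_cancel a
        rw [Subgroup.mem_bot.1 h6]; exact one_mem _
  refine mul_mem (mul_mem (hle hu) ?_) (hle hv)
  rw [mem_normalizer_iff_cj, cj_LL C.rgd hk hb]
  have hkz' : k * z r = z r * k := mem_cent.1 hkz
  rcases S.rep_b C F hk hkz' with h1 | h1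
  · rw [h1]
  · rw [h1]; unfold LL; rw [neg_neg, sup_comm]

/-- `⟨X b, X (-b)⟩` is subnormal in `C(z r)` -/
theorem levi_sn [Finite Y] (C : Cls cs h p T n X R Z z) (S : St cs h p T X R Z z r J j) {r' b : I → ℤ}
    (F : Fr cs h X R Z r r' b) : Sn (LL X b) (Subgroup.centralizer ({z r} : Set Y)) := by
  have h1 : Sn (LL X b) (GG cs h T X ⊓ Subgroup.centralizer ({z r} : Set Y)) :=
    Sn.of_normal (le_inf (LL_le_GG' F.b_root) (S.LL_le_cent C F.b_root F.br)) (S.levi_norm C F)
  refine h1.trans (Sn.of_normal inf_le_right ?_)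
  exact (le_inf S.norm Subgroup.le_normalizer).trans Subgroup.inf_normalizer_le_normalizer_inf

/-- `O₂(J) ≤ T ⟨X b, X (-b)⟩` -/
theorem QQ_le_T_LL [Finite Y] (C : Cls cs h p T n X R Z z) (S : St cs h p T X R Z z r J j) {r' b : I → ℤ}
    (F : Fr cs h X R Z r r' b) : QQ J j ≤ T ⊔ LL X b := by
  have h1 := le_T_DD₂ C S.mem F.r'_mem F.rr' S.ge (fun x hx y hy => S.comm x (QQ_le hx) y hy)
    (fun x hx y hy => S.KK_comm C F.r'_mem F.rr' x (QQ_le hx) y hy)
  refine h1.trans (sup_le_sup_left (RGD.Sup_le fun y hy => ?_) _)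
  have h2 := hy.2 r (Or.inl rfl)
  have h3 := hy.2 r' (Or.inr rfl)
  have h4 := form_pos cs h (C.root r' F.r'_mem).ne_zero
  rcases F.perp y hy.1 h2 with rfl | rfl | rfl | rfl
  · omega
  · rw [form_neg_left] at h3; omega
  · exact le_sup_left
  · exact le_sup_right

/-- the rank one group of `b` -/
theorem exists_rn [Finite Y] (C : Cls cs h p T n X R Z z) (S : St cs h p T X R Z z r J j) {r' b : I → ℤ}
    (F : Fr cs h X R Z r r' b) (hne : ¬ ∀ q ∈ QQ J j, ∀ u ∈ X b, q * u = u * q) :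
    ∃ N, Rn (T ⊔ LL X b) N (X b) (X (-b)) ∧ QQ J j ≤ N := by
  obtain rfl := S.p_eq C
  have : Fact (Nat.Prime 3) := ⟨Nat.prime_three⟩
  have hb := F.b_root
  set M := T ⊔ LL X b with hM
  set E := GG cs h T X ⊓ Subgroup.centralizer ({z r} : Set Y) with hE
  have hME : M ≤ E := le_inf (sup_le T_le_GG (LL_le_GG' hb)) (sup_le (S.T_le_cent C) (S.LL_le_cent C hb F.br))
  set N := P2 E ⊓ M with hN
  have hN2 : IsPGroup 2 N := (P2_pgrp E).to_le inf_le_left
  have hNM : N ≤ M := inf_le_right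
  have hnorm : M ≤ Subgroup.normalizer (N : Set Y) :=
    (le_inf (hME.trans (le_normalizer_P2 E)) Subgroup.le_normalizer).trans Subgroup.inf_normalizer_le_normalizer_inf
  have hQN : QQ J j ≤ N := by
    refine le_inf (le_P2 ((QQ_sn S.pr S.sn).restrict inf_le_right (le_inf S.ge ?_)) (QQ_pgrp S.pr))
      (S.QQ_le_T_LL C F)
    exact QQ_le.trans S.sn.1
  obtain ⟨nn, hnn, hconj, H⟩ := r1_root C.rgd hb F.ab
  have hXM : X b ≤ M := le_sup_left.trans le_sup_right
  have hXb : X b ≠ ⊥ := Nodes.StdConn.X_ne_bot C hb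
  have hXb' : (X b).subgroupOf M ≠ ⊥ := by
    rw [Ne, Subgroup.subgroupOf_eq_bot, disjoint_iff, inf_eq_left.2 hXM]
    exact hXb
  have hNn : (N.subgroupOf M).Normal := (Subgroup.normal_subgroupOf_iff_le_normalizer hNM).2 hnorm
  have hN2' : IsPGroup 2 (N.subgroupOf M) := hN2.comap_subtype
  have hBn : T ⊔ X b ≤ Subgroup.normalizer (X b : Set Y) :=
    sup_le (fun t ht => mem_normalizer_iff_cj.2 (C.rgd.tor _ hb t ht)) Subgroup.le_normalizer
  have hXp : IsPGroup 3 (X b) := C.rgd.pgrp' hb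
  obtain ⟨hall, hcard, hfour⟩ := two H hNn hN2' (by
    intro h1
    apply hne
    intro q hq u hu
    exact congrArg Subtype.val (h1 ⟨q, hNM (hQN hq)⟩ (hQN hq) ⟨u, hXM hu⟩ hu))
  have hNB : (N ⊓ Subgroup.centralizer (X b : Set Y)).subgroupOf M = N.subgroupOf M ⊓ (T ⊔ X b).subgroupOf M := by
    ext ⟨t, ht⟩
    rw [Subgroup.mem_inf, Subgroup.mem_subgroupOf, Subgroup.mem_subgroupOf, Subgroup.mem_subgroupOf, Subgroup.mem_inf]
    refine and_congr_right fun htN => ⟨fun h1 => ?_, fun h1 => ?_⟩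
    · have h2 : (⟨t, ht⟩ : M) ∈ Subgroup.normalizer ((X b).subgroupOf M : Set M) := by
        rw [Subgroup.mem_normalizer_iff]
        intro x
        have h3 := Nodes.ClsNorm.centralizer_le_normalizer' _ h1
        exact Subgroup.mem_normalizer_iff.1 h3 x
      exact mem_B_of_normalizes H hXb' h2
    · rw [Subgroup.mem_centralizer_iff]
      intro u hu
      exact (comm_of_normalizes hXp hN2 (hXM.trans hnorm) htN (hBn h1) u hu).symm
  refine ⟨N, ?_, hQN⟩
  refine
    { UM := hXM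
      VM := le_sup_right.trans le_sup_right
      NM := hNM
      two := hN2
      norm := hnorm
      card := ?_
      all := ?_
      four := ?_
      cent := ?_
      conj := ⟨nn, hnn, hconj.symm⟩
      normL := ?_ }
  · rw [← hcard]
    exact (Nat.card_congr (Subgroup.subgroupOfEquivOfLe hXM).toEquiv).symm
  · intro g hg
    obtain ⟨m, hm, hmg⟩ := hall ⟨g, hg⟩
    exact ⟨m, hm, hBn hmg⟩
  · rw [← hNB] at hfour
    have e1 : Nat.card ((N ⊓ Subgroup.centralizer (X b : Set Y)).subgroupOf M) =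
        Nat.card (N ⊓ Subgroup.centralizer (X b : Set Y) : Subgroup Y) :=
      Nat.card_congr (Subgroup.subgroupOfEquivOfLe (inf_le_left.trans hNM)).toEquiv
    have e2 : Nat.card (N.subgroupOf M) = Nat.card N := Nat.card_congr (Subgroup.subgroupOfEquivOfLe hNM).toEquiv
    rw [← e1, ← e2]; exact hfour
  · intro t ht htU v hv
    rw [← hconj] at hv
    obtain ⟨u, hu, rfl⟩ := hv
    have h1 := cent H hXb' hNn hN2' (t := ⟨t, hNM ht⟩) ht
      (fun u hu => Subtype.ext (htU u hu)) ⟨u, hXM hu⟩ hu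
    exact congrArg Subtype.val h1
  · refine sup_le (fun t ht => ?_) Subgroup.le_normalizer
    rw [mem_normalizer_iff_cj]
    change Nodes.Reps.cj t (LL X b) = LL X b
    unfold LL
    rw [cj_sup, C.rgd.tor _ hb t ht, C.rgd.tor _ hb.neg t ht]

/-- **`J = ⟨X b, X (-b)⟩`** -/
theorem eq_LL [Finite Y] (C : Cls cs h p T n X R Z z) (S : St cs h p T X R Z z r J j) {r' b : I → ℤ}
    (F : Fr cs h X R Z r r' b) (hne : ¬ ∀ q ∈ QQ J j, ∀ u ∈ X b, q * u = u * q) :
    J = LL X b ∧ Nat.card (X b) = 3 := by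
  obtain ⟨N, H, hQN⟩ := S.exists_rn C F hne
  refine ⟨eq_sup H S.core S.jc S.pr S.sn ?_ (S.levi_sn C F) hQN hne, H.card⟩
  exact sup_le (S.T_le_cent C) (S.LL_le_cent C F.b_root F.br)

end St

end Cfsg.Agent.OddHalf.NI3.FThree
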