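import Cfsg.Agent.OddHalf.NI3.FThree.A
import Cfsg.Agent.OddHalf.NI.FTwo.Comb

/-!
# (F2'₃): root groups commuting with `J`

* `St.X_comm` : `J` commutes with `X y`, `y` orthogonal to `r`, if `y ∈ R` or `y` is not orthogonal to some `s ∈ R`
  orthogonal to `r`;
* `St.comm_or_bad` : if `O₂(J)` does not commute with all `X y`, `y` orthogonal to `r`, there is a root `b ∉ R`
  orthogonal to `r` and to all `s ∈ R` orthogonal to `r` with `X b` not commuting with `O₂(J)`.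
-/

set_option autoImplicit false
set_option linter.unusedSectionVars false
set_option linter.dupNamespace false

namespace Cfsg.Agent.OddHalf.NI3.FThree

open Cfsg
open CoxeterSystem Cfsg.Agent.ChevalleyStructure.CoxeterGeom Cfsg.Agent.Tits.Roots Cfsg.Agent.Tits.Core
  Cfsg.Agent.Tits.RootComb Cfsg.Agent.Nodes.Comb Cfsg.Agent.Nodes.Reps Cfsg.Agent.Nodes.BNOf
  Cfsg.Agent.Nodes.RGDLib Cfsg.Agent.Nodes.Chart Cfsg.Agent.Nodes.Coroot Cfsg.Agent.Nodes.FreeTorus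
  Cfsg.Agent.Nodes.SubComb Cfsg.Agent.Nodes.Bruhat Cfsg.Agent.Nodes.StabComb Cfsg.Agent.Nodes.Perp
  Cfsg.Agent.Nodes.Sub Cfsg.Agent.Nodes.ClsSub
open Cfsg.Agent.OddHalf.NI.FTwo (commute_cj mem_of_sq_mem)

variable {I W Y : Type*} [Fintype I] [DecidableEq I] [Group W] [Fintype W] [Group Y] {M : CoxeterMatrix I}
  {cs : CoxeterSystem M W} {A : I → I → ℤ} {h : IsCartan M A} {p : ℕ} {T : Subgroup Y} {n : I → Y}
  {X : (I → ℤ) → Subgroup Y} {R : Set (I → ℤ)} {Z : (I → ℤ) → Subgroup Y} {z : (I → ℤ) → Y}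
  {J : Subgroup Y} {j : Y} {r : I → ℤ}

namespace St

/-- **Root groups commuting with `J`** -/
theorem X_comm [Finite Y] (C : Cls cs h p T n X R Z z) (S : St cs h p T X R Z z r J j) {y : I → ℤ}
    (hy : IsRoot cs h y) (h0 : form cs h y r = 0)
    (hyR : y ∈ R ∨ ∃ s ∈ R, form cs h s r = 0 ∧ form cs h y s ≠ 0) : ∀ a ∈ J, ∀ b ∈ X y, a * b = b * a := by
  have key : ∀ s ∈ R, form cs h s r = 0 → ∀ d ∈ X y, ∀ a ∈ J, ∀ b ∈ KK Z s,
      a * (d⁻¹ * b * d) = (d⁻¹ * b * d) * a := by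
    intro s hs hsr d hd a ha b hb
    have S' := S.cj C (X_le_GG hy hd) (fun k hk => X_cm_KK C S.mem hy h0 d hd k hk)
    have h1 := S'.KK_comm C hs hsr (d * a * d⁻¹) (conj_mem_cj.2 ha) b hb
    calc a * (d⁻¹ * b * d) = d⁻¹ * ((d * a * d⁻¹) * b) * d := by group
      _ = d⁻¹ * (b * (d * a * d⁻¹)) * d := by rw [h1]
      _ = (d⁻¹ * b * d) * a := by group
  have key1 : ∀ s ∈ R, form cs h s r = 0 → ∀ a ∈ J, ∀ b ∈ KK Z s, a * b = b * a := fun s hs hsr =>
    S.KK_comm C hs hsr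
  intro a ha b hb
  obtain ⟨k, hk⟩ := C.rgd.pgrp' hy ⟨b, hb⟩
  have hk' : b ^ p ^ k = 1 := congrArg Subtype.val hk
  have hodd : Odd (p ^ k) := (S.prime.odd_of_ne_two S.odd).pow
  have hcen : b ∈ Subgroup.centralizer {a} := by
    refine mem_of_sq_mem hodd hk' ?_
    by_cases hyR' : y ∈ R
    · have h1 := C.z_inv_self y hyR' b⁻¹ (inv_mem hb)
      have h2 := key1 y hyR' h0 a ha _ (Subgroup.mem_sup_left (T := Z (-y)) h1)
      have h3 := key1 y hyR' h0 a ha _ (C.z_mem y hyR')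
      have h4 := key y hyR' h0 b hb a ha _ (C.z_mem y hyR')
      have e : b * b = (z y * b⁻¹ * z y * b⁻¹)⁻¹ * z y * (b⁻¹ * z y * b) := by group
      rw [e]
      rw [Subgroup.mem_centralizer_singleton_iff]
      have c1 : Commute a (z y * b⁻¹ * z y * b⁻¹) := h2
      have c2 : Commute a (z y) := h3
      have c3 : Commute a (b⁻¹ * z y * b) := h4
      exact ((c1.inv_right.mul_right c2).mul_right c3).eq.symm
    · obtain ⟨s, hs, hsr, h5⟩ := hyR.resolve_left hyR'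
      have hys : y ≠ s := fun e => hyR' (e ▸ hs)
      have hys' : y ≠ -s := fun e => hyR' (e ▸ Nodes.Perp.neg_mem C hs)
      have h1 := C.z_inv s hs y hy hys hys' h5 b⁻¹ (inv_mem hb)
      rw [inv_inv] at h1
      have c2 : Commute a (z s) := key1 s hs hsr a ha _ (C.z_mem s hs)
      have c3 : Commute a (b⁻¹ * z s * b) := key s hs hsr b hb a ha _ (C.z_mem s hs)
      have e : b * b = z s * (b⁻¹ * z s * b) := by
        calc b * b = z s * b⁻¹ * z s * b := by rw [h1]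
          _ = _ := by group
      rw [e, Subgroup.mem_centralizer_singleton_iff]
      exact (c2.mul_right c3).eq.symm
  exact (Subgroup.mem_centralizer_singleton_iff.1 hcen).symm

/-- a root group orthogonal to `r` which does not commute with `O₂(J)` -/
theorem exists_bad [Finite Y] (C : Cls cs h p T n X R Z z) (S : St cs h p T X R Z z r J j)
    (H : ¬ ∀ q ∈ QQ J j, ∀ x, IsRoot cs h x → form cs h x r = 0 → ∀ u ∈ X x, q * u = u * q) :
    ∃ b, IsRoot cs h b ∧ b ∉ R ∧ form cs h b r = 0 ∧ (∀ s ∈ R, form cs h s r = 0 → form cs h b s = 0) ∧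
      ¬ ∀ q ∈ QQ J j, ∀ u ∈ X b, q * u = u * q := by
  by_contra hcon
  push Not at hcon
  apply H
  intro q hq x hx h0 u hu
  by_cases h1 : x ∈ R ∨ ∃ s ∈ R, form cs h s r = 0 ∧ form cs h x s ≠ 0
  · exact S.X_comm C hx h0 h1 q (QQ_le hq) u hu
  · push Not at h1
    exact hcon x hx h1.1 h0 h1.2 q hq u hu

/-- a root group orthogonal to `r` which does not commute with `J` -/
theorem exists_bad' [Finite Y] (C : Cls cs h p T n X R Z z) (S : St cs h p T X R Z z r J j)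
    (H : ¬ ∀ q ∈ J, ∀ x, IsRoot cs h x → form cs h x r = 0 → ∀ u ∈ X x, q * u = u * q) :
    ∃ b, IsRoot cs h b ∧ b ∉ R ∧ form cs h b r = 0 ∧ (∀ s ∈ R, form cs h s r = 0 → form cs h b s = 0) := by
  by_contra hcon
  push Not at hcon
  apply H
  intro q hq x hx h0 u hu
  by_cases h1 : x ∈ R ∨ ∃ s ∈ R, form cs h s r = 0 ∧ form cs h x s ≠ 0
  · exact S.X_comm C hx h0 h1 q hq u hu
  · push Not at h1
    obtain ⟨s, hs, hsr, hn⟩ := hcon x hx h1.1 h0
    exact absurd (h1.2 s hs hsr) hn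

end St

/-- **the kind is `B₃`** if `O₂(J)` does not commute with all `X x`, `x` orthogonal to `r` -/
theorem kind_B3 {Y : Type*} [Group Y] [Finite Y] {Om : Set (Subgroup Y)} {p : ℕ} {L : Subgroup Y}
    (C : Chart Om p L) {τ : Nodes.Chart.Ty} (hτ : C.IsTy τ) (ok : Cit.KindOk τ) {r : C.I → ℤ} {J : Subgroup Y} {j : Y}
    (S : St C.cs C.h p C.T C.X C.R C.Z C.z r J j)
    (H : ¬ ∀ q ∈ QQ J j, ∀ x, IsRoot C.cs C.h x → form C.cs C.h x r = 0 → ∀ u ∈ C.X x, q * u = u * q) :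
    τ = .B 3 ∧ ∃ b, IsRoot C.cs C.h b ∧ b ∉ C.R ∧ form C.cs C.h b r = 0 ∧
      (∀ s ∈ C.R, form C.cs C.h s r = 0 → form C.cs C.h b s = 0) ∧
      ¬ ∀ q ∈ QQ J j, ∀ u ∈ C.X b, q * u = u * q := by
  obtain ⟨b, hb, hbR, h0, h1, h2⟩ := S.exists_bad C.cls H
  exact ⟨(NI.FTwo.Comb.comb C hτ ok S.mem hb hbR h0 h1).1, b, hb, hbR, h0, h1, h2⟩

/-- in the other kinds all of `J` commutes with all `X x`, `x` orthogonal to `r` -/
theorem comm_of_ne_B3 {Y : Type*} [Group Y] [Finite Y] {Om : Set (Subgroup Y)} {p : ℕ} {L : Subgroup Y}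
    (C : Chart Om p L) {τ : Nodes.Chart.Ty} (hτ : C.IsTy τ) (ok : Cit.KindOk τ) {r : C.I → ℤ} {J : Subgroup Y} {j : Y}
    (S : St C.cs C.h p C.T C.X C.R C.Z C.z r J j) (hne : τ ≠ .B 3) :
    ∀ q ∈ J, ∀ x, IsRoot C.cs C.h x → form C.cs C.h x r = 0 → ∀ u ∈ C.X x, q * u = u * q := by
  by_contra H
  obtain ⟨b, hb, hbR, h0, h1⟩ := S.exists_bad' C.cls H
  exact hne (NI.FTwo.Comb.comb C hτ ok S.mem hb hbR h0 h1).1

end Cfsg.Agent.OddHalf.NI3.FThree
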