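import Mathlib
import Cfsg.Agent.OddHalf.NI.FTwo.Levi
import Cfsg.Agent.Nodes.CommonNorm
import Cfsg.Agent.Nodes.ZRel
import Cfsg.Agent.Nodes.KindBase

/-!
# (F2'_3), part (c1): charts over `F₃` whose classical root groups form a simply laced system

`r ∈ R`, `Q` a subgroup of `⟨X x⟩` which centralises `KK Z r` and all `X x`, `x` orthogonal to `r`.  Then `Q ≤ T`, and if
`|Z s| = 3`, `X s = Z s` for `s ∈ R` and `R` is simply laced then `Q` is commutative (`comm_of_perp`).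
-/

set_option autoImplicit false
set_option linter.unusedSectionVars false
set_option linter.dupNamespace false

namespace Cfsg.Agent.OddHalf.NI3.FThree

open Cfsg
open CoxeterSystem Cfsg.Agent.ChevalleyStructure.CoxeterGeom Cfsg.Agent.Tits.Roots Cfsg.Agent.Tits.Core
  Cfsg.Agent.Tits.RootComb Cfsg.Agent.Nodes.Comb Cfsg.Agent.Nodes.Reps Cfsg.Agent.Nodes.BNOf
  Cfsg.Agent.Nodes.RGDLib Cfsg.Agent.Nodes.Chart Cfsg.Agent.Nodes.Coroot Cfsg.Agent.Nodes.FreeTorus
  Cfsg.Agent.Nodes.SubComb Cfsg.Agent.Nodes.Bruhat Cfsg.Agent.Nodes.StabComb Cfsg.Agent.Nodes.Perp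
  Cfsg.Agent.Nodes.Sub Cfsg.Agent.Nodes.ClsSub Cfsg.Agent.Nodes

variable {I W Y : Type*} [Fintype I] [DecidableEq I] [Group W] [Fintype W] [Group Y] {M : CoxeterMatrix I}
  {cs : CoxeterSystem M W} {A : I → I → ℤ} {h : IsCartan M A} {p : ℕ} {T : Subgroup Y} {n : I → Y}
  {X : (I → ℤ) → Subgroup Y} {R : Set (I → ℤ)} {Z : (I → ℤ) → Subgroup Y} {z : (I → ℤ) → Y}

/-! ### The torus -/

/-- An element of `L_J` normalising the root groups of `L_J` lies in the torus. -/
theorem mem_T_of_LJ (D : RGD cs h p T n X) (J : Set I) {g : Y} (hg : g ∈ LJ cs h T X J)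
    (hn : ∀ x ∈ RootsJ cs h J, cj g (X x) = X x) : g ∈ T := by
  have : DecidablePred (· ∈ J) := Classical.decPred _
  let f : J ↪ I := Function.Embedding.subtype _
  have hfr : Set.range f = J := Subtype.range_coe
  let cs' : CoxeterSystem (leviMatrix f M) (leviMatrix f M).Group := (leviMatrix f M).toCoxeterSystem
  have hfin : Finite (leviMatrix f M).Group :=
    (levi_subSys (cs := cs) (h := h) f).finite cs' (levi_isCartan f h)
  let _ : Fintype (leviMatrix f M).Group := Fintype.ofFinite _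
  have D' := rgd_levi D f cs'
  rw [← hfr, ← GG_levi (cs := cs) (h := h) f cs' T X] at hg
  have h1 : g ∈ HH cs' (levi_isCartan f h) (fun c => X (iota (fun j => sr (f j)) c)) := by
    rw [mem_HH]
    intro c hc
    rw [map_one, Module.End.one_apply]
    apply hn
    have h2 := (mem_RootsJ_range_iff (cs := cs) (h := h) f cs').2 ⟨c, hc, rfl⟩
    rwa [hfr] at h2
  rw [← Nodes.CommonNorm.HH_inf_GG D']
  exact ⟨h1, hg⟩

/-- An element of `GG` centralising `KK Z r` and normalising all `X x`, `x` orthogonal to `r`, lies in the torus. -/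
theorem mem_T_of_perp [Finite Y] (C : Cls cs h p T n X R Z z) {r : I → ℤ} (hr : r ∈ R) {q : Y}
    (hq : q ∈ GG cs h T X) (hqr : ∀ y ∈ KK Z r, q * y = y * q)
    (hqp : ∀ x, IsRoot cs h x → form cs h x r = 0 → cj q (X x) = X x) : q ∈ T := by
  obtain ⟨w, hw⟩ := Nodes.ClsNorm.exists_dominant (cs := cs) (h := h) r
  obtain ⟨k, hk⟩ := exists_rp cs C.rgd.nsys w
  have hkG : k ∈ GG cs h T X := NN_le_GG C.rgd ⟨_, hk⟩
  have hq' : k * q * k⁻¹ ∈ GG cs h T X := mul_mem (mul_mem hkG hq) (inv_mem hkG)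
  have hc : ∀ x ∈ Subgroup.zpowers (k * q * k⁻¹), ∀ y ∈ KK Z (rep cs h w r), x * y = y * x := by
    have h1 : Subgroup.zpowers (k * q * k⁻¹) ≤ Subgroup.centralizer (KK Z (rep cs h w r) : Set Y) := by
      rw [Subgroup.zpowers_le, Subgroup.mem_centralizer_iff]
      intro y hy
      rw [← Nodes.Perp.conj_KK C hk hr] at hy
      have h2 := hqr _ (mem_cj.1 hy)
      calc y * (k * q * k⁻¹) = k * ((k⁻¹ * y * k) * q) * k⁻¹ := by group
        _ = k * (q * (k⁻¹ * y * k)) * k⁻¹ := by rw [h2]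
        _ = k * q * k⁻¹ * y := by group
    intro x hx y hy
    exact (Subgroup.mem_centralizer_iff.1 (h1 hx) y hy).symm
  have h1 := NI.FTwo.le_T_DD C (C.act r hr w) (K := Subgroup.zpowers (k * q * k⁻¹))
    (by rw [Subgroup.zpowers_le]; exact hq') hc (Subgroup.mem_zpowers _)
  rw [← NI.FTwo.LJ_orth_eq hw] at h1
  have h2 : k * q * k⁻¹ ∈ T := by
    refine mem_T_of_LJ C.rgd _ h1 fun x hx => ?_
    have hxf := (Nodes.ClsNorm.mem_RootsJ_orth_iff hw hx.1).1 hx
    have h3 := hqp (rep cs h w⁻¹ x) (hx.1.act _) (by rw [form_rep_left, inv_inv]; exact hxf)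
    have h4 : cj k (X (rep cs h w⁻¹ x)) = X x := by
      rw [C.rgd.conj_rp hk (hx.1.act _), rep_apply_inv]
    rw [← h4, cj_mul, cj_mul, cj_inv_cj, h3]
  have h3 := mem_normalizer_iff_cj.1 hk.mem_normalizer
  rw [← h3, mem_cj] at h2
  have e : k⁻¹ * (k * q * k⁻¹) * k = q := by group
  rwa [e] at h2

/-- `q` commutes with the elements of `H` -/
def Cq (q : Y) (H : Subgroup Y) : Prop := ∀ y ∈ H, q * y = y * q

theorem Cq.sup {q : Y} {H K : Subgroup Y} (h1 : Cq q H) (h2 : Cq q K) : Cq q (H ⊔ K) := by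
  have h3 : H ⊔ K ≤ Subgroup.centralizer {q} := by
    refine sup_le (fun y hy => ?_) (fun y hy => ?_)
    · rw [Subgroup.mem_centralizer_singleton_iff]; exact (h1 y hy).symm
    · rw [Subgroup.mem_centralizer_singleton_iff]; exact (h2 y hy).symm
  intro y hy
  exact (Subgroup.mem_centralizer_singleton_iff.1 (h3 hy)).symm

theorem Cq.mono {q : Y} {H K : Subgroup Y} (h1 : Cq q H) (hle : K ≤ H) : Cq q K := fun y hy => h1 y (hle hy)

theorem Cq.conj {q m : Y} {H : Subgroup Y} (h1 : Cq q H) (hm : q * m = m * q) : Cq q (cj m H) := by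
  intro y hy
  have h2 := h1 _ (mem_cj.1 hy)
  have hm' : q * m⁻¹ = m⁻¹ * q := by
    have : m⁻¹ * (q * m) * m⁻¹ = m⁻¹ * (m * q) * m⁻¹ := by rw [hm]
    have e1 : m⁻¹ * (q * m) * m⁻¹ = m⁻¹ * q := by group
    have e2 : m⁻¹ * (m * q) * m⁻¹ = q * m⁻¹ := by group
    rw [e1, e2] at this
    exact this.symm
  calc q * y = q * m * (m⁻¹ * y * m) * m⁻¹ := by group
    _ = m * (q * (m⁻¹ * y * m)) * m⁻¹ := by rw [hm]; group
    _ = m * (m⁻¹ * y * m) * (q * m⁻¹) := by rw [h2]; group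
    _ = y * q := by rw [hm']; group

/-- An element of the torus centralising `Z s` centralises `Z (-s)`. -/
theorem Cq.opp [Finite Y] (C : Cls cs h p T n X R Z z) (hp : p.Prime) (hodd : p ≠ 2) {s : I → ℤ} (hs : s ∈ R)
    {q : Y} (hq : q ∈ T) (hc : Cq q (Z s)) : Cq q (Z (-s)) := by
  intro b hb
  by_cases hb1 : b = 1
  · subst hb1; rw [mul_one, one_mul]
  obtain ⟨a, ha, c, hc', w, hm, -⟩ := exists_refl_KK C hp hodd hs hb hb1
  have h1 : Rp cs C.rgd.nsys w (q * (a * b * c) * q⁻¹) := by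
    have := ((rp_of_mem (cs := cs) (hN := C.rgd.nsys) hq).mul hm).mul (rp_of_mem (cs := cs) (hN := C.rgd.nsys) (inv_mem hq))
    rwa [one_mul, mul_one] at this
  have h2 := hm.unique h1
  have e : (a * b * c)⁻¹ * (q * (a * b * c) * q⁻¹) = c⁻¹ * (b⁻¹ * (q * b * q⁻¹)) * c := by
    have e1 : q * a = a * q := hc a ha
    have e2 : c * q⁻¹ = q⁻¹ * c := by
      have e3 : q * c = c * q := hc c hc'
      calc c * q⁻¹ = q⁻¹ * (q * c) * q⁻¹ := by group
        _ = q⁻¹ * (c * q) * q⁻¹ := by rw [e3]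
        _ = q⁻¹ * c := by group
    calc (a * b * c)⁻¹ * (q * (a * b * c) * q⁻¹)
        = c⁻¹ * b⁻¹ * a⁻¹ * (q * a) * b * (c * q⁻¹) := by group
      _ = c⁻¹ * b⁻¹ * a⁻¹ * (a * q) * b * (q⁻¹ * c) := by rw [e1, e2]
      _ = c⁻¹ * (b⁻¹ * (q * b * q⁻¹)) * c := by group
  rw [e] at h2
  -- a `p`-element of the torus
  have h3 : b⁻¹ * (q * b * q⁻¹) ∈ X (-s) := by
    refine mul_mem (inv_mem (C.le _ (neg_mem C hs) hb)) ?_
    have h4 := C.tor _ (neg_mem C hs) q hq
    have h5 : q * b * q⁻¹ ∈ cj q (Z (-s)) := conj_mem_cj.2 hb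
    rw [h4] at h5
    exact C.le _ (neg_mem C hs) h5
  have hone : c⁻¹ * (b⁻¹ * (q * b * q⁻¹)) * c = 1 := by
    have : Fact p.Prime := ⟨hp⟩
    obtain ⟨j, hj⟩ := (C.rgd.pgrp' (C.root s hs).neg) ⟨_, h3⟩
    have hj' : (b⁻¹ * (q * b * q⁻¹)) ^ p ^ j = 1 := congrArg Subtype.val hj
    have h6 : (c⁻¹ * (b⁻¹ * (q * b * q⁻¹)) * c) ^ p ^ j = 1 := by
      have := conj_pow (i := p ^ j) (a := c⁻¹) (b := b⁻¹ * (q * b * q⁻¹))
      rw [inv_inv] at this
      rw [this, hj']; group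
    have h7 : orderOf (c⁻¹ * (b⁻¹ * (q * b * q⁻¹)) * c) ∣ p ^ j := orderOf_dvd_of_pow_eq_one h6
    have h8 : orderOf (c⁻¹ * (b⁻¹ * (q * b * q⁻¹)) * c) ∣ Nat.card T := by
      have := orderOf_dvd_natCard (⟨_, h2⟩ : T)
      rwa [← Subgroup.orderOf_coe] at this
    have h9 : Nat.Coprime (Nat.card T) (p ^ j) := Nat.Coprime.pow_right j C.rgd.tcop
    have h10 := Nat.dvd_gcd h8 h7
    rw [h9] at h10
    exact orderOf_eq_one_iff.1 (Nat.dvd_one.1 h10)
  have h4 : b⁻¹ * (q * b * q⁻¹) = 1 := by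
    have e : b⁻¹ * (q * b * q⁻¹) = c * (c⁻¹ * (b⁻¹ * (q * b * q⁻¹)) * c) * c⁻¹ := by group
    rw [e, hone]; group
  have h5 : q * b * q⁻¹ = b := by
    have := inv_mul_eq_one.1 h4
    exact this.symm
  calc q * b = (q * b * q⁻¹) * q := by group
    _ = b * q := by rw [h5]

theorem Cq.kk [Finite Y] (C : Cls cs h p T n X R Z z) (hp : p.Prime) (hodd : p ≠ 2) {s : I → ℤ} (hs : s ∈ R)
    {q : Y} (hq : q ∈ T) (hc : Cq q (Z s)) : Cq q (KK Z s) := hc.sup (hc.opp C hp hodd hs hq)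

/-! ### Moving along reflections -/

/-- if `q` commutes with `LL X t` then it commutes with `X x` iff with `X (s_t x)` -/
theorem Cq.refl_LL (C : Cls cs h p T n X R Z z) {t : I → ℤ} (ht : IsRoot cs h t) {q : Y} (hq : Cq q (LL X t))
    {s : I → ℤ} (hs : s ∈ R) (hc : Cq q (Z s)) : Cq q (Z (s - cpr cs h s t • t)) := by
  obtain ⟨b, hb, hb1⟩ : ∃ b ∈ X (-t), b ≠ 1 := by
    by_contra hcon
    push Not at hcon
    exact Nodes.StdConn.X_ne_bot C ht.neg (by rw [Subgroup.eq_bot_iff_forall]; exact hcon)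
  obtain ⟨a, ha, c, hc', w, hm, hw⟩ := exists_refl_LL C.rgd ht hb hb1
  rw [← hw, ← Nodes.ClsNorm.conj_Z C hm hs]
  refine hc.conj (hq _ (mul_mem (mul_mem ?_ ?_) ?_))
  · exact (le_sup_left : X t ≤ LL X t) ha
  · exact (le_sup_right : X (-t) ≤ LL X t) hb
  · exact (le_sup_left : X t ≤ LL X t) hc'

theorem Cq.refl_KK (C : Cls cs h p T n X R Z z) (hp : p.Prime) (hodd : p ≠ 2) {t : I → ℤ} (ht : t ∈ R) {q : Y}
    (hq : Cq q (KK Z t)) {s : I → ℤ} (hs : s ∈ R) (hc : Cq q (Z s)) : Cq q (Z (s - cpr cs h s t • t)) := by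
  obtain ⟨b, hb, hb1⟩ := Z_ne_bot' C (neg_mem C ht)
  obtain ⟨a, ha, c, hc', w, hm, hw⟩ := exists_refl_KK C hp hodd ht hb hb1
  rw [← hw, ← Nodes.ClsNorm.conj_Z C hm hs]
  refine hc.conj (hq _ (mul_mem (mul_mem ?_ ?_) ?_))
  · exact (le_sup_left : Z t ≤ KK Z t) ha
  · exact (le_sup_right : Z (-t) ≤ KK Z t) hb
  · exact (le_sup_left : Z t ≤ KK Z t) hc'

theorem Cq.refl_X (C : Cls cs h p T n X R Z z) (hp : p.Prime) (hodd : p ≠ 2) {t : I → ℤ} (ht : t ∈ R) {q : Y}
    (hq : Cq q (KK Z t)) {x : I → ℤ} (hx : IsRoot cs h x) (hc : Cq q (X (x - cpr cs h x t • t))) :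
    Cq q (X x) := by
  obtain ⟨b, hb, hb1⟩ := Z_ne_bot' C (neg_mem C ht)
  obtain ⟨a, ha, c, hc', w, hm, hw⟩ := exists_refl_KK C hp hodd ht hb hb1
  have hmq : q * (a * b * c) = (a * b * c) * q := by
    refine hq _ (mul_mem (mul_mem ?_ ?_) ?_)
    · exact (le_sup_left : Z t ≤ KK Z t) ha
    · exact (le_sup_right : Z (-t) ≤ KK Z t) hb
    · exact (le_sup_left : Z t ≤ KK Z t) hc'
  have hmq' : q * (a * b * c)⁻¹ = (a * b * c)⁻¹ * q := by
    set m := a * b * c
    calc q * m⁻¹ = m⁻¹ * (m * q) * m⁻¹ := by group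
      _ = m⁻¹ * (q * m) * m⁻¹ := by rw [hmq]
      _ = m⁻¹ * q := by group
  rw [← hw, ← C.rgd.conj_rp hm hx] at hc
  have := hc.conj hmq'
  rwa [← cj_mul, inv_mul_cancel, cj_one] at this

/-! ### The signs -/

/-- `R` is a simply laced system of root groups of order three; the other roots can be moved by a reflection of `R`
into the hyperplane of `r` -/
structure Lac (cs : CoxeterSystem M W) (h : IsCartan M A) (X : (I → ℤ) → Subgroup Y) (R : Set (I → ℤ))
    (Z : (I → ℤ) → Subgroup Y) (r : I → ℤ) : Prop where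
  mem : r ∈ R
  card : ∀ s ∈ R, Nat.card (Z s) = 3
  zx : ∀ s ∈ R, Z s = X s
  le_one : ∀ x ∈ R, ∀ y ∈ R, x ≠ y → x ≠ -y → |cpr cs h x y| ≤ 1
  short : ∀ x, IsRoot cs h x → x ∉ R → form cs h x r ≠ 0 → ∃ s ∈ R, form cs h (x - cpr cs h x s • s) r = 0

variable {r : I → ℤ}

theorem cpr_eq_one (C : Cls cs h p T n X R Z z) (L : Lac cs h X R Z r) {s s' : I → ℤ} (hs : s ∈ R) (hs' : s' ∈ R)
    (hne : s ≠ s') (hf : 0 < form cs h s s') : cpr cs h s s' = 1 := by
  have h1 : s ≠ -s' := by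
    rintro rfl
    rw [form_neg_left] at hf
    have := form_pos cs h (C.root s' hs').ne_zero
    omega
  have h2 := L.le_one s hs s' hs' hne h1
  have h3 := (cpr_pos_iff cs h s (C.root s' hs')).2 hf
  rw [abs_le] at h2
  omega

/-- one step -/
theorem step_pos (C : Cls cs h p T n X R Z z) (L : Lac cs h X R Z r) {q : Y}
    (hq : ∀ x, IsRoot cs h x → form cs h x r = 0 → Cq q (X x)) {s s' : I → ℤ} (hs : s ∈ R) (hs' : s' ∈ R)
    (hf : 0 < form cs h s s') (hr : form cs h s r = form cs h s' r) (hc : Cq q (Z s)) : Cq q (Z s') := by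
  by_cases hne : s = s'
  · rwa [← hne]
  have h1 := cpr_eq_one C L hs hs' hne hf
  have h2 := cpr_eq_one C L hs' hs (Ne.symm hne) (by rwa [form_comm])
  obtain ⟨ht, hcp⟩ := KindBase.cpr_diff cs h (C.root s' hs') (C.root s hs) h2 h1 s
  rw [h1, cpr_self cs h (C.root s hs)] at hcp
  have ht0 : form cs h (s' - s) r = 0 := by rw [form_sub_left, hr, sub_self]
  have hL : Cq q (LL X (s' - s)) := (hq _ ht ht0).sup (hq _ ht.neg (by rw [form_neg_left, ht0, neg_zero]))
  have h3 := hL.refl_LL C ht hs hc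
  rw [hcp] at h3
  have e : s - (1 - 2 : ℤ) • (s' - s) = s' := by
    have : (1 - 2 : ℤ) = -1 := by norm_num
    rw [this, neg_one_smul]; abel
  rwa [e] at h3

/-- the sign is constant on the roots of level one -/
theorem level_one [Finite Y] (C : Cls cs h p T n X R Z z) (hp : p.Prime) (hodd : p ≠ 2) (L : Lac cs h X R Z r)
    {q : Y} (hqT : q ∈ T) (hqr : Cq q (KK Z r)) (hq : ∀ x, IsRoot cs h x → form cs h x r = 0 → Cq q (X x))
    {s s' : I → ℤ} (hs : s ∈ R) (hs' : s' ∈ R) (h1 : cpr cs h s r = 1) (h1' : cpr cs h s' r = 1)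
    (hc : Cq q (Z s)) : Cq q (Z s') := by
  have hrr := C.root r L.mem
  have f1 := two_form_cpr cs h s hrr
  have f2 := two_form_cpr cs h s' hrr
  rw [h1, one_mul] at f1
  rw [h1', one_mul] at f2
  rcases lt_or_ge 0 (form cs h s s') with hf | hf
  · exact step_pos C L hq hs hs' hf (by omega) hc
  · have h2 := hqr.refl_KK C hp hodd L.mem hs hc
    rw [h1, one_smul] at h2
    have h3 := refl_mem C hs hrr
    rw [h1, one_smul] at h3
    have h4 := h2.opp C hp hodd h3 hqT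
    have h5 := neg_mem C h3
    rw [neg_sub] at h4 h5
    refine step_pos C L hq h5 hs' ?_ ?_ h4
    · rw [form_sub_left, form_comm cs h r s']
      have := form_pos cs h hrr.ne_zero
      omega
    · rw [form_sub_left]; omega

/-- an element normalising a group of order three commutes with it or inverts it -/
theorem inv_of_not_comm {H : Subgroup Y} (h3 : Nat.card H = 3) {q : Y} (hn : cj q H = H) (hc : ¬ Cq q H) :
    ∀ y ∈ H, q * y * q⁻¹ = y⁻¹ := by
  unfold Cq at hc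
  push Not at hc
  obtain ⟨a, ha, hne⟩ := hc
  have ha1 : a ≠ 1 := by rintro rfl; exact hne (by rw [mul_one, one_mul])
  have : Fact (Nat.Prime 3) := ⟨Nat.prime_three⟩
  have hfin : Finite H := Nat.finite_of_card_ne_zero (by omega)
  have hmem : ∀ y ∈ H, y = 1 ∨ y = a ∨ y = a⁻¹ := by
    intro y hy
    have h1 : (⟨y, hy⟩ : H) ∈ Subgroup.zpowers (⟨a, ha⟩ : H) :=
      mem_zpowers_of_prime_card (p := 3) h3 (fun h => ha1 (congrArg Subtype.val h))
    obtain ⟨k, hk⟩ := Subgroup.mem_zpowers_iff.1 h1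
    have hk' : a ^ k = y := congrArg Subtype.val hk
    have ha3 : a ^ (3 : ℤ) = 1 := by
      have h2 : (⟨a, ha⟩ : H) ^ 3 = 1 := by rw [← h3]; exact pow_card_eq_one'
      have h2' : a ^ 3 = 1 := congrArg Subtype.val h2
      exact_mod_cast h2'
    have hkm : a ^ k = a ^ (k % 3) := by
      conv_lhs => rw [← Int.mul_ediv_add_emod k 3, zpow_add, zpow_mul, ha3, one_zpow, one_mul]
    have hlt := Int.emod_lt_of_pos k (show (0 : ℤ) < 3 by norm_num)
    have hge := Int.emod_nonneg k (show (3 : ℤ) ≠ 0 by norm_num)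
    rw [← hk', hkm]
    interval_cases k % 3
    · left; exact zpow_zero a
    · right; left; exact zpow_one a
    · right; right
      have e : a ^ (2 : ℤ) = a⁻¹ * a ^ (3 : ℤ) := by rw [show (3 : ℤ) = 1 + 2 by norm_num, zpow_add, zpow_one]; group
      rw [e, ha3, mul_one]
  have hqa : q * a * q⁻¹ = a⁻¹ := by
    have h1 : q * a * q⁻¹ ∈ H := by
      have := conj_mem_cj (g := q).2 ha
      rwa [hn] at this
    rcases hmem _ h1 with h2 | h2 | h2
    · exfalso; apply ha1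
      have : a = q⁻¹ * (q * a * q⁻¹) * q := by group
      rw [this, h2]; group
    · exfalso; apply hne
      calc q * a = (q * a * q⁻¹) * q := by group
        _ = a * q := by rw [h2]
    · exact h2
  intro y hy
  rcases hmem y hy with rfl | rfl | rfl
  · group
  · exact hqa
  · have : q * a⁻¹ * q⁻¹ = (q * a * q⁻¹)⁻¹ := by group
    rw [this, hqa]

/-- **`q` or `q z_r` centralises all classical root groups.** -/
theorem exists_cent [Finite Y] (C : Cls cs h p T n X R Z z) (hp : p.Prime) (hodd : p ≠ 2) (L : Lac cs h X R Z r)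
    {q : Y} (hqT : q ∈ T) (hqr : Cq q (KK Z r)) (hq : ∀ x, IsRoot cs h x → form cs h x r = 0 → Cq q (X x)) :
    ∃ q', (q' = q ∨ q' = q * z r) ∧ ∀ s ∈ R, Cq q' (Z s) := by
  have hrr := C.root r L.mem
  have base : ∀ s ∈ R, s ≠ r → s ≠ -r → form cs h s r ≠ 0 → cpr cs h s r = 1 ∨ cpr cs h s r = -1 := by
    intro s hs h1 h2 h3
    have h4 := L.le_one s hs r L.mem h1 h2
    have h5 : cpr cs h s r ≠ 0 := fun h0 => h3 ((cpr_zero_iff cs h s hrr).1 h0)
    rw [abs_le] at h4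
    omega
  by_cases hall : ∀ s ∈ R, s ≠ r → s ≠ -r → form cs h s r ≠ 0 → Cq q (Z s)
  · refine ⟨q, Or.inl rfl, fun s hs => ?_⟩
    by_cases h1 : s = r
    · rw [h1]; exact hqr.mono le_sup_left
    by_cases h2 : s = -r
    · rw [h2]; exact hqr.mono le_sup_right
    by_cases h3 : form cs h s r = 0
    · exact (hq s (C.root s hs) h3).mono (C.le s hs)
    · exact hall s hs h1 h2 h3
  · push Not at hall
    obtain ⟨s₀, hs₀, g1, g2, g3, g4⟩ := hall
    have hnone : ∀ s ∈ R, s ≠ r → s ≠ -r → form cs h s r ≠ 0 → ¬ Cq q (Z s) := by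
      intro s hs h1 h2 h3 hc
      apply g4
      -- make both of level one
      have key : ∀ s ∈ R, cpr cs h s r = 1 ∨ cpr cs h s r = -1 → ∃ s₁ ∈ R, cpr cs h s₁ r = 1 ∧
          (Cq q (Z s) ↔ Cq q (Z s₁)) := by
        rintro s hs (hh | hh)
        · exact ⟨s, hs, hh, Iff.rfl⟩
        · refine ⟨-s, neg_mem C hs, by rw [cpr_neg cs h s hrr, hh, neg_neg], fun hh => hh.opp C hp hodd hs hqT,
            fun hh => ?_⟩
          have := hh.opp C hp hodd (neg_mem C hs) hqT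
          rwa [neg_neg] at this
      obtain ⟨s₁, hs₁, k1, k2⟩ := key s hs (base s hs h1 h2 h3)
      obtain ⟨s₂, hs₂, k3, k4⟩ := key s₀ hs₀ (base s₀ hs₀ g1 g2 g3)
      exact k4.2 (level_one C hp hodd L hqT hqr hq hs₁ hs₂ k1 k3 (k2.1 hc))
    refine ⟨q * z r, Or.inr rfl, fun s hs => ?_⟩
    have hzK : z r ∈ KK Z r := C.z_mem r L.mem
    by_cases h1 : s = r
    · rw [h1]
      intro y hy
      have e1 := hqr y (le_sup_left (a := Z r) hy)
      have e2 := C.z_cent r L.mem y hy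
      rw [mul_assoc, e2, ← mul_assoc, e1, mul_assoc]
    by_cases h2 : s = -r
    · rw [h2]
      intro y hy
      have e1 := hqr y (le_sup_right (a := Z r) hy)
      have e2 := C.z_cent (-r) (neg_mem C L.mem) y hy
      rw [C.z_neg r L.mem] at e2
      rw [mul_assoc, e2, ← mul_assoc, e1, mul_assoc]
    by_cases h3 : form cs h s r = 0
    · intro y hy
      have e1 := (hq s (C.root s hs) h3) y (C.le s hs hy)
      have e2 := Nodes.ZRel.z_cent_of_orth C L.mem (C.root s hs) h3 (C.le s hs hy)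
      rw [mul_assoc, ← e2, ← mul_assoc, e1, mul_assoc]
    · intro y hy
      have e1 := inv_of_not_comm (L.card s hs) (C.tor s hs q hqT) (hnone s hs h1 h2 h3) y⁻¹ (inv_mem hy)
      have e2 := C.z_inv r L.mem s (C.root s hs) h1 h2 h3 y (C.le s hs hy)
      rw [inv_inv] at e1
      calc q * z r * y = q * (z r * y * z r) * z r := by
            have := C.z_sq r L.mem
            calc q * z r * y = q * z r * y * 1 := by rw [mul_one]
              _ = q * z r * y * (z r * z r) := by rw [this]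
              _ = q * (z r * y * z r) * z r := by group
        _ = q * y⁻¹ * z r := by rw [e2]
        _ = (q * y⁻¹ * q⁻¹) * q * z r := by group
        _ = y * (q * z r) := by rw [e1]; group

/-- `q` or `q z_r` centralises all root groups. -/
theorem exists_cent_X [Finite Y] (C : Cls cs h p T n X R Z z) (hp : p.Prime) (hodd : p ≠ 2) (L : Lac cs h X R Z r)
    {q : Y} (hqT : q ∈ T) (hqr : Cq q (KK Z r)) (hq : ∀ x, IsRoot cs h x → form cs h x r = 0 → Cq q (X x)) :
    ∃ q', (q' = q ∨ q' = q * z r) ∧ ∀ x, IsRoot cs h x → Cq q' (X x) := by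
  obtain ⟨q', hq', hc⟩ := exists_cent C hp hodd L hqT hqr hq
  refine ⟨q', hq', ?_⟩
  have hperp : ∀ x, IsRoot cs h x → form cs h x r = 0 → Cq q' (X x) := by
    intro x hx h0
    rcases hq' with rfl | rfl
    · exact hq x hx h0
    · intro y hy
      have e1 := hq x hx h0 y hy
      have e2 := Nodes.ZRel.z_cent_of_orth C L.mem hx h0 hy
      rw [mul_assoc, ← e2, ← mul_assoc, e1, mul_assoc]
  intro x hx
  by_cases hxR : x ∈ R
  · rw [← L.zx x hxR]; exact hc x hxR
  by_cases h0 : form cs h x r = 0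
  · exact hperp x hx h0
  obtain ⟨s, hs, h1⟩ := L.short x hx hxR h0
  have h2 : Cq q' (KK Z s) := (hc s hs).sup (hc _ (neg_mem C hs))
  exact h2.refl_X C hp hodd hs hx (hperp _ (isRoot_refl cs h hx (C.root s hs)) h1)

/-- **(F2'_3), (c1)**: `Q` is commutative. -/
theorem comm_of_perp [Finite Y] (C : Cls cs h p T n X R Z z) (hp : p.Prime) (hodd : p ≠ 2) (L : Lac cs h X R Z r)
    {Q : Subgroup Y} (hQ : Q ≤ G1 cs h X) (hQr : ∀ q ∈ Q, Cq q (KK Z r))
    (hQx : ∀ q ∈ Q, ∀ x, IsRoot cs h x → form cs h x r = 0 → Cq q (X x)) :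
    ∀ q ∈ Q, ∀ q' ∈ Q, q * q' = q' * q := by
  intro q hq q₂ hq₂
  have hGG : G1 cs h X ≤ GG cs h T X := le_sup_right
  have hcj : ∀ {H : Subgroup Y}, Cq q H → cj q H = H := by
    intro H hH
    rw [← mem_normalizer_iff_cj]
    exact Nodes.ClsNorm.centralizer_le_normalizer' H (Subgroup.mem_centralizer_iff.2 fun x hx => (hH x hx).symm)
  have hqT : q ∈ T := mem_T_of_perp C L.mem (hGG (hQ hq)) (hQr q hq) fun x hx h0 => hcj (hQx q hq x hx h0)
  obtain ⟨q', hq', hc⟩ := exists_cent_X C hp hodd L hqT (hQr q hq) (hQx q hq)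
  have h1 : Cq q' (G1 cs h X) := by
    have h2 : G1 cs h X ≤ Subgroup.centralizer {q'} := by
      refine RGD.Sup_le fun x hx y hy => ?_
      rw [Subgroup.mem_centralizer_singleton_iff]
      exact (hc x hx y hy).symm
    intro y hy
    exact (Subgroup.mem_centralizer_singleton_iff.1 (h2 hy)).symm
  have h2 := h1 q₂ (hQ hq₂)
  rcases hq' with rfl | rfl
  · exact h2
  · have h3 := hQr q₂ hq₂ (z r) (C.z_mem r L.mem)
    have h4 : q * q₂ * z r = q₂ * q * z r := by
      calc q * q₂ * z r = q * (q₂ * z r) := by group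
        _ = q * z r * q₂ := by rw [h3]; group
        _ = q₂ * q * z r := by rw [h2]; group
    exact mul_right_cancel h4

end Cfsg.Agent.OddHalf.NI3.FThree
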