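import Mathlib
import Cfsg.Agent.OddHalf.NI3.FThree.C1
import Cfsg.Agent.Nodes.PairOf

/-!
# (F2'_3), part (c2): charts over `F₃` of the kinds `C_n`, `n ≥ 2` (`Sp_{2n}(3)`, `SU_{2n}(3)`, `SU_{2n+1}(3)`)

An element `c` of order three which normalises `⟨T, X x⟩` and centralises `KK Z r` and all `X x`, `x` orthogonal to `r`,
centralises all root groups (`cent_of_perp`).
-/

set_option autoImplicit false
set_option linter.unusedSectionVars false
set_option linter.dupNamespace false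

namespace Cfsg.Agent.OddHalf.NI3.FThree

open Cfsg
open CoxeterSystem Cfsg.Agent.ChevalleyStructure.CoxeterGeom Cfsg.Agent.Tits.Roots Cfsg.Agent.Tits.Core
  Cfsg.Agent.Tits.RootComb Cfsg.Agent.Nodes.Comb Cfsg.Agent.Nodes.Reps Cfsg.Agent.Nodes.BNOf
  Cfsg.Agent.Nodes.RGDLib Cfsg.Agent.Nodes.Chart Cfsg.Agent.Nodes.Coroot Cfsg.Agent.Nodes.FreeTorus
  Cfsg.Agent.Nodes.SubComb Cfsg.Agent.Nodes.Bruhat Cfsg.Agent.Nodes.StabComb Cfsg.Agent.Nodes.Perp
  Cfsg.Agent.Nodes.Sub Cfsg.Agent.Nodes.ClsSub Cfsg.Agent.Nodes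
open scoped commutatorElement

variable {I W Y : Type*} [Fintype I] [DecidableEq I] [Group W] [Fintype W] [Group Y] {M : CoxeterMatrix I}
  {cs : CoxeterSystem M W} {A : I → I → ℤ} {h : IsCartan M A} {p : ℕ} {T : Subgroup Y} {n : I → Y}
  {X : (I → ℤ) → Subgroup Y} {R : Set (I → ℤ)} {Z : (I → ℤ) → Subgroup Y} {z : (I → ℤ) → Y}

/-! ### Roots -/

/-- the members of `R` are pairwise orthogonal (or opposite) of the same length, the other roots are half sums -/
structure Lcc (cs : CoxeterSystem M W) (h : IsCartan M A) (R : Set (I → ℤ)) : Prop where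
  root : ∀ x ∈ R, IsRoot cs h x
  neg : ∀ x ∈ R, -x ∈ R
  orth : ∀ x ∈ R, ∀ y ∈ R, x ≠ y → x ≠ -y → form cs h x y = 0
  len : ∀ x ∈ R, ∀ y ∈ R, form cs h x x = form cs h y y
  half : ∀ x, IsRoot cs h x → x ∉ R → ∃ a ∈ R, ∃ b ∈ R, form cs h a b = 0 ∧ (2 : ℤ) • x = a + b

/-- `y = (r + s) / 2` -/
structure Tri (cs : CoxeterSystem M W) (h : IsCartan M A) (R : Set (I → ℤ)) (r s y : I → ℤ) : Prop where
  hr : r ∈ R
  hs : s ∈ R
  orth : form cs h r s = 0
  hy : IsRoot cs h y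
  e : (2 : ℤ) • y = r + s

section Roots

theorem two_form_left (x y : I → ℤ) : form cs h ((2 : ℤ) • x) y = 2 * form cs h x y := form_smul_left ..

variable {r s y : I → ℤ}

namespace Tri

variable (K : Lcc cs h R) (t : Tri cs h R r s y)

include t

theorem symm : Tri cs h R s r y := ⟨t.hs, t.hr, by rw [form_comm]; exact t.orth, t.hy, by rw [t.e, add_comm]⟩

include K

theorem pos : 0 < form cs h r r := form_pos cs h (K.root r t.hr).ne_zero

theorem yr : 2 * form cs h y r = form cs h r r := by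
  rw [← form_smul_left, t.e, form_add_left, form_comm cs h s r, t.orth, add_zero]

theorem ys : 2 * form cs h y s = form cs h r r := by
  rw [← form_smul_left, t.e, form_add_left, t.orth, zero_add, K.len s t.hs r t.hr]

theorem yy : 2 * form cs h y y = form cs h r r := by
  have h1 : 2 * (2 * form cs h y y) = 2 * form cs h r r := by
    have h2 : 2 * form cs h y y = form cs h y r + form cs h y s := by
      rw [← form_smul_right, t.e, form_add_right]
    rw [h2, mul_add, t.yr K, t.ys K]; ring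
  linarith

theorem neg : Tri cs h R (-r) (-s) (-y) :=
  ⟨K.neg r t.hr, K.neg s t.hs, by rw [form_neg_left, form_neg_right, t.orth]; rfl, t.hy.neg,
    by rw [smul_neg, t.e]; abel⟩

theorem cpr_ys : cpr cs h y s = 1 :=
  cpr_eq_of_form cs h (K.root s t.hs) (by rw [one_mul, t.ys K, K.len s t.hs r t.hr])

theorem cpr_ry : cpr cs h r y = 2 :=
  cpr_eq_of_form cs h t.hy (by rw [t.yy K, form_comm, t.yr K])

/-- the other one -/
theorem flip : Tri cs h R r (-s) (y - s) := by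
  have h1 := isRoot_refl cs h t.hy (K.root s t.hs)
  rw [t.cpr_ys K, one_smul] at h1
  refine ⟨t.hr, K.neg s t.hs, by rw [form_neg_right, t.orth]; rfl, h1, ?_⟩
  rw [smul_sub, t.e, two_smul]; abel

/-- a root with positive products with `r` and `s` is `y` -/
theorem eq_of_pos {w : I → ℤ} (hw : IsRoot cs h w) (h1 : 0 < form cs h w r) (h2 : 0 < form cs h w s) : w = y := by
  have hrs : r ≠ s := by
    rintro rfl
    have := t.orth
    have := t.pos K
    omega
  have hrs' : r ≠ -s := by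
    intro e
    have h3 := t.orth
    rw [e, form_neg_left] at h3
    have h4 := form_pos cs h (K.root s t.hs).ne_zero
    omega
  have hP : 0 < form cs h r r := t.pos K
  have hS : 0 < form cs h s s := form_pos cs h (K.root s t.hs).ne_zero
  have hsr : form cs h s r = 0 := by rw [form_comm]; exact t.orth
  have hrs0 := t.orth
  have hwR : w ∉ R := by
    intro hwR
    by_cases e1 : w = r
    · subst e1; omega
    by_cases e2 : w = -r
    · subst e2; rw [form_neg_left] at h1; omega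
    have := K.orth w hwR r t.hr e1 e2
    omega
  obtain ⟨a, ha, b, hb, hab, e⟩ := K.half w hw hwR
  have hr1 : form cs h a r + form cs h b r > 0 := by
    rw [← form_add_left, ← e, form_smul_left]; omega
  have hs1 : form cs h a s + form cs h b s > 0 := by
    rw [← form_add_left, ← e, form_smul_left]; omega
  have tri : ∀ a ∈ R, ∀ x ∈ R, a = x ∨ a = -x ∨ form cs h a x = 0 := by
    intro a ha x hx
    by_cases e1 : a = x
    · exact Or.inl e1
    by_cases e2 : a = -x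
    · exact Or.inr (Or.inl e2)
    exact Or.inr (Or.inr (K.orth a ha x hx e1 e2))
  have key : (2 : ℤ) • w = r + s := by
    rcases tri a ha r t.hr with rfl | rfl | ha0
    · rcases tri b hb s t.hs with rfl | rfl | hb0
      · exact e
      · rw [form_neg_left] at hs1; omega
      · omega
    · rcases tri b hb s t.hs with rfl | rfl | hb0
      · rw [form_neg_left] at hr1; omega
      · rw [form_neg_left, form_neg_left] at hr1; omega
      · rw [form_neg_left] at hs1; omega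
    · rcases tri b hb r t.hr with rfl | rfl | hb0
      · rcases tri a ha s t.hs with rfl | rfl | ha1
        · rw [e, add_comm]
        · rw [form_neg_left] at hs1; omega
        · omega
      · rw [form_neg_left] at hr1; omega
      · omega
  rw [← t.e] at key
  have h3 : (2 : ℤ) • (w - y) = 0 := by rw [smul_sub, key, sub_self]
  rcases smul_eq_zero.1 h3 with h4 | h4
  · norm_num at h4
  · exact sub_eq_zero.1 h4

/-- a root positive with `r` and orthogonal to the rest of `R` is `r` -/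
theorem eq_of_zero {w : I → ℤ} (hw : IsRoot cs h w) {m a : ℤ} (hm : 0 < m) (ha : 0 < a) (e : m • w = a • r) :
    w = r := by
  have hP : 0 < form cs h r r := t.pos K
  have h1 : 0 < form cs h w r := by
    have h2 : m * form cs h w r = a * form cs h r r := by rw [← form_smul_left, e, form_smul_left]
    have h3 : 0 < a * form cs h r r := mul_pos ha hP
    rw [← h2] at h3
    exact (mul_pos_iff_of_pos_left hm).1 h3
  have hz : ∀ x ∈ R, form cs h r x = 0 → form cs h w x = 0 := by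
    intro x hx h0
    have h2 : m * form cs h w x = a * form cs h r x := by rw [← form_smul_left, e, form_smul_left]
    rw [h0, mul_zero] at h2
    rcases mul_eq_zero.1 h2 with h3 | h3
    · omega
    · exact h3
  by_cases hwR : w ∈ R
  · by_contra e1
    by_cases e2 : w = -r
    · rw [e2, form_neg_left] at h1; omega
    have := K.orth w hwR r t.hr e1 e2
    omega
  · exfalso
    obtain ⟨a', ha', b', hb', hab, e'⟩ := K.half w hw hwR
    have hr1 : form cs h a' r + form cs h b' r > 0 := by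
      rw [← form_add_left, ← e', form_smul_left]; omega
    have key : ∀ a' ∈ R, ∀ b' ∈ R, form cs h a' b' = 0 → (2 : ℤ) • w = a' + b' → form cs h a' r ≠ 0 → False := by
      intro a' ha' b' hb' hab e' hne
      have h2 : form cs h r b' = 0 := by
        by_cases e1 : a' = r
        · rw [← e1]; exact hab
        by_cases e2 : a' = -r
        · rw [e2, form_neg_left] at hab; omega
        exact absurd (K.orth a' ha' r t.hr e1 e2) hne
      have h3 := hz b' hb' h2
      have h4 : 2 * form cs h w b' = form cs h b' b' := by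
        rw [← form_smul_left, e', form_add_left, hab, zero_add]
      have h5 := form_pos cs h (K.root b' hb').ne_zero
      omega
    by_cases h2 : form cs h a' r = 0
    · refine key b' hb' a' ha' (by rw [form_comm]; exact hab) (by rw [e', add_comm]) (by omega)
    · exact key a' ha' b' hb' hab e' h2

/-- **(L1)** -/
theorem no_btwn {x w : I → ℤ} (h1 : 0 < form cs h x r) (h2 : form cs h x s = 0) : ¬ Btwn cs h y x w := by
  rintro ⟨hw, m, a, b, hm, ha, hb, e⟩
  have hy1 : 0 < form cs h y r := by have := t.yr K; have := t.pos K; omega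
  have hy2 : 0 < form cs h y s := by have := t.ys K; have := t.pos K; omega
  have e1 : m * form cs h w r = a * form cs h y r + b * form cs h x r := by
    rw [← form_smul_left, e, form_add_left, form_smul_left, form_smul_left]
  have e2 : m * form cs h w s = a * form cs h y s := by
    rw [← form_smul_left, e, form_add_left, form_smul_left, form_smul_left, h2, mul_zero, add_zero]
  have g1 : 0 < form cs h w r := by
    have h3 : 0 < m * form cs h w r := by rw [e1]; exact add_pos (mul_pos ha hy1) (mul_pos hb h1)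
    exact (mul_pos_iff_of_pos_left hm).1 h3
  have g2 : 0 < form cs h w s := by
    have h3 : 0 < m * form cs h w s := by rw [e2]; exact mul_pos ha hy2
    exact (mul_pos_iff_of_pos_left hm).1 h3
  have g3 := t.eq_of_pos K hw g1 g2
  subst g3
  have g4 : m = a := mul_right_cancel₀ hy2.ne' e2
  rw [g4] at e1
  have := mul_pos hb h1
  omega

/-- **(L2)** -/
theorem btwn_flip {w : I → ℤ} (hw : Btwn cs h y (y - s) w) : w = r := by
  obtain ⟨hw, m, a, b, hm, ha, hb, e⟩ := hw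
  have tf := t.flip K
  have hP := t.pos K
  have y1 := t.yr K
  have y2 := t.ys K
  have y3 := tf.yr K
  have y4 := tf.ys K
  rw [form_neg_right] at y4
  set P := form cs h r r
  have e1 : 2 * (m * form cs h w r) = (a + b) * P := by
    rw [← form_smul_left, e, form_add_left, form_smul_left, form_smul_left]
    linear_combination a * y1 + b * y3
  have e2 : 2 * (m * form cs h w s) = (a - b) * P := by
    rw [← form_smul_left, e, form_add_left, form_smul_left, form_smul_left]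
    linear_combination a * y2 - b * y4
  have g1 : 0 < form cs h w r := by
    have h3 : 0 < m * form cs h w r := by have := mul_pos (add_pos ha hb) hP; omega
    exact (mul_pos_iff_of_pos_left hm).1 h3
  rcases lt_trichotomy (form cs h w s) 0 with h0 | h0 | h0
  · exfalso
    have g3 := tf.eq_of_pos K hw g1 (by rw [form_neg_right]; omega)
    subst g3
    have g5 : (m - (a + b)) * P = 0 := by linear_combination e1 - m * y3
    have g6 : (m + (a - b)) * P = 0 := by linear_combination (-1 : ℤ) * e2 - m * y4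
    rcases mul_eq_zero.1 g5 with h5 | h5
    · rcases mul_eq_zero.1 g6 with h6 | h6 <;> omega
    · omega
  · rw [h0, mul_zero, mul_zero] at e2
    have hab : a = b := by
      rcases mul_eq_zero.1 e2.symm with h5 | h5 <;> omega
    refine t.eq_of_zero K hw hm ha ?_
    rw [e, ← hab, ← smul_add]
    congr 1
    have := t.e
    rw [two_smul] at this
    calc y + (y - s) = (y + y) - s := by abel
      _ = r := by rw [this]; abel
  · exfalso
    have g3 := t.eq_of_pos K hw g1 h0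
    subst g3
    have g5 : (m - (a + b)) * P = 0 := by linear_combination e1 - m * y1
    have g6 : (m - (a - b)) * P = 0 := by linear_combination e2 - m * y2
    rcases mul_eq_zero.1 g5 with h5 | h5
    · rcases mul_eq_zero.1 g6 with h6 | h6 <;> omega
    · omega

/-- **(L3)** -/
theorem btwn_neg {w : I → ℤ} (hw : Btwn cs h (-s) y w) : w = y - s ∨ w = r := by
  obtain ⟨hw, m, a, b, hm, ha, hb, e⟩ := hw
  have tf := t.flip K
  have hP := t.pos K
  have y1 := t.yr K
  have y2 := t.ys K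
  have hl := K.len s t.hs r t.hr
  have hsr : form cs h s r = 0 := by rw [form_comm]; exact t.orth
  set P := form cs h r r
  have e1 : 2 * (m * form cs h w r) = b * P := by
    rw [← form_smul_left, e, form_add_left, form_smul_left, form_smul_left, form_neg_left, hsr]
    linear_combination b * y1
  have e2 : 2 * (m * form cs h w s) = (b - 2 * a) * P := by
    rw [← form_smul_left, e, form_add_left, form_smul_left, form_smul_left, form_neg_left, hl]
    linear_combination b * y2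
  have g1 : 0 < form cs h w r := by
    have h3 : 0 < m * form cs h w r := by have := mul_pos hb hP; omega
    exact (mul_pos_iff_of_pos_left hm).1 h3
  rcases lt_trichotomy (form cs h w s) 0 with h0 | h0 | h0
  · left
    exact tf.eq_of_pos K hw g1 (by rw [form_neg_right]; omega)
  · right
    rw [h0, mul_zero, mul_zero] at e2
    have hab : b = 2 * a := by
      rcases mul_eq_zero.1 e2.symm with h5 | h5 <;> omega
    refine t.eq_of_zero K hw hm ha ?_
    rw [e, hab, mul_comm, mul_smul, t.e, smul_add, smul_neg]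
    abel
  · exfalso
    have g3 := t.eq_of_pos K hw g1 h0
    subst g3
    have g5 : (m - b) * P = 0 := by linear_combination e1 - m * y1
    have g6 : (m - (b - 2 * a)) * P = 0 := by linear_combination e2 - m * y2
    rcases mul_eq_zero.1 g5 with h5 | h5
    · rcases mul_eq_zero.1 g6 with h6 | h6 <;> omega
    · omega

end Tri

end Roots

/-! ### An abstract lemma -/

/-- an automorphism of order three preserving an anisotropic form of exponent three is the identity -/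
theorem fixed_of_aniso {V Y' : Type*} [AddCommGroup V] [Group Y'] (f : V → V → Y') (φ : V → V)
    (hφ : ∀ a b, φ (a + b) = φ a + φ b) (h3 : ∀ v, φ (φ (φ v)) = v)
    (hf1 : ∀ a b v, f (a + b) v = f a v * f b v) (hf3 : ∀ a v, f a v * f a v * f a v = 1)
    (hfφ : ∀ a b, f (φ a) (φ b) = f a b) (an : ∀ v, f v v = 1 → v = 0) (v : V) : φ v = v := by
  have e3 : ∀ v : V, v + v + v = 0 := by
    intro v
    apply an
    rw [hf1, hf1, hf3]
  have hf0 : ∀ v, f 0 v = 1 := by
    intro v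
    have := hf1 0 0 v
    rw [add_zero] at this
    exact (mul_eq_left.1 this.symm)
  have φ0 : φ 0 = 0 := by
    have := hφ 0 0
    rw [add_zero] at this
    exact (add_eq_left.1 this.symm)
  have φn : ∀ a, φ (-a) = -φ a := by
    intro a
    have := hφ (-a) a
    rw [neg_add_cancel, φ0] at this
    exact eq_neg_of_add_eq_zero_left this.symm
  have φs : ∀ a b, φ (a - b) = φ a - φ b := by
    intro a b
    rw [sub_eq_add_neg, hφ, φn, ← sub_eq_add_neg]
  -- one step
  have step : ∀ u, φ (φ u - u) = φ u - u → φ u = u := by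
    intro u hu
    have h1 : f (φ u - u) (φ u - u) = 1 := by
      have h2 : f (φ u) (φ u - u) = f u (φ u - u) := by
        conv_lhs => rw [← hu]
        exact hfφ _ _
      have h4 : f u (φ u - u) * f (-u) (φ u - u) = 1 := by
        rw [← hf1, add_neg_cancel, hf0]
      rw [sub_eq_add_neg, hf1, ← sub_eq_add_neg, h2, h4]
    exact sub_eq_zero.1 (an _ h1)
  have h4 : ∀ u, φ (φ (φ u - u) - (φ u - u)) = φ (φ u - u) - (φ u - u) := by
    intro u
    have h5 := e3 (φ (φ u) - φ u)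
    rw [φs, φs, φs, h3, ← sub_eq_zero]
    have h6 : u - φ (φ u) - (φ (φ u) - φ u) - (φ (φ u) - φ u - (φ u - u)) =
        -((φ (φ u) - φ u) + (φ (φ u) - φ u) + (φ (φ u) - φ u)) := by abel
    rw [h6, h5, neg_zero]
  exact step v (step _ (h4 v))

/-! ### Groups -/

/-- root groups of opposite halves meet trivially -/
theorem sep (D : RGD cs h p T n X) (v : I → ℤ) {u : Y}
    (h1 : u ∈ RGD.Sup X {x | IsRoot cs h x ∧ 0 < form cs h x v})
    (h2 : u ∈ RGD.Sup X {x | IsRoot cs h x ∧ form cs h x v < 0}) : u = 1 := by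
  obtain ⟨w, hw⟩ := Nodes.ClsNorm.exists_dominant (cs := cs) (h := h) v
  obtain ⟨k, hk⟩ := exists_rp cs D.nsys w
  have e1 : k * u * k⁻¹ ∈ RGD.Sup X (RGD.Pos cs h) := by
    refine conj_mem_Sup D hk (S' := RGD.Pos cs h) (fun x hx => hx.1) (fun x hx => ⟨hx.1.act _, ?_⟩) h1
    rcases (hx.1.act w).pos_or_neg with h0 | h0
    · exact h0
    · exfalso
      have h3 := form_nonneg_of_dom cs h hw (neg_nonneg.2 h0)
      rw [form_neg_right, form_comm, form_rep] at h3
      have := hx.2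
      omega
  have e2 : k * u * k⁻¹ ∈ OppDec.UN cs h X := by
    refine conj_mem_Sup D hk (S' := OppDec.Neg cs h) (fun x hx => hx.1) (fun x hx => ⟨hx.1.act _, ?_⟩) h2
    rcases (hx.1.act w).pos_or_neg with h0 | h0
    · exfalso
      have h3 := form_nonneg_of_dom cs h hw h0
      rw [form_comm, form_rep] at h3
      have := hx.2
      omega
    · exact h0
  have h3 : k * u * k⁻¹ ∈ RGD.Sup X (RGD.Pos cs h) ⊓ OppDec.UN cs h X := ⟨e1, e2⟩
  rw [OppDec.U_inf_UN D, Subgroup.mem_bot] at h3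
  have : u = k⁻¹ * (k * u * k⁻¹) * k := by group
  rw [this, h3]; group

/-- an element equal to its inverse is trivial if its order is odd -/
theorem eq_one_of_pow {x : Y} {k : ℕ} (hp : p.Prime) (hodd : p ≠ 2) (hk : x ^ p ^ k = 1) (e : x = x⁻¹) : x = 1 := by
  have h5 : x ^ 2 = 1 := by
    rw [pow_two]
    nth_rewrite 1 [e]
    exact inv_mul_cancel x
  have h6 : orderOf x ∣ 2 := orderOf_dvd_of_pow_eq_one h5
  have h7 : orderOf x ∣ p ^ k := orderOf_dvd_of_pow_eq_one hk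
  have h8 : Nat.Coprime 2 (p ^ k) := by
    apply Nat.Coprime.pow_right
    rw [Nat.coprime_primes Nat.prime_two hp]
    exact fun e => hodd e.symm
  have h9 : orderOf x = 1 := Nat.dvd_one.1 (by rw [← h8]; exact Nat.dvd_gcd h6 h7)
  exact orderOf_eq_one_iff.1 h9

section Groups

variable {r s y : I → ℤ} (C : Cls cs h p T n X R Z z) (K : Lcc cs h R) (t : Tri cs h R r s y)

namespace Tri

include C K t

theorem inv_zr {u : Y} (hu : u ∈ X y) : z r * u * z r = u⁻¹ := by
  have h1 := t.yr K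
  have h2 := t.ys K
  have h3 := t.pos K
  have h4 := t.orth
  refine C.z_inv r t.hr y t.hy ?_ ?_ (by omega) u hu
  · rintro rfl; omega
  · rintro rfl; rw [form_neg_left] at h2; omega

theorem inv_zs {u : Y} (hu : u ∈ X y) : z s * u * z s = u⁻¹ := t.symm.inv_zr C K hu

theorem comm_x {x : I → ℤ} (hx : IsRoot cs h x) (h1 : 0 < form cs h x r) (h2 : form cs h x s = 0) {a b : Y}
    (ha : a ∈ X y) (hb : b ∈ X x) : a * b = b * a := by
  have h3 := t.ys K
  have h4 := t.pos K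
  have h5 := Nodes.PairOf.comm_of_no_btwn C.rgd t.hy hx (by rintro rfl; omega)
    (by rintro rfl; rw [form_neg_left] at h3; omega) (fun w => t.no_btwn K h1 h2) a ha b hb
  rwa [commutatorElement_eq_one_iff_mul_comm] at h5

theorem comm_r {a b : Y} (ha : a ∈ X y) (hb : b ∈ X r) : a * b = b * a :=
  t.comm_x C K (C.root r t.hr) (t.pos K) t.orth ha hb

theorem comm_s {a b : Y} (ha : a ∈ X y) (hb : b ∈ X s) : a * b = b * a := t.symm.comm_r C K ha hb

theorem comm_mem {a b : Y} (ha : a ∈ X y) (hb : b ∈ X (y - s)) : ⁅a, b⁆ ∈ X r := by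
  have h3 := t.yr K
  have h4 := t.pos K
  have h5 := (t.flip K).yr K
  have h1 : s ≠ 0 := (C.root s t.hs).ne_zero
  have h2 := C.rgd.comm y (y - s) t.hy (t.flip K).hy (fun e => h1 (by
    have : y - (y - s) = 0 := by rw [← e, sub_self]
    rwa [sub_sub_cancel] at this)) (fun e => by
      rw [e, form_neg_left] at h3
      omega) a ha b hb
  have h6 : btw cs h X y (y - s) ≤ X r := by
    unfold Reps.btw
    refine iSup_le ?_
    rintro ⟨w, hw⟩
    change X w ≤ X r
    rw [t.btwn_flip K hw]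
  exact h6 h2

theorem comm_mem' {a b : Y} (ha : a ∈ X (-s)) (hb : b ∈ X y) : ⁅a, b⁆ ∈ X (y - s) ⊔ X r := by
  have h3 := t.yr K
  have h4 := t.pos K
  have h5 : form cs h s r = 0 := by rw [form_comm]; exact t.orth
  have h2 := C.rgd.comm (-s) y (C.root s t.hs).neg t.hy (fun e => by
      rw [← e, form_neg_left] at h3
      omega) (fun e => by
      rw [neg_injective e] at h5
      omega) a ha b hb
  have h6 : btw cs h X (-s) y ≤ X (y - s) ⊔ X r := by
    unfold Reps.btw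
    refine iSup_le ?_
    rintro ⟨w, hw⟩
    change X w ≤ _
    rcases t.btwn_neg K hw with e | e
    · rw [e]; exact le_sup_left
    · rw [e]; exact le_sup_right
  exact h6 h2

/-- `Sup {x | (x, r) > 0}` is contained in `X (y - s) X y V₀`. -/
theorem decomp {v : Y} (hv : v ∈ RGD.Sup X {x | IsRoot cs h x ∧ 0 < form cs h x r}) :
    ∃ a ∈ X (y - s), ∃ b ∈ X y, ∃ w ∈ RGD.Sup X {x | IsRoot cs h x ∧ 0 < form cs h x r ∧ form cs h x s = 0},
      v = a * b * w := by
  have tf := t.flip K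
  have hP := t.pos K
  have y1 := t.yr K
  have y2 := t.ys K
  have y3 := tf.yr K
  have y4 := tf.ys K
  rw [form_neg_right] at y4
  set S0 : Set (I → ℤ) := {x | IsRoot cs h x ∧ 0 < form cs h x r ∧ form cs h x s = 0} with hS0
  set S1 : Set (I → ℤ) := {x | IsRoot cs h x ∧ 0 < form cs h x r ∧ 0 ≤ form cs h x s} with hS1
  have h1 : X (y - s) ≤ Subgroup.normalizer (RGD.Sup X S1 : Set Y) := by
    refine C.rgd.le_normalizer tf.hy ?_
    rintro x ⟨hx, hx1, hx2⟩
    refine ⟨hx, Or.inr ⟨?_, ?_⟩⟩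
    · intro e
      rw [e, form_neg_left] at y3
      omega
    · rintro w ⟨hw, m, a, b, hm, ha, hb, e⟩
      have e1 : m * form cs h w r = a * form cs h (y - s) r + b * form cs h x r := by
        rw [← form_smul_left, e, form_add_left, form_smul_left, form_smul_left]
      have e2 : m * form cs h w s = a * form cs h (y - s) s + b * form cs h x s := by
        rw [← form_smul_left, e, form_add_left, form_smul_left, form_smul_left]
      have hf : 0 < form cs h (y - s) r := by omega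
      have g1 : 0 < form cs h w r := by
        have h3 : 0 < m * form cs h w r := by rw [e1]; exact add_pos (mul_pos ha hf) (mul_pos hb hx1)
        exact (mul_pos_iff_of_pos_left hm).1 h3
      refine ⟨hw, g1, ?_⟩
      by_contra hneg
      push Not at hneg
      have g3 := tf.eq_of_pos K hw g1 (by rw [form_neg_right]; omega)
      subst g3
      have g4 : (m - a) * form cs h (y - s) r = b * form cs h x r := by linear_combination e1
      have g5 : (m - a) * form cs h (y - s) s = b * form cs h x s := by linear_combination e2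
      have g6 : 0 < m - a := by
        have h3 : 0 < (m - a) * form cs h (y - s) r := by rw [g4]; exact mul_pos hb hx1
        exact (mul_pos_iff_of_pos_right hf).1 h3
      have g7 : (m - a) * form cs h (y - s) s < 0 := mul_neg_of_pos_of_neg g6 hneg
      have g8 : 0 ≤ b * form cs h x s := mul_nonneg hb.le hx2
      omega
  have h2 : X y ≤ Subgroup.normalizer (RGD.Sup X S0 : Set Y) := by
    refine le_trans ?_ (Nodes.ClsNorm.centralizer_le_normalizer' _)
    intro a ha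
    have h3 : RGD.Sup X S0 ≤ Subgroup.centralizer {a} := by
      refine RGD.Sup_le fun x hx b hb => ?_
      rw [Subgroup.mem_centralizer_singleton_iff]
      exact (t.comm_x C K hx.1 hx.2.1 hx.2.2 ha hb).symm
    rw [Subgroup.mem_centralizer_iff]
    intro b hb
    exact Subgroup.mem_centralizer_singleton_iff.1 (h3 hb)
  have h3 : RGD.Sup X {x | IsRoot cs h x ∧ 0 < form cs h x r} ≤ X (y - s) ⊔ RGD.Sup X S1 := by
    refine RGD.Sup_le fun x hx => ?_
    rcases lt_or_ge (form cs h x s) 0 with h0 | h0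
    · rw [tf.eq_of_pos K hx.1 hx.2 (by rw [form_neg_right]; omega)]
      exact le_sup_left
    · exact le_trans (RGD.le_Sup (S := S1) ⟨hx.1, hx.2, h0⟩) le_sup_right
  have h4 : RGD.Sup X S1 ≤ X y ⊔ RGD.Sup X S0 := by
    refine RGD.Sup_le fun x hx => ?_
    rcases lt_or_eq_of_le hx.2.2 with h0 | h0
    · rw [t.eq_of_pos K hx.1 hx.2.1 h0]
      exact le_sup_left
    · exact le_trans (RGD.le_Sup (S := S0) ⟨hx.1, hx.2.1, h0.symm⟩) le_sup_right
  have h5 : v ∈ ((X (y - s) ⊔ RGD.Sup X S1 : Subgroup Y) : Set Y) := h3 hv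
  rw [Subgroup.coe_mul_of_left_le_normalizer_right _ _ h1, Set.mem_mul] at h5
  obtain ⟨a, ha, m, hm, rfl⟩ := h5
  have h6 : m ∈ ((X y ⊔ RGD.Sup X S0 : Subgroup Y) : Set Y) := h4 hm
  rw [Subgroup.coe_mul_of_left_le_normalizer_right _ _ h2, Set.mem_mul] at h6
  obtain ⟨b, hb, w, hw, rfl⟩ := h6
  exact ⟨a, ha, b, hb, w, hw, by rw [mul_assoc]⟩

/-- **Step A**, `r` dominant -/
theorem stepA_dom (hp : p.Prime) (hodd : p ≠ 2) (hd : Dom A r) {c : Y}
    (hcG : ∀ g ∈ GG cs h T X, c * g * c⁻¹ ∈ GG cs h T X)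
    (hcr : Cq c (KK Z r)) (hcs : Cq c (KK Z s)) {u : Y} (hu : u ∈ X y) : c * u * c⁻¹ ∈ X y := by
  have tf := t.flip K
  have hP := t.pos K
  have y1 := t.yr K
  have y2 := t.ys K
  have y3 := tf.yr K
  have y4 := tf.ys K
  have hzr := hcr _ (C.z_mem r t.hr)
  have hzs := hcs _ (C.z_mem s t.hs)
  have hzr2 := C.z_sq r t.hr
  have hzs2 := C.z_sq s t.hs
  have hzri := Nodes.ZRel.z_inv' C t.hr
  -- a square root
  obtain ⟨u₁, hu₁, hu₂⟩ : ∃ u₁ ∈ X y, u₁ * u₁ = u := by
    obtain ⟨k, hk⟩ := (C.rgd.pgrp' t.hy) ⟨u, hu⟩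
    have hk' : u ^ p ^ k = 1 := congrArg Subtype.val hk
    obtain ⟨m, hm⟩ := (hp.odd_of_ne_two hodd).pow (n := k)
    refine ⟨u ^ (m + 1), pow_mem hu _, ?_⟩
    rw [← pow_add]
    have : m + 1 + (m + 1) = p ^ k + 1 := by omega
    rw [this, pow_succ, hk', one_mul]
  set v := c * u * c⁻¹ with hv
  have hc' : ∀ x, c * x = x * c → c⁻¹ * x = x * c⁻¹ := by
    intro x hx
    calc c⁻¹ * x = c⁻¹ * (x * c) * c⁻¹ := by group
      _ = c⁻¹ * (c * x) * c⁻¹ := by rw [hx]
      _ = x * c⁻¹ := by group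
  have hvV : v ∈ LeviDec.VJ cs h X (StabComb.orth cs h r) := by
    have hg : c * u₁ * c⁻¹ ∈ GG cs h T X := by
      apply hcG
      exact (le_sup_right : G1 cs h X ≤ GG cs h T X) (X_le_G1 t.hy hu₁)
    have hcN : c ∈ Subgroup.normalizer (Z r : Set Y) :=
      Nodes.ClsNorm.centralizer_le_normalizer' _ (Subgroup.mem_centralizer_iff.2 fun x hx =>
        (hcr x ((le_sup_left : Z r ≤ KK Z r) hx)).symm)
    have hu₁N : u₁ ∈ Subgroup.normalizer (Z r : Set Y) :=
      Nodes.ClsNorm.centralizer_le_normalizer' _ (Nodes.ClsNorm.X_le_centralizer C t.hr t.hy (by omega) hu₁)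
    have h1 := Nodes.ClsNorm.comm_mem_VJ C t.hr hd hg (mul_mem (mul_mem hcN hu₁N) (inv_mem hcN))
    have h2 : c * u₁ * c⁻¹ * z r * (c * u₁ * c⁻¹)⁻¹ * (z r)⁻¹ = v := by
      have h3 := t.inv_zr C K (inv_mem hu₁)
      rw [inv_inv] at h3
      calc c * u₁ * c⁻¹ * z r * (c * u₁ * c⁻¹)⁻¹ * (z r)⁻¹
          = c * u₁ * (c⁻¹ * z r) * c * u₁⁻¹ * (c⁻¹ * (z r)⁻¹) := by group
        _ = c * u₁ * (z r * c⁻¹) * c * u₁⁻¹ * (z r * c⁻¹) := by rw [hzri, hc' _ hzr]
        _ = c * u₁ * (z r * u₁⁻¹ * z r) * c⁻¹ := by group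
        _ = c * (u₁ * u₁) * c⁻¹ := by rw [h3]; group
        _ = v := by rw [hu₂]
    rwa [h2] at h1
  have hvS : v ∈ RGD.Sup X {x | IsRoot cs h x ∧ 0 < form cs h x r} := by
    refine RGD.Sup_mono (fun x hx => ?_) hvV
    have hx1 : IsRoot cs h x := hx.1
    exact ⟨hx1, (Nodes.ClsNorm.mem_NotJ_orth_iff hd hx1).1 hx⟩
  obtain ⟨a, ha, b, hb, w, hw, e⟩ := t.decomp C K hvS
  -- `a = 1`
  have hvs : ∀ x ∈ Z s, v * x = x * v := by
    intro x hx
    have h1 := hcs x ((le_sup_left : Z s ≤ KK Z s) hx)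
    have h2 := C.cent s t.hs y t.hy (by omega) u hu x hx
    calc v * x = c * u * (c⁻¹ * x) := by rw [hv]; group
      _ = c * (u * x) * c⁻¹ := by rw [hc' _ h1]; group
      _ = (c * x) * u * c⁻¹ := by rw [h2]; group
      _ = x * v := by rw [h1, hv]; group
  have hws : ∀ x ∈ Z s, w * x = x * w := by
    intro x hx
    have h1 : RGD.Sup X {x | IsRoot cs h x ∧ 0 < form cs h x r ∧ form cs h x s = 0} ≤ Subgroup.centralizer {x} := by
      refine RGD.Sup_le fun x' hx' b' hb' => ?_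
      rw [Subgroup.mem_centralizer_singleton_iff]
      exact C.cent s t.hs x' hx'.1 hx'.2.2.ge b' hb' x hx
    exact Subgroup.mem_centralizer_singleton_iff.1 (h1 hw)
  have ha1 : a = 1 := by
    have h1 : ∀ x ∈ Z s, a * x = x * a := by
      intro x hx
      have h2 := hvs x hx
      have h3 := C.cent s t.hs y t.hy (by omega) b hb x hx
      have h4 := hws x hx
      have h5 : a = v * w⁻¹ * b⁻¹ := by rw [e]; group
      have hi : ∀ g : Y, g * x = x * g → g⁻¹ * x = x * g⁻¹ := by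
        intro g hg
        calc g⁻¹ * x = g⁻¹ * (x * g) * g⁻¹ := by group
          _ = g⁻¹ * (g * x) * g⁻¹ := by rw [hg]
          _ = x * g⁻¹ := by group
      calc a * x = v * w⁻¹ * (b⁻¹ * x) := by rw [h5]; group
        _ = v * (w⁻¹ * x) * b⁻¹ := by rw [hi b h3]; group
        _ = (v * x) * w⁻¹ * b⁻¹ := by rw [hi w h4]; group
        _ = x * a := by rw [h2, h5]; group
    have h2 : ∀ x ∈ Z (-s), a * x = x * a := fun x hx =>
      C.cent (-s) tf.hs (y - s) tf.hy (by omega) a ha x hx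
    have h3 : z s ∈ Subgroup.centralizer {a} := by
      refine (sup_le (fun x hx => ?_) (fun x hx => ?_) : Z s ⊔ Z (-s) ≤ Subgroup.centralizer {a}) (C.z_mem s t.hs)
      · rw [Subgroup.mem_centralizer_singleton_iff]; exact (h1 x hx).symm
      · rw [Subgroup.mem_centralizer_singleton_iff]; exact (h2 x hx).symm
    have h4 : z s * a = a * z s := Subgroup.mem_centralizer_singleton_iff.1 h3
    have h5 := tf.inv_zs C K ha
    rw [C.z_neg s t.hs, h4, mul_assoc, hzs2, mul_one] at h5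
    exact Nodes.ZRel.eq_one_of_inv C hp hodd tf.hy ha h5
  rw [ha1, one_mul] at e
  -- `w = 1`
  have hwz : z s * w = w * z s := by
    have h1 : RGD.Sup X {x | IsRoot cs h x ∧ 0 < form cs h x r ∧ form cs h x s = 0} ≤
        Subgroup.centralizer {z s} := by
      refine RGD.Sup_le fun x' hx' b' hb' => ?_
      rw [Subgroup.mem_centralizer_singleton_iff]
      exact Nodes.ZRel.z_cent_of_orth C t.hs hx'.1 hx'.2.2 hb'
    exact (Subgroup.mem_centralizer_singleton_iff.1 (h1 hw)).symm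
  have hbw : b * w = w * b := by
    have h1 : RGD.Sup X {x | IsRoot cs h x ∧ 0 < form cs h x r ∧ form cs h x s = 0} ≤
        Subgroup.centralizer {b} := by
      refine RGD.Sup_le fun x' hx' b' hb' => ?_
      rw [Subgroup.mem_centralizer_singleton_iff]
      exact (t.comm_x C K hx'.1 hx'.2.1 hx'.2.2 hb hb').symm
    exact (Subgroup.mem_centralizer_singleton_iff.1 (h1 hw)).symm
  have hvz : z s * v * z s = v⁻¹ := by
    calc z s * v * z s = (z s * c) * u * (c⁻¹ * z s) := by rw [hv]; group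
      _ = (c * z s) * u * (z s * c⁻¹) := by rw [hzs, hc' _ hzs]
      _ = c * (z s * u * z s) * c⁻¹ := by group
      _ = v⁻¹ := by rw [t.inv_zs C K hu, hv]; group
  have hw1 : w = 1 := by
    have hpg : IsPGroup p ↥(RGD.Sup X {x | IsRoot cs h x ∧ 0 < form cs h x r ∧ form cs h x s = 0}) := by
      refine C.rgd.isPGroup_of_pos fun x hx => ⟨hx.1, ?_⟩
      exact ((Nodes.ClsNorm.mem_NotJ_orth_iff hd hx.1).2 hx.2.1).2.1
    obtain ⟨k, hk⟩ := hpg ⟨w, hw⟩
    have hk' : w ^ p ^ k = 1 := congrArg Subtype.val hk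
    refine eq_one_of_pow hp hodd hk' ?_
    have h1 := t.inv_zs C K hb
    have h2 : z s * (b * w) * z s = b⁻¹ * w := by
      calc z s * (b * w) * z s = z s * b * (w * z s) := by group
        _ = (z s * b * z s) * w := by rw [← hwz]; group
        _ = b⁻¹ * w := by rw [h1]
    rw [e, h2, hbw, mul_inv_rev] at hvz
    exact mul_left_cancel hvz
  rw [e, hw1, mul_one]
  exact hb

end Tri

include C in
theorem Cq.conj_rp {c : Y} {k : Y} {H : Subgroup Y} (hc : Cq c H) : Cq (k * c * k⁻¹) (cj k H) := by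
  intro y hy
  have h2 := hc _ (mem_cj.1 hy)
  calc k * c * k⁻¹ * y = k * (c * (k⁻¹ * y * k)) * k⁻¹ := by group
    _ = k * ((k⁻¹ * y * k) * c) * k⁻¹ := by rw [h2]
    _ = y * (k * c * k⁻¹) := by group

namespace Tri

include C K t

/-- **Step A** -/
theorem stepA (hp : p.Prime) (hodd : p ≠ 2) {c : Y} (hcG : ∀ g ∈ GG cs h T X, c * g * c⁻¹ ∈ GG cs h T X)
    (hcr : Cq c (KK Z r)) (hcs : Cq c (KK Z s)) {u : Y} (hu : u ∈ X y) : c * u * c⁻¹ ∈ X y := by
  obtain ⟨w, hw⟩ := Nodes.ClsNorm.exists_dominant (cs := cs) (h := h) r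
  obtain ⟨k, hk⟩ := exists_rp cs C.rgd.nsys w
  have hkG : k ∈ GG cs h T X := NN_le_GG C.rgd ⟨_, hk⟩
  have t' : Tri cs h R (rep cs h w r) (rep cs h w s) (rep cs h w y) :=
    ⟨C.act r t.hr w, C.act s t.hs w, by rw [form_rep, t.orth], t.hy.act w, by rw [← map_smul, t.e, map_add]⟩
  have h1 := t'.stepA_dom C K hp hodd hw (c := k * c * k⁻¹) (fun g hg => by
      have h2 : k * c * k⁻¹ * g * (k * c * k⁻¹)⁻¹ = k * (c * (k⁻¹ * g * k) * c⁻¹) * k⁻¹ := by group
      rw [h2]
      exact mul_mem (mul_mem hkG (hcG _ (mul_mem (mul_mem (inv_mem hkG) hg) hkG))) (inv_mem hkG))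
    (by rw [← Nodes.Perp.conj_KK C hk t.hr]; exact Cq.conj_rp C hcr)
    (by rw [← Nodes.Perp.conj_KK C hk t.hs]; exact Cq.conj_rp C hcs) (u := k * u * k⁻¹)
    (by rw [← C.rgd.conj_rp hk t.hy]; exact conj_mem_cj.2 hu)
  have h2 : k * c * k⁻¹ * (k * u * k⁻¹) * (k * c * k⁻¹)⁻¹ = k * (c * u * c⁻¹) * k⁻¹ := by group
  rw [h2, ← C.rgd.conj_rp hk t.hy] at h1
  exact conj_mem_cj.1 h1

/-- **Step C** (anisotropy) -/
theorem aniso (hp : p.Prime) (hodd : p ≠ 2) {a₀ b₀ c₀ : Y} (ha₀ : a₀ ∈ Z s) (hb₀ : b₀ ∈ Z (-s)) (hb₁ : b₀ ≠ 1)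
    (hc₀ : c₀ ∈ Z s) {w : W} (hm : Rp cs C.rgd.nsys w (a₀ * b₀ * c₀))
    (hw : ∀ x, rep cs h w x = x - cpr cs h x s • s) {u : Y} (hu : u ∈ X y)
    (hcm : u * ((a₀ * b₀ * c₀)⁻¹ * u * (a₀ * b₀ * c₀)) = ((a₀ * b₀ * c₀)⁻¹ * u * (a₀ * b₀ * c₀)) * u) : u = 1 := by
  by_contra hu1
  have tf := t.flip K
  have tn := t.neg K
  have hP := t.pos K
  have y1 := t.yr K
  have y2 := t.ys K
  have y3 := tf.yr K
  have y4 := tf.ys K
  rw [form_neg_right] at y4
  have hsr : form cs h s r = 0 := by rw [form_comm]; exact t.orth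
  have hss := K.len s t.hs r t.hr
  have hrR := C.root r t.hr
  have hsR := C.root s t.hs
  have hzs2 := C.z_sq s t.hs
  set n₀ := a₀ * b₀ * c₀ with hn₀
  -- `u` is part of a reflection
  obtain ⟨a', ha', c', hc', w', hm', hw'⟩ := exists_refl_LL C.rgd t.hy.neg (b := u) (by rwa [neg_neg]) hu1
  have hrw : rep cs h w' r = -s := by
    rw [hw', cpr_neg_right cs h _ t.hy, t.cpr_ry K]
    have := t.e
    rw [two_smul] at this
    rw [neg_smul_neg, two_smul, this]; abel
  have hcZ : cj (a' * u * c') (Z r) = Z (-s) := by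
    rw [Nodes.ClsNorm.conj_Z C hm' t.hr, hrw]
  have hab : a' * b₀ = b₀ * a' := C.cent (-s) (K.neg s t.hs) (-y) t.hy.neg
    (by rw [form_neg_left, form_neg_right]; omega) a' ha' b₀ hb₀
  obtain ⟨ρ, hρ, hρe⟩ : ∃ ρ ∈ Z r, u⁻¹ * b₀ * u = c' * ρ * c'⁻¹ := by
    refine ⟨(a' * u * c')⁻¹ * b₀ * (a' * u * c'), mem_cj.1 (by rw [hcZ]; exact hb₀), ?_⟩
    calc u⁻¹ * b₀ * u = u⁻¹ * (a'⁻¹ * (a' * b₀)) * u := by group
      _ = u⁻¹ * (a'⁻¹ * (b₀ * a')) * u := by rw [hab]
      _ = c' * ((a' * u * c')⁻¹ * b₀ * (a' * u * c')) * c'⁻¹ := by group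
  have hρ1 : ρ ≠ 1 := by
    rintro rfl
    apply hb₁
    have h1 : b₀ = u * (u⁻¹ * b₀ * u) * u⁻¹ := by group
    rw [h1, hρe]; group
  -- commuting root groups
  have hy'r : ∀ {a b : Y}, a ∈ X (y - s) → b ∈ X r → a * b = b * a := fun ha hb => tf.comm_r C K ha hb
  have hy's : ∀ {a b : Y}, a ∈ X (y - s) → b ∈ X (-s) → a * b = b * a := fun ha hb => tf.comm_s C K ha hb
  have hsup : ∀ {a b : I → ℤ}, (∀ g ∈ X a, ∀ k ∈ X b, g * k = k * g) → ∀ g ∈ X a ⊔ X b,
      ∃ g₁ ∈ X a, ∃ g₂ ∈ X b, g = g₁ * g₂ := by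
    intro a b hcm g hg
    have h1 : X a ≤ Subgroup.normalizer (X b : Set Y) := by
      refine le_trans ?_ (Nodes.ClsNorm.centralizer_le_normalizer' _)
      intro g hg
      rw [Subgroup.mem_centralizer_iff]
      intro k hk
      exact (hcm g hg k hk).symm
    have h2 : g ∈ ((X a ⊔ X b : Subgroup Y) : Set Y) := hg
    rw [Subgroup.coe_mul_of_left_le_normalizer_right _ _ h1, Set.mem_mul] at h2
    obtain ⟨g₁, h3, g₂, h4, e⟩ := h2
    exact ⟨g₁, h3, g₂, h4, e.symm⟩
  -- first decomposition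
  obtain ⟨v, hv, w₁, hw₁, e1⟩ := hsup (fun g hg k hk => hy'r hg hk) _
    (t.comm_mem' C K (inv_mem (C.le _ (K.neg s t.hs) hb₀)) (inv_mem hu))
  have e2 : u⁻¹ * b₀ * u = b₀ * v * w₁ := by
    rw [mul_assoc b₀, ← e1, commutatorElement_def]; group
  -- second decomposition
  obtain ⟨v₂, hv₂, ζ, hζ, e3⟩ : ∃ v₂ ∈ X (y - s), ∃ ζ ∈ X (-s), ⁅c', ρ⁆ = v₂ * ζ := by
    refine hsup (fun g hg k hk => hy's hg hk) _ ?_
    have h1 := tn.symm.comm_mem' C K (a := ρ) (b := c') (by rw [neg_neg]; exact C.le r t.hr hρ) hc'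
    have h2 : -y - -r = y - s := by
      have := t.e
      rw [two_smul] at this
      have h3 : y - s - (-y - -r) = (y + y) - (r + s) := by abel
      rw [this, sub_self] at h3
      exact (sub_eq_zero.1 h3).symm
    rw [h2] at h1
    have h3 : ⁅c', ρ⁆ = ⁅ρ, c'⁆⁻¹ := by rw [commutatorElement_inv]
    rw [h3]
    exact inv_mem h1
  have e4 : u⁻¹ * b₀ * u = v₂ * ζ * ρ := by
    rw [hρe, ← e3, commutatorElement_def]; group
  have hζv := hy's hv₂ hζ
  -- uniqueness
  have e5 : ζ⁻¹ * b₀ = 1 := by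
    have h1 : ζ⁻¹ * b₀ = v₂ * ρ * w₁⁻¹ * v⁻¹ := by
      have h2 : b₀ * v * w₁ = ζ * v₂ * ρ := by rw [← e2, e4, hζv]
      calc ζ⁻¹ * b₀ = ζ⁻¹ * (b₀ * v * w₁) * w₁⁻¹ * v⁻¹ := by group
        _ = ζ⁻¹ * (ζ * v₂ * ρ) * w₁⁻¹ * v⁻¹ := by rw [h2]
        _ = v₂ * ρ * w₁⁻¹ * v⁻¹ := by group
    refine sep C.rgd ((2 : ℤ) • r + s) ?_ ?_
    · rw [h1]
      have f1 : 0 < form cs h (y - s) ((2 : ℤ) • r + s) := by
        rw [form_add_right, form_smul_right]; omega
      have f2 : 0 < form cs h r ((2 : ℤ) • r + s) := by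
        rw [form_add_right, form_smul_right, t.orth]; omega
      have g1 : X (y - s) ≤ RGD.Sup X {x | IsRoot cs h x ∧ 0 < form cs h x ((2 : ℤ) • r + s)} :=
        RGD.le_Sup (S := {x | IsRoot cs h x ∧ 0 < form cs h x ((2 : ℤ) • r + s)}) ⟨tf.hy, f1⟩
      have g2 : X r ≤ RGD.Sup X {x | IsRoot cs h x ∧ 0 < form cs h x ((2 : ℤ) • r + s)} :=
        RGD.le_Sup (S := {x | IsRoot cs h x ∧ 0 < form cs h x ((2 : ℤ) • r + s)}) ⟨hrR, f2⟩
      exact mul_mem (mul_mem (mul_mem (g1 hv₂) (g2 (C.le r t.hr hρ))) (inv_mem (g2 hw₁))) (inv_mem (g1 hv))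
    · have f1 : form cs h (-s) ((2 : ℤ) • r + s) < 0 := by
        rw [form_neg_left, form_add_right, form_smul_right, hsr]; omega
      have g1 : X (-s) ≤ RGD.Sup X {x | IsRoot cs h x ∧ form cs h x ((2 : ℤ) • r + s) < 0} :=
        RGD.le_Sup (S := {x | IsRoot cs h x ∧ form cs h x ((2 : ℤ) • r + s) < 0}) ⟨hsR.neg, f1⟩
      exact mul_mem (inv_mem (g1 hζ)) (g1 (C.le _ (K.neg s t.hs) hb₀))
  have hw₁ρ : w₁ = ρ := by
    have h0 : ζ = b₀ := inv_mul_eq_one.1 e5
    have h2 : b₀ * v * w₁ = ζ * v₂ * ρ := by rw [← e2, e4, hζv]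
    rw [h0] at h2
    have h3 : v⁻¹ * v₂ = w₁ * ρ⁻¹ := by
      have h4 : v * w₁ = v₂ * ρ := by
        have := congrArg (fun g => b₀⁻¹ * g) h2
        simpa [mul_assoc] using this
      calc v⁻¹ * v₂ = v⁻¹ * (v₂ * ρ) * ρ⁻¹ := by group
        _ = w₁ * ρ⁻¹ := by rw [← h4]; group
    have h4 : v⁻¹ * v₂ ∈ X (y - s) ⊓ X r := by
      refine Subgroup.mem_inf.2 ⟨mul_mem (inv_mem hv) hv₂, ?_⟩
      rw [h3]
      exact mul_mem hw₁ (inv_mem (C.le r t.hr hρ))
    rw [OppDec.X_inf_X C.rgd tf.hy hrR (by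
      intro e
      rw [e, t.orth] at y4
      omega), Subgroup.mem_bot] at h4
    rw [h4] at h3
    exact (mul_inv_eq_one.1 h3.symm)
  -- conjugation by `z s`
  have hzsu := t.inv_zs C K hu
  have hzsv : z s * v * z s = v⁻¹ := by
    have := tf.inv_zs C K hv
    rwa [C.z_neg s t.hs] at this
  have hzsb : z s * b₀ = b₀ * z s := by
    have := C.z_cent (-s) (K.neg s t.hs) b₀ hb₀
    rwa [C.z_neg s t.hs] at this
  have hzsw : w₁ * z s = z s * w₁ := Nodes.ZRel.z_cent_of_orth C t.hs hrR t.orth hw₁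
  have hzsui := t.inv_zs C K (inv_mem hu)
  rw [inv_inv] at hzsui
  have e6 : u * b₀ * u⁻¹ = b₀ * v⁻¹ * w₁ := by
    calc u * b₀ * u⁻¹ = (z s * u⁻¹ * z s) * b₀ * (z s * u * z s) := by rw [hzsu, hzsui]
      _ = z s * u⁻¹ * (z s * b₀) * z s * u * z s := by group
      _ = z s * u⁻¹ * (b₀ * z s) * z s * u * z s := by rw [hzsb]
      _ = z s * u⁻¹ * b₀ * (z s * z s) * u * z s := by group
      _ = z s * (u⁻¹ * b₀ * u) * z s := by rw [hzs2]; group
      _ = (z s * b₀) * v * (w₁ * z s) := by rw [e2]; group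
      _ = b₀ * (z s * v * z s) * w₁ := by rw [hzsb, hzsw]; group
      _ = b₀ * v⁻¹ * w₁ := by rw [hzsv]
  have huw : u * w₁ = w₁ * u := t.comm_r C K hu hw₁
  have hvw : v * w₁ = w₁ * v := hy'r hv hw₁
  have e7 : u * v * u⁻¹ = w₁⁻¹ * v * w₁⁻¹ := by
    have h1 : b₀ = b₀ * v⁻¹ * w₁ * (u * v * u⁻¹) * w₁ := by
      calc b₀ = u * (u⁻¹ * b₀ * u) * u⁻¹ := by group
        _ = (u * b₀ * u⁻¹) * (u * v * w₁ * u⁻¹) := by rw [e2]; group
        _ = b₀ * v⁻¹ * w₁ * (u * v * (w₁ * u⁻¹)) := by rw [e6]; group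
        _ = b₀ * v⁻¹ * w₁ * (u * v * (u⁻¹ * (u * w₁) * u⁻¹)) := by group
        _ = b₀ * v⁻¹ * w₁ * (u * v * (u⁻¹ * (w₁ * u) * u⁻¹)) := by rw [huw]
        _ = b₀ * v⁻¹ * w₁ * (u * v * u⁻¹) * w₁ := by group
    calc u * v * u⁻¹ = w₁⁻¹ * v * b₀⁻¹ * (b₀ * v⁻¹ * w₁ * (u * v * u⁻¹) * w₁) * w₁⁻¹ := by group
      _ = w₁⁻¹ * v * b₀⁻¹ * b₀ * w₁⁻¹ := by rw [← h1]
      _ = w₁⁻¹ * v * w₁⁻¹ := by group
  -- `v = n₀⁻¹ u⁻¹ n₀`
  have hcpr : rep cs h w (y - s) = y := by
    have h1 : cpr cs h (y - s) s = -1 := by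
      have := tf.cpr_ys K
      rw [cpr_neg_right cs h _ hsR] at this
      omega
    rw [hw, h1, neg_smul, one_smul]; abel
  have hũ : ∀ {g : Y}, g ∈ X y → n₀⁻¹ * g * n₀ ∈ X (y - s) := by
    intro g hg
    have h1 := C.rgd.conj_mem' hm t.hy hg
    rwa [← hcpr, rep_inv_apply] at h1
  have hau : a₀ * u = u * a₀ := (C.cent s t.hs y t.hy (by omega) u hu a₀ ha₀).symm
  have hcu : c₀ * u = u * c₀ := (C.cent s t.hs y t.hy (by omega) u hu c₀ hc₀).symm
  set ũ := n₀⁻¹ * u⁻¹ * n₀ with hũd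
  have hũm : ũ ∈ X (y - s) := hũ (inv_mem hu)
  have e8 : u⁻¹ * b₀ * u = b₀ * (c₀ * ũ * c₀⁻¹) * u := by
    have h1 : b₀ = a₀⁻¹ * n₀ * c₀⁻¹ := by rw [hn₀]; group
    have h2 : u⁻¹ * a₀⁻¹ = a₀⁻¹ * u⁻¹ := by rw [← mul_inv_rev, ← mul_inv_rev, hau]
    have h3 : c₀⁻¹ * u = u * c₀⁻¹ := by
      calc c₀⁻¹ * u = c₀⁻¹ * (u * c₀) * c₀⁻¹ := by group
        _ = c₀⁻¹ * (c₀ * u) * c₀⁻¹ := by rw [hcu]
        _ = u * c₀⁻¹ := by group
    calc u⁻¹ * b₀ * u = (u⁻¹ * a₀⁻¹) * n₀ * (c₀⁻¹ * u) := by rw [h1]; group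
      _ = a₀⁻¹ * n₀ * ũ * (u * c₀⁻¹) := by rw [h2, h3, hũd]; group
      _ = a₀⁻¹ * n₀ * ũ * (c₀⁻¹ * u) := by rw [h3]
      _ = b₀ * (c₀ * ũ * c₀⁻¹) * u := by rw [h1]; group
  have e9 : ⁅c₀, ũ⁻¹⁆ ∈ X y ⊔ X r := by
    have h1 := tf.comm_mem' C K (a := c₀) (b := ũ⁻¹) (by rw [neg_neg]; exact C.le s t.hs hc₀) (inv_mem hũm)
    have h2 : y - s - -s = y := by abel
    rwa [h2] at h1
  have e10 : v = ũ := by
    have h1 : ũ⁻¹ * v = ⁅c₀, ũ⁻¹⁆⁻¹ * u * w₁⁻¹ := by
      have h2 : b₀ * v * w₁ = b₀ * (c₀ * ũ * c₀⁻¹) * u := by rw [← e2, e8]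
      calc ũ⁻¹ * v = ũ⁻¹ * b₀⁻¹ * (b₀ * v * w₁) * w₁⁻¹ := by group
        _ = ũ⁻¹ * b₀⁻¹ * (b₀ * (c₀ * ũ * c₀⁻¹) * u) * w₁⁻¹ := by rw [h2]
        _ = ⁅c₀, ũ⁻¹⁆⁻¹ * u * w₁⁻¹ := by rw [commutatorElement_def]; group
    have h3 : ũ⁻¹ * v = 1 := by
      refine sep C.rgd (-(r + (2 : ℤ) • s)) ?_ ?_
      · have f1 : 0 < form cs h (y - s) (-(r + (2 : ℤ) • s)) := by
          rw [form_neg_right, form_add_right, form_smul_right]; omega
        have g1 : X (y - s) ≤ RGD.Sup X {x | IsRoot cs h x ∧ 0 < form cs h x (-(r + (2 : ℤ) • s))} :=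
          RGD.le_Sup (S := {x | IsRoot cs h x ∧ 0 < form cs h x (-(r + (2 : ℤ) • s))}) ⟨tf.hy, f1⟩
        exact mul_mem (inv_mem (g1 hũm)) (g1 hv)
      · rw [h1]
        have f1 : form cs h y (-(r + (2 : ℤ) • s)) < 0 := by
          rw [form_neg_right, form_add_right, form_smul_right]; omega
        have f2 : form cs h r (-(r + (2 : ℤ) • s)) < 0 := by
          rw [form_neg_right, form_add_right, form_smul_right, t.orth]; omega
        have g1 : X y ≤ RGD.Sup X {x | IsRoot cs h x ∧ form cs h x (-(r + (2 : ℤ) • s)) < 0} :=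
          RGD.le_Sup (S := {x | IsRoot cs h x ∧ form cs h x (-(r + (2 : ℤ) • s)) < 0}) ⟨t.hy, f1⟩
        have g2 : X r ≤ RGD.Sup X {x | IsRoot cs h x ∧ form cs h x (-(r + (2 : ℤ) • s)) < 0} :=
          RGD.le_Sup (S := {x | IsRoot cs h x ∧ form cs h x (-(r + (2 : ℤ) • s)) < 0}) ⟨hrR, f2⟩
        exact mul_mem (mul_mem (inv_mem ((sup_le g1 g2) e9)) (g1 hu)) (inv_mem (g2 hw₁))
    exact (inv_mul_eq_one.1 h3).symm
  -- conclusion
  have e11 : u * v = v * u := by
    have h1 : v = (n₀⁻¹ * u * n₀)⁻¹ := by rw [e10, hũd]; group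
    rw [h1]
    calc u * (n₀⁻¹ * u * n₀)⁻¹ = (n₀⁻¹ * u * n₀)⁻¹ * ((n₀⁻¹ * u * n₀) * u) * (n₀⁻¹ * u * n₀)⁻¹ := by group
      _ = (n₀⁻¹ * u * n₀)⁻¹ * (u * (n₀⁻¹ * u * n₀)) * (n₀⁻¹ * u * n₀)⁻¹ := by rw [hcm]
      _ = (n₀⁻¹ * u * n₀)⁻¹ * u := by group
  have e12 : w₁ = w₁⁻¹ := by
    have h1 : v = w₁⁻¹ * v * w₁⁻¹ := by rw [← e7, e11]; group
    have h2 : v * w₁⁻¹ = w₁⁻¹ * v := by
      calc v * w₁⁻¹ = w₁⁻¹ * (w₁ * v) * w₁⁻¹ := by group
        _ = w₁⁻¹ * (v * w₁) * w₁⁻¹ := by rw [hvw]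
        _ = w₁⁻¹ * v := by group
    rw [← h2] at h1
    have h3 : v * 1 = v * (w₁⁻¹ * w₁⁻¹) := by rw [mul_one, ← mul_assoc]; exact h1
    have h4 := mul_left_cancel h3
    calc w₁ = w₁ * 1 := (mul_one _).symm
      _ = w₁ * (w₁⁻¹ * w₁⁻¹) := by rw [h4]
      _ = w₁⁻¹ := by group
  exact hρ1 (hw₁ρ ▸ Nodes.ZRel.eq_one_of_inv C hp hodd hrR hw₁ e12)

/-- **Step D**: `c` centralises `X y` -/
theorem cent (hp : p.Prime) (hodd : p ≠ 2) (hZ : ∀ b ∈ Z r, b * b * b = 1) {c : Y} (hc3 : c * c * c = 1)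
    (hcG : ∀ g ∈ GG cs h T X, c * g * c⁻¹ ∈ GG cs h T X)
    (hcr : Cq c (KK Z r)) (hcs : Cq c (KK Z s)) : Cq c (X y) := by
  have tf := t.flip K
  have hP := t.pos K
  have y1 := t.yr K
  have y2 := t.ys K
  have hrR := C.root r t.hr
  have hsR := C.root s t.hs
  obtain ⟨b₀, hb₀, hb₁⟩ := Z_ne_bot' C (K.neg s t.hs)
  obtain ⟨a₀, ha₀, c₀, hc₀, w, hm, hw⟩ := exists_refl_KK C hp hodd t.hs hb₀ hb₁
  have han := fun {u : Y} => t.aniso C K hp hodd ha₀ hb₀ hb₁ hc₀ hm hw (u := u)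
  have hn₀K : a₀ * b₀ * c₀ ∈ KK Z s :=
    mul_mem (mul_mem ((le_sup_left : Z s ≤ KK Z s) ha₀) ((le_sup_right : Z (-s) ≤ KK Z s) hb₀))
      ((le_sup_left : Z s ≤ KK Z s) hc₀)
  set n₀ := a₀ * b₀ * c₀ with hn₀
  have hcpr : rep cs h w (y - s) = y := by
    have h1 : cpr cs h (y - s) s = -1 := by
      have := tf.cpr_ys K
      rw [cpr_neg_right cs h _ hsR] at this
      omega
    rw [hw, h1, neg_smul, one_smul]; abel
  have hcj : ∀ {g : Y}, g ∈ X y → n₀⁻¹ * g * n₀ ∈ X (y - s) := by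
    intro g hg
    have h1 := C.rgd.conj_mem' hm t.hy hg
    rwa [← hcpr, rep_inv_apply] at h1
  -- the form
  obtain ⟨f, hf⟩ : ∃ f : Y → Y → Y, ∀ a b, f a b = ⁅a, n₀⁻¹ * b * n₀⁆ := ⟨_, fun a b => rfl⟩
  have hfr : ∀ a ∈ X y, ∀ b ∈ X y, f a b ∈ X r := fun a ha b hb => by
    rw [hf]; exact t.comm_mem C K ha (hcj hb)
  have hfZ : ∀ a ∈ X y, ∀ b ∈ X y, f a b ∈ Z r := by
    intro a ha b hb
    refine mem_Z_of_comm C hp hodd t.hr (hfr a ha b hb) ?_
    have hr := hfr a ha b hb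
    rw [hf] at hr ⊢
    set b' := n₀⁻¹ * b * n₀ with hb'
    have hb'm : b' ∈ X (y - s) := hcj hb
    have h1 := t.inv_zr C K ha
    have h2 := tf.inv_zr C K hb'm
    have h1' := t.inv_zr C K (inv_mem ha)
    have h2' := tf.inv_zr C K (inv_mem hb'm)
    have hzz := C.z_sq r t.hr
    have e1 : z r * ⁅a, b'⁆ * z r = a⁻¹ * b'⁻¹ * a * b' := by
      calc z r * ⁅a, b'⁆ * z r = z r * a * 1 * b' * 1 * a⁻¹ * 1 * b'⁻¹ * z r := by
            rw [commutatorElement_def]; group
        _ = z r * a * (z r * z r) * b' * (z r * z r) * a⁻¹ * (z r * z r) * b'⁻¹ * z r := by rw [hzz]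
        _ = (z r * a * z r) * (z r * b' * z r) * (z r * a⁻¹ * z r) * (z r * b'⁻¹ * z r) := by group
        _ = a⁻¹ * b'⁻¹ * a * b' := by rw [h1, h2, h1', h2', inv_inv, inv_inv]
    have e2 : a * ⁅a, b'⁆ = ⁅a, b'⁆ * a := t.comm_r C K ha hr
    have e3 : b' * ⁅a, b'⁆ = ⁅a, b'⁆ * b' := tf.comm_r C K hb'm hr
    rw [e1]
    calc a⁻¹ * b'⁻¹ * a * b' = a⁻¹ * b'⁻¹ * (⁅a, b'⁆ * b') * a := by rw [commutatorElement_def]; group
      _ = a⁻¹ * (⁅a, b'⁆ * a) := by rw [← e3]; group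
      _ = ⁅a, b'⁆ := by rw [← e2]; group
  have hmul : ∀ a ∈ X y, ∀ b ∈ X y, ∀ v ∈ X y, f (a * b) v = f a v * f b v := by
    intro a ha b hb v hv
    have h1 := hfr b hb v hv
    have h2 := hfZ a ha v hv
    have h3 : a * f b v = f b v * a := t.comm_r C K ha h1
    have h4 : f b v * f a v = f a v * f b v := C.cent r t.hr r hrR hP.le _ h1 _ h2
    rw [← h4]
    rw [hf b v] at h3 ⊢
    rw [hf, hf]
    calc ⁅a * b, n₀⁻¹ * v * n₀⁆ = (a * ⁅b, n₀⁻¹ * v * n₀⁆) * a⁻¹ * ⁅a, n₀⁻¹ * v * n₀⁆ := by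
          rw [commutatorElement_def, commutatorElement_def, commutatorElement_def]; group
      _ = ⁅b, n₀⁻¹ * v * n₀⁆ * ⁅a, n₀⁻¹ * v * n₀⁆ := by rw [h3]; group
  have hcn : c * n₀ = n₀ * c := hcs _ hn₀K
  have hfc : ∀ a ∈ X y, ∀ b ∈ X y, f (c * a * c⁻¹) (c * b * c⁻¹) = f a b := by
    intro a ha b hb
    have h1 := hcr _ ((le_sup_left : Z r ≤ KK Z r) (hfZ a ha b hb))
    have hcn' : n₀⁻¹ * c = c * n₀⁻¹ := by
      calc n₀⁻¹ * c = n₀⁻¹ * (c * n₀) * n₀⁻¹ := by group
        _ = n₀⁻¹ * (n₀ * c) * n₀⁻¹ := by rw [hcn]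
        _ = c * n₀⁻¹ := by group
    have hcn'' : c⁻¹ * n₀ = n₀ * c⁻¹ := by
      calc c⁻¹ * n₀ = c⁻¹ * (n₀ * c) * c⁻¹ := by group
        _ = c⁻¹ * (c * n₀) * c⁻¹ := by rw [hcn]
        _ = n₀ * c⁻¹ := by group
    have h2 : n₀⁻¹ * (c * b * c⁻¹) * n₀ = c * (n₀⁻¹ * b * n₀) * c⁻¹ := by
      calc n₀⁻¹ * (c * b * c⁻¹) * n₀ = (n₀⁻¹ * c) * b * (c⁻¹ * n₀) := by group
        _ = c * (n₀⁻¹ * b * n₀) * c⁻¹ := by rw [hcn', hcn'']; group
    calc f (c * a * c⁻¹) (c * b * c⁻¹) = ⁅c * a * c⁻¹, c * (n₀⁻¹ * b * n₀) * c⁻¹⁆ := by rw [hf, h2]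
      _ = c * f a b * c⁻¹ := by rw [hf, commutatorElement_def, commutatorElement_def]; group
      _ = f a b := by rw [h1]; group
  have hab : ∀ a ∈ X y, ∀ b ∈ X y, a * b = b * a := by
    intro a ha b hb
    have h1 := t.inv_zr C K ha
    have h2 := t.inv_zr C K hb
    have h3 := t.inv_zr C K (mul_mem ha hb)
    have hzz := C.z_sq r t.hr
    have h4 : a⁻¹ * b⁻¹ = (a * b)⁻¹ := by
      calc a⁻¹ * b⁻¹ = z r * a * (z r * z r) * b * z r := by rw [← h1, ← h2]; group
        _ = z r * (a * b) * z r := by rw [hzz]; group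
        _ = (a * b)⁻¹ := h3
    have h5 := congrArg (·⁻¹) h4
    simp only [mul_inv_rev, inv_inv] at h5
    exact h5.symm
  -- the abstract lemma
  let _ : CommGroup ↥(X y) := { (inferInstance : Group ↥(X y)) with mul_comm := fun a b => Subtype.ext (hab _ a.2 _ b.2) }
  have hinv : ∀ u : ↥(X y), c * (u : Y) * c⁻¹ ∈ X y := fun u => t.stepA C K hp hodd hcG hcr hcs u.2
  have key := fixed_of_aniso (V := Additive ↥(X y)) (Y' := Y)
    (fun a b => f (a.toMul : ↥(X y)) (b.toMul : ↥(X y))) (fun a => Additive.ofMul ⟨c * (a.toMul : ↥(X y)) * c⁻¹, hinv _⟩)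
    (fun a b => by
      apply Additive.toMul.injective
      apply Subtype.ext
      change c * ((a.toMul : ↥(X y)) * (b.toMul : ↥(X y)) : Y) * c⁻¹ =
        (c * (a.toMul : ↥(X y)) * c⁻¹) * (c * (b.toMul : ↥(X y)) * c⁻¹)
      group)
    (fun a => by
      apply Additive.toMul.injective
      apply Subtype.ext
      change c * (c * (c * (a.toMul : ↥(X y)) * c⁻¹) * c⁻¹) * c⁻¹ = ((a.toMul : ↥(X y)) : Y)
      have : c * (c * (c * (a.toMul : ↥(X y)) * c⁻¹) * c⁻¹) * c⁻¹ =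
        (c * c * c) * ((a.toMul : ↥(X y)) : Y) * (c * c * c)⁻¹ := by group
      rw [this, hc3]; group)
    (fun a b v => hmul _ a.toMul.2 _ b.toMul.2 _ v.toMul.2)
    (fun a v => hZ _ (hfZ _ a.toMul.2 _ v.toMul.2))
    (fun a b => hfc _ a.toMul.2 _ b.toMul.2)
    (fun a ha => by
      apply Additive.toMul.injective
      apply Subtype.ext
      refine han a.toMul.2 ?_
      have h1 : f (a.toMul : ↥(X y)) (a.toMul : ↥(X y)) = 1 := ha
      rw [hf, commutatorElement_eq_one_iff_mul_comm] at h1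
      exact h1)
  intro u hu
  have h1 := key (Additive.ofMul ⟨u, hu⟩)
  have h2 : c * u * c⁻¹ = u := congrArg (fun a : Additive ↥(X y) => ((a.toMul : ↥(X y)) : Y)) h1
  calc c * u = (c * u * c⁻¹) * c := by group
    _ = u * c := by rw [h2]

end Tri

end Groups

/-- **(F2'_3), (c2)**: `c` centralises all root groups. -/
theorem cent_of_perp {r : I → ℤ} (C : Cls cs h p T n X R Z z) (hp : p.Prime) (hodd : p ≠ 2) (K : Lcc cs h R)
    (hZ : ∀ r ∈ R, ∀ b ∈ Z r, b * b * b = 1) (hr : r ∈ R) (hnb : ∃ s y, Tri cs h R r s y) {c : Y}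
    (hc3 : c * c * c = 1) (hcG : ∀ g ∈ GG cs h T X, c * g * c⁻¹ ∈ GG cs h T X) (hcr : Cq c (KK Z r))
    (hcx : ∀ x, IsRoot cs h x → form cs h x r = 0 → Cq c (X x)) : ∀ x, IsRoot cs h x → Cq c (X x) := by
  -- the half sums
  have key : ∀ r' s y, (r' = r ∨ r' = -r) → Tri cs h R r' s y → Cq c (X y) := by
    intro r' s y hr' t
    have h1 : Cq c (KK Z r') := by
      rcases hr' with rfl | rfl
      · exact hcr
      · rw [KK_neg]; exact hcr
    have h2 : ∀ x, IsRoot cs h x → form cs h x r' = 0 → Cq c (X x) := by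
      intro x hx h0
      rcases hr' with rfl | rfl
      · exact hcx x hx h0
      · rw [form_neg_right, neg_eq_zero] at h0
        exact hcx x hx h0
    have h3 : form cs h s r' = 0 := by rw [form_comm]; exact t.orth
    have h4 : Cq c (KK Z s) :=
      ((h2 s (K.root s t.hs) h3).mono (C.le s t.hs)).sup ((h2 (-s) (K.root s t.hs).neg
        (by rw [form_neg_left, h3, neg_zero])).mono (C.le _ (K.neg s t.hs)))
    exact t.cent C K hp hodd (hZ r' t.hr) hc3 hcG h1 h4
  obtain ⟨s, y, t⟩ := hnb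
  have hsr : form cs h s r = 0 := by rw [form_comm]; exact t.orth
  have hL : Cq c (LL X y) := (key r s y (Or.inl rfl) t).sup (key (-r) (-s) (-y) (Or.inr rfl) (t.neg K))
  obtain ⟨m, hm, w, hmw, hw⟩ := Nodes.Perp.exists_refl C t.hy
  have hcm := hL m hm
  have hrs : rep cs h w s = -r := by
    rw [hw, t.symm.cpr_ry K]
    have := t.e
    rw [two_smul] at this
    rw [two_smul, this]; abel
  have hXnr : Cq c (X (-r)) := by
    have h1 := (hcx s (C.root s t.hs) hsr).conj hcm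
    rwa [C.rgd.conj_rp hmw (C.root s t.hs), hrs] at h1
  have hXr : Cq c (X r) := by
    have h1 := (hcx (-s) (C.root s t.hs).neg (by rw [form_neg_left, hsr, neg_zero])).conj hcm
    rwa [C.rgd.conj_rp hmw (C.root s t.hs).neg, map_neg, hrs, neg_neg] at h1
  intro x hx
  by_cases h0 : form cs h x r = 0
  · exact hcx x hx h0
  by_cases hxR : x ∈ R
  · by_cases e1 : x = r
    · rw [e1]; exact hXr
    by_cases e2 : x = -r
    · rw [e2]; exact hXnr
    exact absurd (K.orth x hxR r hr e1 e2) h0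
  obtain ⟨a, ha, b, hb, hab, e⟩ := K.half x hx hxR
  have tx : Tri cs h R a b x := ⟨ha, hb, hab, hx, e⟩
  by_cases a1 : a = r
  · exact key a b x (Or.inl a1) tx
  by_cases a2 : a = -r
  · exact key a b x (Or.inr a2) tx
  by_cases b1 : b = r
  · exact key b a x (Or.inl b1) tx.symm
  by_cases b2 : b = -r
  · exact key b a x (Or.inr b2) tx.symm
  exfalso
  apply h0
  have h1 : 2 * form cs h x r = 0 := by
    rw [← form_smul_left, e, form_add_left, K.orth a ha r hr a1 a2, K.orth b hb r hr b1 b2, add_zero]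
  omega

end Cfsg.Agent.OddHalf.NI3.FThree
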