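import Cfsg.Agent.OddHalf.NI3.FThree.A
import Cfsg.Agent.OddHalf.NI3.Step
import Cfsg.Agent.OddHalf.NI.FTwo.ZNe
import Cfsg.Agent.Nodes.ChartFrame

/-!
# (F2'₃): from a piece to the setting `St`

`Sit3 x j J' J` : `(x, J')` a classical pair of `H`, `O(H) = 1`, `J ≅ SL₂(3)` with the central involution `j` of `H`,
subnormal in `C(x)`, commuting with `J'`; the piece `D` of `J'` is a component containing `O₂(J)`.
`Sit3.exists_st` : a chart of `D` gives `St` for a conjugate of `J`.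
-/

set_option autoImplicit false
set_option linter.unusedSectionVars false
set_option linter.dupNamespace false

namespace Cfsg.Agent.OddHalf.NI3.FThree

open Cfsg
open CoxeterSystem Cfsg.Agent.ChevalleyStructure.CoxeterGeom Cfsg.Agent.Tits.Roots Cfsg.Agent.Tits.Core
  Cfsg.Agent.Tits.RootComb Cfsg.Agent.Nodes.Comb Cfsg.Agent.Nodes.Reps Cfsg.Agent.Nodes.BNOf
  Cfsg.Agent.Nodes.RGDLib Cfsg.Agent.Nodes.Chart Cfsg.Agent.Nodes.Coroot Cfsg.Agent.Nodes.FreeTorus
  Cfsg.Agent.Nodes.SubComb Cfsg.Agent.Nodes.Bruhat Cfsg.Agent.Nodes.StabComb Cfsg.Agent.Nodes.Perp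
  Cfsg.Agent.Nodes.Sub Cfsg.Agent.Nodes.ClsSub
open Cfsg.Agent.Cit (pc cls self_mem_cls TStmt)
open Cfsg.Agent.SignalizersComponents

universe u

variable {H : Type u} [Group H]

/-- the situation of (F2'₃) -/
structure Sit3 (x j : H) (J' J : Subgroup H) : Prop where
  core : pPrimeCore 2 H = ⊥
  cl : Cl x J'
  pr : IsPr J j
  sn : Sn J (Subgroup.centralizer ({x} : Set H))
  cm : J ≤ Subgroup.centralizer (J' : Set H)
  jc : ∀ y : H, y * j = j * y
  comp : IsComponent (pc (cls J') J')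
  two : IsPGroup 2 (Subgroup.center ↥(pc (cls J') J'))
  ge : QQ J j ≤ pc (cls J') J'

namespace Sit3

variable [Finite H] {x j : H} {J' J : Subgroup H}

/-- the conjugates of a classical pair -/
theorem cl_of (S : Sit3 x j J' J) {K : Subgroup H} (hK : K ∈ cls J') {y : H} (hy : y ∈ K)
    (h1 : y * y = 1) (h2 : y ≠ 1) : Cl y K := by
  obtain ⟨k, rfl⟩ := hK
  have h3 : IsPr (Cit.cj k J') (k * x * k⁻¹) := S.cl.pr.cj k
  have h4 : y = k * x * k⁻¹ := by
    rcases h3.t3.cases y hy with h5 | h5 | h5 | h5 | h5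
    · exact absurd (h5.symm.trans h1) h3.t3.z_ne
    · exact absurd h5 h2
    · exact h5
    · rw [h1, one_mul] at h5; exact absurd h5 h2
    · rw [h1, one_mul] at h5; exact h5
  subst h4
  refine ⟨h3, ?_⟩
  have h5 := S.cl.sn.cj k
  rwa [Cit.cj_centralizer] at h5

/-- `C(y)` normalises `D`, if `y ∈ D` is not central in `D` -/
theorem le_normalizer (S : Sit3 x j J' J) {y : H} (hy : y ∈ pc (cls J') J')
    (hn : ¬ ∀ g ∈ pc (cls J') J', y * g = g * y) :
    Subgroup.centralizer ({y} : Set H) ≤ Subgroup.normalizer (pc (cls J') J' : Set H) := by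
  intro c hc
  have hc' : c * y = y * c := Subgroup.mem_centralizer_singleton_iff.1 hc
  rw [Cit.mem_normalizer_iff_cj]
  by_contra hne
  have h1 : IsComponent (Cit.cj c (pc (cls J') J')) := Cit.Comp.isComponent_cj S.comp c
  have h2 := Components.component_le_centralizer_of_ne h1 S.comp hne
  apply hn
  intro g hg
  have h3 : y ∈ Cit.cj c (pc (cls J') J') := by
    rw [Cit.mem_cj]
    have h4 : c⁻¹ * y * c = y := by rw [mul_assoc, ← hc']; group
    rwa [h4]
  exact (Subgroup.mem_centralizer_iff.1 (h2 h3) g hg).symm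

/-- `x` is not central in `D` -/
theorem nc (S : Sit3 x j J' J) {g : H} (hg : g ∈ pc (cls J') J') :
    ¬ ∀ d ∈ pc (cls J') J', (g⁻¹ * x * g) * d = d * (g⁻¹ * x * g) := by
  intro h0
  have hx : ∀ d ∈ pc (cls J') J', x * d = d * x := by
    intro d hd
    have h1 := h0 (g⁻¹ * d * g) (mul_mem (mul_mem (inv_mem hg) hd) hg)
    calc x * d = g * ((g⁻¹ * x * g) * (g⁻¹ * d * g)) * g⁻¹ := by group
      _ = g * ((g⁻¹ * d * g) * (g⁻¹ * x * g)) * g⁻¹ := by rw [h1]
      _ = d * x := by group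
  have hDx : pc (cls J') J' ≤ Subgroup.centralizer ({x} : Set H) := fun d hd =>
    Subgroup.mem_centralizer_singleton_iff.2 (hx d hd).symm
  have h2 := comm_component (S.pr.subgroupOf S.sn.1) S.sn.2 (Components.isComponent_subgroupOf hDx S.comp)
  obtain ⟨a, ha, b, hb, -, -, hab⟩ := QQ_not_comm S.pr
  apply hab
  have haJ : a ∈ J := QQ_le ha
  have hbD : b ∈ pc (cls J') J' := S.ge hb
  have h3 := h2 ⟨a, S.sn.1 haJ⟩ haJ ⟨b, hDx hbD⟩ hbD
  exact congrArg Subtype.val h3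

/-- **a chart of the piece gives the setting `St`** -/
theorem exists_st (hT : TStmt.{u}) (S : Sit3 x j J' J) {p : ℕ} (C : Chart (cls J') p (pc (cls J') J'))
    (nmem : pc (cls J') J' ∉ cls J') :
    ∃ r ∈ C.R, ∃ g ∈ pc (cls J') J', J' = Cit.cj g (KK C.Z r) ∧ x = g * C.z r * g⁻¹ ∧
      St C.cs C.h p C.T C.X C.R C.Z C.z r (Cit.cj g⁻¹ J) j := by
  obtain ⟨r, hr, g, hg, hgJ⟩ := C.om_conj J' (self_mem_cls J') Cit.le_pc
  have hG : GG C.cs C.h C.T C.X = pc (cls J') J' := Nodes.ChartFrame.GG_eq C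
  have hzne : ∀ s ∈ C.R, C.z s ≠ 1 := NI.FTwo.ZNe.z_ne_one C nmem
  have hcl : ∀ s ∈ C.R, Cl (C.z s) (KK C.Z s) := fun s hs =>
    S.cl_of (C.om s hs) (C.cls.z_mem s hs) (C.cls.z_sq s hs) (hzne s hs)
  have hgJ' : J' = Cit.cj g (KK C.Z r) := hgJ
  have hxr : x = g * C.z r * g⁻¹ := by
    have h1 : g * C.z r * g⁻¹ ∈ J' := hgJ'.ge (Cit.conj_mem_cj (C.cls.z_mem r hr))
    have h2 : (g * C.z r * g⁻¹) * (g * C.z r * g⁻¹) = 1 := by
      calc (g * C.z r * g⁻¹) * (g * C.z r * g⁻¹) = g * (C.z r * C.z r) * g⁻¹ := by group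
        _ = 1 := by rw [C.cls.z_sq r hr]; group
    have h3 : g * C.z r * g⁻¹ ≠ 1 := by
      intro e
      apply hzne r hr
      calc C.z r = g⁻¹ * (g * C.z r * g⁻¹) * g := by group
        _ = 1 := by rw [e]; group
    rcases S.cl.pr.t3.cases _ h1 with h5 | h5 | h5 | h5 | h5
    · exact absurd (h5.symm.trans h2) S.cl.pr.t3.z_ne
    · exact absurd h5 h3
    · exact h5.symm
    · rw [h2, one_mul] at h5; exact absurd h5 h3
    · rw [h2, one_mul] at h5; exact h5.symm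
  have hzr : C.z r = g⁻¹ * x * g := by rw [hxr]; group
  have hjg : g⁻¹ * j * g = j := by rw [mul_assoc, ← S.jc g]; group
  refine ⟨r, hr, g, hg, hgJ', hxr, ?_⟩
  refine
    { prime := C.prime
      odd := C.odd
      mem := hr
      trans := C.trans r hr
      core := core_cent_eq_bot hT S.core (hcl r hr)
      pr := ?_
      sn := ?_
      comm := ?_
      jc := S.jc
      cl := hcl
      ge := ?_
      norm := ?_
      nc := ?_
      gen := ?_ }
  · have h1 := S.pr.cj g⁻¹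
    rwa [inv_inv, hjg] at h1
  · have h1 := S.sn.cj g⁻¹
    rwa [Cit.cj_centralizer, inv_inv, ← hzr] at h1
  · intro a ha b hb
    rw [Cit.mem_cj, inv_inv] at ha
    have h1 : g * b * g⁻¹ ∈ J' := hgJ'.ge (Cit.conj_mem_cj hb)
    have h2 := Subgroup.mem_centralizer_iff.1 (S.cm ha) _ h1
    calc a * b = g⁻¹ * ((g * a * g⁻¹) * (g * b * g⁻¹)) * g := by group
      _ = g⁻¹ * ((g * b * g⁻¹) * (g * a * g⁻¹)) * g := by rw [h2]
      _ = b * a := by group
  · have h1 : QQ (Cit.cj g⁻¹ J) j = Cit.cj g⁻¹ (QQ J j) := QQ_cj (S.jc g⁻¹)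
    rw [h1, hG]
    rintro _ ⟨y, hy, rfl⟩
    exact mul_mem (mul_mem (inv_mem hg) (S.ge hy)) (inv_mem (inv_mem hg))
  · rw [hG]
    refine S.le_normalizer ?_ ?_
    · rw [hzr]
      exact mul_mem (mul_mem (inv_mem hg) (Cit.le_pc S.cl.pr.mem)) hg
    · rw [hzr]; exact S.nc hg
  · rw [hG, hzr]; exact S.nc hg
  · rw [hG]; exact C.gen.symm

end Sit3

end Cfsg.Agent.OddHalf.NI3.FThree
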