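import Cfsg.Agent.OddHalf.NI3.FThree.C3Hex
import Cfsg.Agent.OddHalf.NI3.FThree.StOf
import Cfsg.Agent.OddHalf.NI.FTwo.HexEnd

/-!
# (F2'₃), case (C3): the pieces with the quotient `G₂(q)`, `³D₄(q)` do not occur

* `two_data` : the centraliser of an involution `x` with `Two x` : `O(C(x)) = 1`, the two normal subgroups;
* `comm_of_hexFact` : `L / Z(L)` with `HexFact`, `K ≅ SL₂(3)` subnormal in `C_L(x)` with involution `x ∉ Z(L)`; a
  subnormal 2-subgroup `Q` of `C_L(x)` commuting with `K` all whose squares are central is abelian;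
* `Sit3.false_exc`.
-/

set_option autoImplicit false
set_option linter.unusedSectionVars false
set_option linter.style.haveILetI false

namespace Cfsg.Agent.OddHalf.NI3.FThree

open Subgroup Cfsg Cfsg.Agent.Cit Cfsg.Agent.Cit.SolvTwo
open Cfsg.Agent.SignalizersComponents
open Cfsg.Agent.OddHalf.NI.HexNo (Two HexFact)
open Cfsg.Agent.Cit.LongAbs (quasisimple_SL2 equiv_S3)

section two

variable {X : Type*} [Group X] [Finite X] {x : X}

/-- `x` as an element of its centraliser -/
abbrev xc (x : X) : ↥(centralizer ({x} : Set X)) := ⟨x, mem_centralizer_singleton_iff.2 rfl⟩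

theorem two_data_aux (h2 : x * x = 1) (h1 : x ≠ 1) {E : Subgroup X} (hxE : x ∈ E) (hE : ∀ a ∈ E, a * x = x * a)
    (hn : ∀ g, g * x = x * g → ∀ a ∈ E, g * a * g⁻¹ ∈ E)
    (hF : ∃ (F : Type) (_ : Field F) (_ : Fintype F), Odd (Fintype.card F) ∧
      Nonempty (E ≃* Matrix.SpecialLinearGroup (Fin 2) F)) :
    (E.subgroupOf (centralizer ({x} : Set X))).Normal ∧
    (IsPr (E.subgroupOf (centralizer ({x} : Set X))) (xc x) ∨
      IsComponent (E.subgroupOf (centralizer ({x} : Set X)))) ∧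
    ∀ o ∈ pPrimeCore 2 ↥(centralizer ({x} : Set X)), ∀ a ∈ E.subgroupOf (centralizer ({x} : Set X)),
      o * a = a * o := by
  obtain ⟨F, _, _, ho, ⟨e⟩⟩ := hF
  have hle : E ≤ centralizer ({x} : Set X) := fun a ha => mem_centralizer_singleton_iff.2 (hE a ha)
  have hN : (E.subgroupOf (centralizer ({x} : Set X))).Normal := by
    constructor
    intro a ha g
    rw [mem_subgroupOf] at ha ⊢
    exact hn g (mem_centralizer_singleton_iff.1 g.2) a ha
  have hord : orderOf x = 2 := orderOf_eq_prime (by rw [pow_two]; exact h2) h1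
  haveI hON : (pPrimeCore 2 ↥(centralizer ({x} : Set X))).Normal := Lib.Cores.pPrimeCore_normal 2
  have hodd : ∀ N : Subgroup ↥(centralizer ({x} : Set X)), N ≤ pPrimeCore 2 ↥(centralizer ({x} : Set X)) →
      ¬ 2 ∣ Nat.card N := by
    intro N hNle h3
    have h4 := Lib.Cores.pPrimeCore_coprime (G := ↥(centralizer ({x} : Set X))) 2
    have h5 := h4.coprime_dvd_left (card_dvd_of_le hNle)
    have h6 := Nat.dvd_gcd h3 (dvd_refl 2)
    rw [h5] at h6
    omega
  have hEmem : (xc x) ∈ E.subgroupOf (centralizer ({x} : Set X)) := hxE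
  by_cases hc : Fintype.card F = 3
  · obtain ⟨e3⟩ := equiv_S3 hc
    have hP : IsPr E x := ⟨⟨e.trans e3⟩, hord, hxE⟩
    have hP' := hP.subgroupOf hle
    refine ⟨hN, Or.inl hP', ?_⟩
    -- the intersection is trivial
    have hinf : ∀ y ∈ pPrimeCore 2 ↥(centralizer ({x} : Set X)), y ∈ E.subgroupOf (centralizer ({x} : Set X)) →
        y = 1 := by
      intro y hy hyE
      have h3 : ((pPrimeCore 2 ↥(centralizer ({x} : Set X))).subgroupOf
          (E.subgroupOf (centralizer ({x} : Set X)))).Normal := inferInstance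
      have h4 : (Nat.card ((pPrimeCore 2 ↥(centralizer ({x} : Set X))).subgroupOf
          (E.subgroupOf (centralizer ({x} : Set X))))).Coprime 2 := by
        have h5 := Lib.Cores.pPrimeCore_coprime (G := ↥(centralizer ({x} : Set X))) 2
        exact h5.coprime_dvd_left (card_comap_dvd_of_injective _ _ (subtype_injective _))
      have h5 := Lib.Cores.le_pPrimeCore h3 h4
      replace h5 := h5.trans hP'.oddCore_eq_bot.le
      have h6 : (⟨y, hyE⟩ : ↥(E.subgroupOf (centralizer ({x} : Set X)))) ∈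
          (⊥ : Subgroup ↥(E.subgroupOf (centralizer ({x} : Set X)))) := h5 hy
      exact congrArg Subtype.val (mem_bot.1 h6)
    intro o ho' a ha
    have h3 : o * a * o⁻¹ * a⁻¹ = 1 := by
      refine hinf _ ?_ ?_
      · have h4 : o * a * o⁻¹ * a⁻¹ = o * (a * o⁻¹ * a⁻¹) := by group
        rw [h4]; exact mul_mem ho' (hON.conj_mem _ (inv_mem ho') a)
      · exact mul_mem (hN.conj_mem a ha o) (inv_mem ha)
    rw [mul_inv_eq_one, mul_inv_eq_iff_eq_mul] at h3
    exact h3
  · have hq : IsQuasisimple ↥(E.subgroupOf (centralizer ({x} : Set X))) :=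
      ComponentNormalize.quasisimple_congr ((subgroupOfEquivOfLe hle).trans e).symm (quasisimple_SL2 ho hc)
    have hC : IsComponent (E.subgroupOf (centralizer ({x} : Set X))) := ⟨hN.isSubnormal, hq⟩
    refine ⟨hN, Or.inr hC, ?_⟩
    rcases Components.component_le_or_commutator_eq_bot hC hON.isSubnormal with h3 | h3
    · exfalso
      refine hodd _ h3 ?_
      have h4 : orderOf (⟨xc x, hEmem⟩ : ↥(E.subgroupOf (centralizer ({x} : Set X)))) = 2 := by
        rw [Subgroup.orderOf_mk, Subgroup.orderOf_mk, hord]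
      rw [← h4]
      exact _root_.orderOf_dvd_natCard _
    · intro o ho' a ha
      rw [commutator_eq_bot_iff_le_centralizer] at h3
      exact mem_centralizer_iff.1 (h3 ha) o ho'

theorem two_data (h : Two x) (h2 : x * x = 1) (h1 : x ≠ 1) :
    pPrimeCore 2 ↥(centralizer ({x} : Set X)) = ⊥ ∧ ∃ E1 E2 : Subgroup ↥(centralizer ({x} : Set X)),
      E1.Normal ∧ E2.Normal ∧ (IsPr E1 (xc x) ∨ IsComponent E1) ∧ (IsPr E2 (xc x) ∨ IsComponent E2) ∧
      ∀ g, (∀ a ∈ E1, g * a = a * g) → (∀ a ∈ E2, g * a = a * g) → g = 1 ∨ g = xc x := by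
  obtain ⟨E1, E2, x1, x2, c1, c2, n1, n2, F1, F2, hc⟩ := h
  obtain ⟨N1, P1, O1⟩ := two_data_aux h2 h1 x1 c1 n1 F1
  obtain ⟨N2, P2, O2⟩ := two_data_aux h2 h1 x2 c2 n2 F2
  have hcc : ∀ g : ↥(centralizer ({x} : Set X)), (∀ a ∈ E1.subgroupOf (centralizer ({x} : Set X)), g * a = a * g) →
      (∀ a ∈ E2.subgroupOf (centralizer ({x} : Set X)), g * a = a * g) → g = 1 ∨ g = xc x := by
    intro g g1 g2
    rcases hc g (fun a ha => congrArg Subtype.val (g1 ⟨a, mem_centralizer_singleton_iff.2 (c1 a ha)⟩ ha))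
      (fun a ha => congrArg Subtype.val (g2 ⟨a, mem_centralizer_singleton_iff.2 (c2 a ha)⟩ ha)) with h3 | h3
    · exact Or.inl (Subtype.ext h3)
    · exact Or.inr (Subtype.ext h3)
  refine ⟨?_, _, _, N1, N2, P1, P2, hcc⟩
  rw [eq_bot_iff]
  intro o ho
  rw [mem_bot]
  rcases hcc o (O1 o ho) (O2 o ho) with h3 | h3
  · exact h3
  · exfalso
    have h4 := Lib.Cores.pPrimeCore_coprime (G := ↥(centralizer ({x} : Set X))) 2
    have h5 : orderOf (⟨o, ho⟩ : ↥(pPrimeCore 2 ↥(centralizer ({x} : Set X)))) = 2 := by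
      rw [Subgroup.orderOf_mk, h3]
      show orderOf (xc x) = 2
      rw [Subgroup.orderOf_mk]
      exact orderOf_eq_prime (G := X) (p := 2) (by rw [pow_two]; exact h2) h1
    have h6 : 2 ∣ Nat.card ↥(pPrimeCore 2 ↥(centralizer ({x} : Set X))) := by
      have h8 := _root_.orderOf_dvd_natCard (⟨o, ho⟩ : ↥(pPrimeCore 2 ↥(centralizer ({x} : Set X))))
      rwa [h5] at h8
    have h7 := Nat.dvd_gcd h6 (dvd_refl 2)
    rw [h4] at h7
    omega

end two

/-- **(F2'₃), exceptional part** (abstract form) -/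
theorem comm_of_hexFact {L : Type*} [Group L] [Finite L] (hX : HexFact (L ⧸ center L)) {x : L} {K Q : Subgroup L}
    (hxc : x ∉ center L) (hK : IsPr K x) (hKs : Sn K (centralizer ({x} : Set L)))
    (hQs : Sn Q (centralizer ({x} : Set L))) (hQp : IsPGroup 2 Q) (hQK : ∀ q ∈ Q, ∀ k ∈ K, q * k = k * q)
    (hQ : ∀ q ∈ Q, q * q ∈ center L) : ∀ a ∈ Q, ∀ b ∈ Q, a * b = b * a := by
  have h2 : x * x = 1 := hK.t3.z_sq
  let π : L →* L ⧸ center L := QuotientGroup.mk' (center L)
  have hπ : ∀ g, π g = 1 ↔ g ∈ center L := fun g => QuotientGroup.eq_one_iff g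
  have hx1 : π x ≠ 1 := fun h => hxc ((hπ _).1 h)
  have hx2 : π x * π x = 1 := by rw [← map_mul, h2, map_one]
  obtain ⟨hO, E1, E2, N1, N2, P1, P2, hcc⟩ := two_data (hX (π x) hx2 hx1) hx2 hx1
  -- the preimage of the centraliser
  let D : Subgroup L := (centralizer ({π x} : Set (L ⧸ center L))).comap π
  have hCD : centralizer ({x} : Set L) ≤ D := by
    intro g hg
    rw [mem_comap, mem_centralizer_singleton_iff, ← map_mul, ← map_mul, mem_centralizer_singleton_iff.1 hg]
  have hD : ∀ g ∈ D, ∃ c ∈ center L, g⁻¹ * x * g = c * x := by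
    intro g hg
    rw [mem_comap, mem_centralizer_singleton_iff] at hg
    refine ⟨g⁻¹ * x * g * x⁻¹, (hπ _).1 ?_, by group⟩
    rw [map_mul, map_mul, map_mul, map_inv, map_inv]
    calc (π g)⁻¹ * π x * π g * (π x)⁻¹ = (π g)⁻¹ * (π x * π g) * (π x)⁻¹ := by group
      _ = 1 := by rw [← hg]; group
  have hN : D ≤ normalizer (centralizer ({x} : Set L) : Set L) := by
    have key : ∀ g ∈ D, ∀ a ∈ centralizer ({x} : Set L), g * a * g⁻¹ ∈ centralizer ({x} : Set L) := by
      intro g hgD a ha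
      rw [mem_centralizer_singleton_iff] at ha ⊢
      obtain ⟨c, hc, hg⟩ := hD g hgD
      rw [mem_center_iff] at hc
      have h5 : (a : L) * ((g : L)⁻¹ * x * g) = (g : L)⁻¹ * x * g * a := by
        rw [hg, ← mul_assoc, hc, mul_assoc, ha, mul_assoc]
      calc (g : L) * a * (g : L)⁻¹ * x = g * (a * ((g : L)⁻¹ * x * g)) * (g : L)⁻¹ := by group
        _ = _ := by rw [h5]; group
    intro g hg
    rw [mem_normalizer_iff]
    intro a
    refine ⟨key g hg a, fun ha => ?_⟩
    have h5 := key g⁻¹ (inv_mem hg) _ ha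
    have h6 : g⁻¹ * (g * a * g⁻¹) * g⁻¹⁻¹ = a := by group
    rwa [h6] at h5
  have hCs : Sn (centralizer ({x} : Set L)) D := Sn.of_normal hCD hN
  have hDm : D.map π = centralizer ({π x} : Set (L ⧸ center L)) :=
    map_comap_eq_self_of_surjective (QuotientGroup.mk'_surjective _) _
  have hKm : Sn (K.map π) (centralizer ({π x} : Set (L ⧸ center L))) := by
    have h3 := (hKs.trans hCs).map π
    rwa [hDm] at h3
  have hQm : Sn (Q.map π) (centralizer ({π x} : Set (L ⧸ center L))) := by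
    have h3 := (hQs.trans hCs).map π
    rwa [hDm] at h3
  have hKp : IsPr (K.map π) (π x) := hK.map π hx1
  have hfin := two_kill hO (x := xc (π x))
    (fun g => Subtype.ext (mem_centralizer_singleton_iff.1 g.2)) (K := (K.map π).subgroupOf _)
    (V := (Q.map π).subgroupOf _) (hKp.subgroupOf hKm.1) hKm.2 N1 P1 N2 P2 hcc
    ((hQp.map π).comap_subtype) hQm.2
    (by
      rintro ⟨v, hv⟩ hvQ ⟨k, hk⟩ hkK
      obtain ⟨q, hq, hqv⟩ := (hvQ : v ∈ Q.map π)
      obtain ⟨k', hk', hkk⟩ := (hkK : k ∈ K.map π)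
      replace hqv : π q = v := hqv
      replace hkk : π k' = k := hkk
      apply Subtype.ext
      show v * k = k * v
      rw [← hqv, ← hkk, ← map_mul, ← map_mul, hQK q hq k' hk'])
    (by
      rintro ⟨v, hv⟩ hvQ
      obtain ⟨q, hq, hqv⟩ := (hvQ : v ∈ Q.map π)
      replace hqv : π q = v := hqv
      apply Subtype.ext
      show v * v = 1
      rw [← hqv, ← map_mul, hπ]
      exact hQ q hq)
  -- every element of `Q` is central or in `x Z`
  have key : ∀ q ∈ Q, q ∈ center L ∨ x⁻¹ * q ∈ center L := by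
    intro q hq
    have hqm : π q ∈ Q.map π := ⟨q, hq, rfl⟩
    rcases hfin ⟨π q, hQm.1 hqm⟩ hqm with h3 | h3
    · left
      exact (hπ _).1 (congrArg Subtype.val h3)
    · right
      have h4 : π q = π x := congrArg Subtype.val h3
      rw [← hπ, map_mul, map_inv, h4, inv_mul_cancel]
  intro a ha b hb
  rcases key a ha with h3 | h3
  · exact (mem_center_iff.1 h3 b).symm
  rcases key b hb with h4 | h4
  · exact mem_center_iff.1 h4 a
  have hax : a * x = x * a := mem_centralizer_singleton_iff.1 (hQs.1 ha)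
  rw [mem_center_iff] at h4
  have h5 := h4 a
  calc a * b = a * x * (x⁻¹ * b) := by group
    _ = x * a * (x⁻¹ * b) := by rw [hax]
    _ = x * (a * (x⁻¹ * b)) := by group
    _ = x * (x⁻¹ * b * a) := by rw [h5]
    _ = b * a := by group

/-- **the pieces with the quotient `G₂(q)`, `³D₄(q)` do not occur** -/
theorem Sit3.false_exc {H : Type*} [Group H] [Finite H] {x j : H} {J' J : Subgroup H} (S : Sit3 x j J' J) {p : ℕ}
    (odd : p ≠ 2) (iso : IsG2D4 p (↥(pc (cls J') J') ⧸ center ↥(pc (cls J') J'))) : False := by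
  have hxD : x ∈ pc (cls J') J' := le_pc S.cl.pr.mem
  have hcent : (centralizer ({x} : Set H)).comap (pc (cls J') J').subtype =
      centralizer ({(⟨x, hxD⟩ : ↥(pc (cls J') J'))} : Set ↥(pc (cls J') J')) := by
    ext y
    rw [mem_comap, mem_centralizer_singleton_iff, mem_centralizer_singleton_iff]
    exact ⟨fun h => Subtype.ext h, fun h => congrArg Subtype.val h⟩
  have hxc : (⟨x, hxD⟩ : ↥(pc (cls J') J')) ∉ center ↥(pc (cls J') J') := by
    intro h
    refine S.nc (one_mem _) fun d hd => ?_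
    have h1 := mem_center_iff.1 h ⟨d, hd⟩
    have h2 : d * x = x * d := congrArg Subtype.val h1
    rw [inv_one, one_mul, mul_one, h2]
  have hKs : Sn (J'.comap (pc (cls J') J').subtype)
      (centralizer ({(⟨x, hxD⟩ : ↥(pc (cls J') J'))} : Set ↥(pc (cls J') J'))) := by
    rw [← hcent]; exact S.cl.sn.comap _
  have hQs : Sn ((QQ J j).comap (pc (cls J') J').subtype)
      (centralizer ({(⟨x, hxD⟩ : ↥(pc (cls J') J'))} : Set ↥(pc (cls J') J'))) := by
    rw [← hcent]; exact (QQ_sn S.pr S.sn).comap _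
  have hjc : ∀ h : j ∈ pc (cls J') J', (⟨j, h⟩ : ↥(pc (cls J') J')) ∈ center ↥(pc (cls J') J') := by
    intro h
    rw [mem_center_iff]
    exact fun y => Subtype.ext (S.jc y)
  have hfin := comm_of_hexFact (NI.HexNo.hexFact_of_isG2D4 odd iso) hxc (S.cl.pr.subgroupOf le_pc) hKs hQs
    ((QQ_pgrp S.pr).comap_subtype)
    (fun q hq k hk => Subtype.ext (mem_centralizer_iff.1 (S.cm (QQ_le hq)) k hk).symm)
    (by
      rintro ⟨q, hqD⟩ hq
      have hq' : q ∈ QQ J j := hq
      rcases QQ_cases S.pr hq' with h1 | h1 | h1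
      · have hjD : j ∈ pc (cls J') J' := h1 ▸ mul_mem hqD hqD
        have h2 : (⟨q, hqD⟩ : ↥(pc (cls J') J')) * ⟨q, hqD⟩ = ⟨j, hjD⟩ := Subtype.ext h1
        rw [h2]
        exact hjc hjD
      · subst h1
        have h2 : (⟨1, hqD⟩ : ↥(pc (cls J') J')) * ⟨1, hqD⟩ = 1 := Subtype.ext (one_mul _)
        rw [h2]
        exact one_mem _
      · have h2 : (⟨q, hqD⟩ : ↥(pc (cls J') J')) * ⟨q, hqD⟩ = 1 :=
          Subtype.ext (by show q * q = 1; rw [h1]; exact S.pr.t3.z_sq)
        rw [h2]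
        exact one_mem _)
  obtain ⟨a, ha, b, hb, -, -, hab⟩ := QQ_not_comm S.pr
  apply hab
  exact congrArg Subtype.val (hfin ⟨a, S.ge ha⟩ ha ⟨b, S.ge hb⟩ hb)

end Cfsg.Agent.OddHalf.NI3.FThree
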