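import Cfsg.Agent.OddHalf.NI3.FThree.Quat

/-!
# (F2'₃), case (C3): the abstract part for `G₂(q)`, `³D₄(q)`

`two_kill` : `C` a finite group with the central involution `x`, `O(C) = 1`, `E₁`, `E₂` normal in `C`, each a component
or `SL₂(3)` with involution `x`, `C(E₁ E₂) ≤ ⟨x⟩`; `K ≅ SL₂(3)` subnormal with involution `x`. Then a subnormal
2-subgroup of exponent 2 commuting with `K` is contained in `⟨x⟩`.
-/

set_option autoImplicit false
set_option linter.unusedSectionVars false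
set_option linter.unusedSimpArgs false

namespace Cfsg.Agent.OddHalf.NI3.FThree

open Subgroup Cfsg Cfsg.Agent.Cit Cfsg.Agent.Cit.SolvTwo
open Cfsg.Agent.Cit.SLThree (Qt Sl)
open Cfsg.Agent.SignalizersComponents

section sl

variable {X : Type*} [Group X] {M : Subgroup X} {z i j d : X}

theorem comm_of_pow {w y : X} {n : ℕ} (hw : w ^ 2 ^ n = 1) (h3 : w * w * w * y = y * (w * w * w)) : w * y = y * w := by
  have hc : Commute (w ^ 3) y := by
    rw [pow_succ, pow_succ, pow_one]; exact h3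
  have h2 : Commute (w ^ 2 ^ n) y := by rw [hw]; exact Commute.one_left y
  have hg : Nat.gcd 3 (2 ^ n) = 1 := Nat.Coprime.pow_right n (by norm_num)
  have h1 : w = (w ^ 3) ^ (Nat.gcdA 3 (2 ^ n)) * (w ^ 2 ^ n) ^ (Nat.gcdB 3 (2 ^ n)) := by
    have h4 := Nat.gcd_eq_gcd_ab 3 (2 ^ n)
    rw [hg] at h4
    calc w = w ^ (1 : ℤ) := by rw [zpow_one]
      _ = w ^ ((3 : ℕ) * Nat.gcdA 3 (2 ^ n) + ((2 ^ n : ℕ) : ℤ) * Nat.gcdB 3 (2 ^ n) : ℤ) := by
        rw [← h4]; rfl
      _ = _ := by rw [zpow_add, zpow_mul, zpow_mul, zpow_natCast, zpow_natCast]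
  have h5 : Commute w y := by
    rw [h1]
    exact (hc.zpow_left _).mul_left (h2.zpow_left _)
  exact h5

/-- a 2-element commuting with `d`, `z` and normalising the quaternion group centralises it -/
theorem comm_of_comm_d (h : Sl M z i j d) {w : X} {n : ℕ} (hw : w ^ 2 ^ n = 1) (hwd : w * d = d * w)
    (hwz : w * z = z * w) (hwi : w * i * w⁻¹ ∈ closure ({i, j} : Set X)) : w * i = i * w ∧ w * j = j * w := by
  have hz := h.q.z1
  have e1 : ∀ y : X, y = z * y → False := fun y hy => hz (mul_right_cancel (b := y) (by rw [one_mul]; exact hy.symm))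
  have cjd : ∀ y : X, w * (d * y * d⁻¹) * w⁻¹ = d * (w * y * w⁻¹) * d⁻¹ := by
    intro y
    calc w * (d * y * d⁻¹) * w⁻¹ = (w * d) * y * (w * d)⁻¹ := by group
      _ = (d * w) * y * (d * w)⁻¹ := by rw [hwd]
      _ = _ := by group
  have cjz : ∀ y : X, w * (z * y) * w⁻¹ = z * (w * y * w⁻¹) := by
    intro y
    calc w * (z * y) * w⁻¹ = (w * z) * y * w⁻¹ := by group
      _ = _ := by rw [hwz]; group
  have cjm : ∀ y y' : X, w * (y * y') * w⁻¹ = (w * y * w⁻¹) * (w * y' * w⁻¹) := fun y y' => by group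
  have dzz : ∀ y : X, d * (z * y) * d⁻¹ = z * (d * y * d⁻¹) := by
    intro y
    calc d * (z * y) * d⁻¹ = (d * z) * y * d⁻¹ := by group
      _ = _ := by rw [h.dz]; group
  have ha2 : (w * i * w⁻¹) * (w * i * w⁻¹) = z := by
    rw [← cjm, h.q.i2, hwz, mul_inv_cancel_right]
  have hj : w * j * w⁻¹ = d * (w * i * w⁻¹) * d⁻¹ := by rw [← cjd, h.di]
  have hij : w * (i * j) * w⁻¹ = d * (w * j * w⁻¹) * d⁻¹ := by rw [← cjd, h.dj]
  have hij' : w * (i * j) * w⁻¹ = (w * i * w⁻¹) * (w * j * w⁻¹) := cjm i j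
  have three : ∀ y : X, w * (w * (w * y * w⁻¹) * w⁻¹) * w⁻¹ = y → w * w * w * y = y * (w * w * w) := by
    intro y hy
    have h1 : w * w * w * y = (w * (w * (w * y * w⁻¹) * w⁻¹) * w⁻¹) * (w * w * w) := by group
    rw [h1, hy]
  have fin : ∀ {y : X}, w * y * w⁻¹ = y → w * y = y * w := by
    intro y hy
    calc w * y = (w * y * w⁻¹) * w := by group
      _ = y * w := by rw [hy]
  rcases h.q.mem_cases hwi with h1 | h1 | h1 | h1 | h1 | h1 | h1 | h1
  · exfalso
    rw [h1, one_mul] at ha2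
    exact hz ha2.symm
  · exfalso
    rw [h1, h.q.z2] at ha2
    exact hz ha2.symm
  · refine ⟨fin h1, fin ?_⟩
    rw [hj, h1, h.di]
  · exfalso
    rw [h1, dzz, h.di] at hj
    rw [hj, dzz, h.dj] at hij
    rw [hij, h1, hj] at hij'
    apply e1 (i * j)
    rw [hij']
    simp only [mul_assoc, h.q.z2, h.q.zz, h.q.iz, h.q.jz, h.q.izx, h.q.jzx]
  · exfalso
    rw [h1, h.dj] at hj
    rw [hj, h.dij] at hij
    have h2 := comm_of_pow hw (three i (by rw [h1, hj, hij]))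
    have h3 : w * i * w⁻¹ = i := by rw [h2, mul_inv_cancel_right]
    rw [h1] at h3
    exact h.q.not_comm (by rw [h3])
  · exfalso
    rw [h1, dzz, h.dj] at hj
    rw [hj, dzz, h.dij] at hij
    rw [hij, h1, hj] at hij'
    apply e1 i
    rw [hij']
    simp only [mul_assoc, one_mul, mul_one, h.q.z2, h.q.zz, h.q.iz, h.q.jz, h.q.izx, h.q.jzx, h.q.i2, h.q.j2, h.q.iix,
      h.q.jjx, h.q.ji, h.q.jix]
  · exfalso
    rw [h1, h.dij] at hj
    rw [hj, h.di] at hij
    have h2 := comm_of_pow hw (three i (by rw [h1, hij, hj]))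
    have h3 : w * i * w⁻¹ = i := by rw [h2, mul_inv_cancel_right]
    rw [h1] at h3
    -- `i * j = i`
    have h4 : j = 1 := by
      have := mul_left_cancel (a := i) (b := j) (c := 1) (by rw [h3, mul_one])
      exact this
    apply h.q.not_comm
    rw [h4, mul_one, one_mul]
  · exfalso
    rw [h1, dzz, h.dij] at hj
    rw [hj, dzz, h.di] at hij
    rw [hij, h1, hj] at hij'
    have h5 : z * (i * j) * (z * i) = j := by
      simp only [mul_assoc, one_mul, mul_one, h.q.z2, h.q.zz, h.q.iz, h.q.jz, h.q.izx, h.q.jzx, h.q.i2, h.q.j2, h.q.iix,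
        h.q.jjx, h.q.ji, h.q.jix]
    rw [h5] at hij'
    exact e1 j hij'.symm

/-- the elements of order 3 of the coset `Q d` -/
theorem exists_cj_d (h : Sl M z i j d) {q : X} (hq : q ∈ closure ({i, j} : Set X))
    (h3 : (q * d) * (q * d) * (q * d) = 1) :
    ∃ q' ∈ closure ({i, j} : Set X), q * d = q' * d * q'⁻¹ := by
  have hz := h.q.z1
  have hdi : ∀ y : X, d * (i * y) = j * (d * y) := fun y => by rw [← mul_assoc, h.di', mul_assoc]
  have hdj : ∀ y : X, d * (j * y) = i * (j * (d * y)) := fun y => by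
    rw [← mul_assoc, h.dj', mul_assoc, mul_assoc]
  have hdz : ∀ y : X, d * (z * y) = z * (d * y) := fun y => by rw [← mul_assoc, h.dz, mul_assoc]
  have hdd : d * (d * d) = 1 := by rw [← mul_assoc]; exact h.d3
  have hi := Qt.mem_i z i j
  have hj := Qt.mem_j z i j
  rcases h.q.mem_cases hq with rfl | rfl | rfl | rfl | rfl | rfl | rfl | rfl
  · exact ⟨1, one_mem _, by group⟩
  · exfalso
    simp only [mul_assoc, one_mul, mul_one, h.q.z2, h.q.zz, hdz, hdd] at h3
    exact hz h3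
  · exfalso
    simp only [mul_assoc, one_mul, mul_one, h.q.z2, h.q.zz, h.q.iz, h.q.jz, h.q.izx, h.q.jzx, h.q.i2, h.q.j2, h.q.iix,
      h.q.jjx, h.q.ji, h.q.jix, hdi, hdj, hdz, hdd] at h3
    exact hz h3
  · refine ⟨j, hj, ?_⟩
    rw [eq_mul_inv_iff_mul_eq]
    simp only [mul_assoc, one_mul, mul_one, h.q.z2, h.q.zz, h.q.iz, h.q.jz, h.q.izx, h.q.jzx, h.q.i2, h.q.j2, h.q.iix,
      h.q.jjx, h.q.ji, h.q.jix, h.dj']
  · exfalso
    simp only [mul_assoc, one_mul, mul_one, h.q.z2, h.q.zz, h.q.iz, h.q.jz, h.q.izx, h.q.jzx, h.q.i2, h.q.j2, h.q.iix,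
      h.q.jjx, h.q.ji, h.q.jix, hdi, hdj, hdz, hdd] at h3
    exact hz h3
  · refine ⟨i * j, mul_mem hi hj, ?_⟩
    rw [eq_mul_inv_iff_mul_eq]
    simp only [mul_assoc, one_mul, mul_one, h.q.z2, h.q.zz, h.q.iz, h.q.jz, h.q.izx, h.q.jzx, h.q.i2, h.q.j2, h.q.iix,
      h.q.jjx, h.q.ji, h.q.jix, hdi, hdj, h.dj', h.di']
  · exfalso
    simp only [mul_assoc, one_mul, mul_one, h.q.z2, h.q.zz, h.q.iz, h.q.jz, h.q.izx, h.q.jzx, h.q.i2, h.q.j2, h.q.iix,
      h.q.jjx, h.q.ji, h.q.jix, hdi, hdj, hdz, hdd] at h3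
    exact hz h3
  · refine ⟨i, hi, ?_⟩
    rw [eq_mul_inv_iff_mul_eq]
    simp only [mul_assoc, one_mul, mul_one, h.q.z2, h.q.zz, h.q.iz, h.q.jz, h.q.izx, h.q.jzx, h.q.i2, h.q.j2, h.q.iix,
      h.q.jjx, h.q.ji, h.q.jix, hdi, hdj, h.dj', h.di']

/-- a normal 2-group `P ≥ O₂(M)` acts on the normal subgroup `M ≅ SL₂(3)` as `O₂(M)` -/
theorem exists_mul (h : Sl M z i j d) (hz : ∀ g : X, g * z = z * g) (hM : M.Normal) {P : Subgroup X} (hP : P.Normal)
    (hPp : IsPGroup 2 P) (hQP : closure ({i, j} : Set X) ≤ P) {v : X} (hv : v ∈ P) :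
    ∃ q ∈ closure ({i, j} : Set X), ∃ w ∈ P, v = q * w ∧ ∀ a ∈ M, w * a = a * w := by
  -- `v d v⁻¹ = q d`
  have hvd : v * d * v⁻¹ ∈ M := hM.conj_mem d h.hd v
  have h1 : v * d * v⁻¹ * d⁻¹ ∈ closure ({i, j} : Set X) := by
    refine h.mem_Q (mul_mem hvd (inv_mem h.hd)) hPp hQP ?_
    have h2 : v * d * v⁻¹ * d⁻¹ = v * (d * v⁻¹ * d⁻¹) := by group
    rw [h2]
    exact mul_mem hv (hP.conj_mem _ (inv_mem hv) d)
  obtain ⟨q', hq', h2⟩ := exists_cj_d h h1 (by
    have h3 : v * d * v⁻¹ * d⁻¹ * d = v * d * v⁻¹ := by group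
    rw [h3]
    calc v * d * v⁻¹ * (v * d * v⁻¹) * (v * d * v⁻¹) = v * (d * d * d) * v⁻¹ := by group
      _ = 1 := by rw [h.d3]; group)
  have h3 : v * d * v⁻¹ = q' * d * q'⁻¹ := by rw [← h2]; group
  have hwP : q'⁻¹ * v ∈ P := mul_mem (inv_mem (hQP hq')) hv
  have hwd : q'⁻¹ * v * d = d * (q'⁻¹ * v) := by
    calc q'⁻¹ * v * d = q'⁻¹ * (v * d * v⁻¹) * v := by group
      _ = q'⁻¹ * (q' * d * q'⁻¹) * v := by rw [h3]
      _ = _ := by group
  obtain ⟨n, hn⟩ := hPp ⟨_, hwP⟩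
  have hwn : (q'⁻¹ * v) ^ 2 ^ n = 1 := by simpa using congrArg Subtype.val hn
  have hwi : q'⁻¹ * v * i * (q'⁻¹ * v)⁻¹ ∈ closure ({i, j} : Set X) :=
    h.mem_Q (hM.conj_mem i h.hi _) hPp hQP (hP.conj_mem i (hQP (Qt.mem_i z i j)) _)
  obtain ⟨e1, -⟩ := comm_of_comm_d h hwn hwd (hz _) hwi
  refine ⟨q', hq', q'⁻¹ * v, hwP, by group, ?_⟩
  have h4 : M ≤ centralizer {q'⁻¹ * v} := by
    rw [h.gen, closure_le]
    rintro y (rfl | rfl)
    · exact mem_centralizer_singleton_iff.2 e1.symm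
    · exact mem_centralizer_singleton_iff.2 hwd.symm
  exact fun a ha => (mem_centralizer_singleton_iff.1 (h4 ha)).symm

end sl

section kill

variable {C : Type*} [Group C] [Finite C] {x : C}

/-- a subnormal 2-subgroup commutes with the components -/
theorem comm_component_two {V L : Subgroup C} (hV : IsPGroup 2 V) (hVs : V.IsSubnormal) (hL : IsComponent L) :
    ∀ a ∈ V, ∀ b ∈ L, a * b = b * a := by
  rcases Components.component_le_or_commutator_eq_bot hL hVs with h1 | h1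
  · exfalso
    haveI : Fact (Nat.Prime 2) := ⟨Nat.prime_two⟩
    haveI h2 : Group.IsNilpotent L := (hV.to_le h1).isNilpotent
    exact Components.quasisimple_not_isSolvable hL.2 inferInstance
  · intro a ha b hb
    rw [commutator_eq_bot_iff_le_centralizer] at h1
    exact mem_centralizer_iff.1 (h1 hb) a ha

theorem kill_aux (hx : ∀ g : C, g * x = x * g) {K E V : Subgroup C} (hKn : K.Normal)
    (hK : IsPr K x) (hEn : E.Normal) (hE : IsPr E x ∨ IsComponent E)
    (hc : ∀ g, (∀ a ∈ K, g * a = a * g) → (∀ a ∈ E, g * a = a * g) → g = 1 ∨ g = x)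
    (hV : IsPGroup 2 V) (hVs : V.IsSubnormal) (hVK : ∀ v ∈ V, ∀ k ∈ K, v * k = k * v)
    (hVV : ∀ v ∈ V, v * v = 1) : ∀ v ∈ V, v = 1 ∨ v = x := by
  rcases hE with hE | hE
  · haveI : Fact (Nat.Prime 2) := ⟨Nat.prime_two⟩
    have hPn : (pCore 2 C ⊓ centralizer (K : Set C)).Normal := by
      haveI := hKn
      haveI : (pCore 2 C).Normal := Lib.Cores.pCore_normal 2
      infer_instance
    have hPp : IsPGroup 2 ↥(pCore 2 C ⊓ centralizer (K : Set C)) :=
      (Lib.Cores.pCore_isPGroup (G := C) 2).to_le inf_le_left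
    have hVP : V ≤ pCore 2 C ⊓ centralizer (K : Set C) :=
      le_inf (CompBasic.subnormal_pGroup_le_pCore hVs hV)
        (fun v hv => mem_centralizer_iff.2 fun k hk => (hVK v hv k hk).symm)
    have hx1 : x ≠ 1 := hK.t3.z_ne
    by_cases hne : ∀ y ∈ E, y * y = x → y ∈ pCore 2 C ⊓ centralizer (K : Set C)
    · intro v hv
      obtain ⟨i, j, d, h⟩ := hE.sl
      have hQP : closure ({i, j} : Set C) ≤ pCore 2 C ⊓ centralizer (K : Set C) := by
        rw [closure_le]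
        rintro y (rfl | rfl)
        · exact hne _ h.hi h.q.i2
        · exact hne _ h.hj h.q.j2
      obtain ⟨q, hq, w, hw, e, hwE⟩ := exists_mul h hx hEn hPn hPp hQP (hVP hv)
      have hw' := hc w (fun a ha => (mem_centralizer_iff.1 hw.2 a ha).symm) hwE
      have hvQ : v ∈ QQ E x := by
        rw [e, QQ_eq h]
        refine mul_mem hq ?_
        rcases hw' with h1 | h1
        · rw [h1]; exact one_mem _
        · rw [h1]; exact h.q.mem_z
      rcases QQ_cases hE hvQ with h1 | h1 | h1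
      · exact absurd (h1.symm.trans (hVV v hv)) hx1
      · exact Or.inl h1
      · exact Or.inr h1
    · intro v hv
      refine hc v (hVK v hv) ?_
      have h1 : E ≤ centralizer {v} := hE.le_of_cube fun u hu h3 =>
        mem_centralizer_singleton_iff.2 (T3.comm_of_sn hE.t3 (C := ⊤)
          (P := pCore 2 C ⊓ centralizer (K : Set C)) (Sn.of_isSubnormal hEn.isSubnormal le_top) le_top hPp
          (by rw [normalizer_eq_top_iff.2 hPn]; exact le_top) hne hu h3 (hVP hv))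
      exact fun a ha => (mem_centralizer_singleton_iff.1 (h1 ha)).symm
  · intro v hv
    exact hc v (hVK v hv) (fun a ha => comm_component_two hV hVs hE v hv a ha)

/-- **the abstract step** -/
theorem two_kill (hO : pPrimeCore 2 C = ⊥) (hx : ∀ g : C, g * x = x * g) {K E1 E2 V : Subgroup C}
    (hK : IsPr K x) (hKs : K.IsSubnormal)
    (hn1 : E1.Normal) (hE1 : IsPr E1 x ∨ IsComponent E1) (hn2 : E2.Normal) (hE2 : IsPr E2 x ∨ IsComponent E2)
    (hc : ∀ g, (∀ a ∈ E1, g * a = a * g) → (∀ a ∈ E2, g * a = a * g) → g = 1 ∨ g = x)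
    (hV : IsPGroup 2 V) (hVs : V.IsSubnormal) (hVK : ∀ v ∈ V, ∀ k ∈ K, v * k = k * v)
    (hVV : ∀ v ∈ V, v * v = 1) : ∀ v ∈ V, v = 1 ∨ v = x := by
  have key : ∀ E : Subgroup C, E.Normal → (IsPr E x ∨ IsComponent E) → K = E ∨ ∀ a ∈ K, ∀ b ∈ E, a * b = b * a := by
    rintro E hn (h | h)
    · rcases SLThree.eq_or_cm hO hx hK.sl h.sl hKs hn.isSubnormal with h1 | h1
      · exact Or.inl h1
      · exact Or.inr h1
    · exact Or.inr (comm_component hK hKs h)
  rcases key E1 hn1 hE1 with h1 | h1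
  · subst h1
    exact kill_aux hx hn1 hK hn2 hE2 hc hV hVs hVK hVV
  rcases key E2 hn2 hE2 with h2 | h2
  · subst h2
    exact kill_aux hx hn2 hK hn1 hE1 (fun g g1 g2 => hc g g2 g1) hV hVs hVK hVV
  exfalso
  obtain ⟨y, hy, -, -, hyx, -, -⟩ := QQ_not_comm hK
  have hx1 : x ≠ 1 := hK.t3.z_ne
  rcases hc y (h1 y (QQ_le hy)) (h2 y (QQ_le hy)) with h3 | h3
  · rw [h3, one_mul] at hyx
    exact hx1 hyx.symm
  · rw [h3, hK.t3.z_sq] at hyx
    exact hx1 hyx.symm

end kill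

end Cfsg.Agent.OddHalf.NI3.FThree
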