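import Cfsg.Agent.OddHalf.NI3.FThree.StOf
import Cfsg.Agent.Cit.Eleven

/-!
# (F2'₃): the piece is not `M₁₁`
-/

set_option autoImplicit false
set_option linter.unusedSectionVars false
set_option linter.dupNamespace false

namespace Cfsg.Agent.OddHalf.NI3.FThree

open Subgroup Cfsg
open Cfsg.Agent.Cit (pc cls self_mem_cls TStmt)

universe u

theorem card_of_isPr {G : Type*} [Group G] [Finite G] {K : Subgroup G} {z : G} (h : IsPr K z) : Nat.card K = 24 := by
  obtain ⟨i, k, d, hl⟩ := h.sl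
  exact hl.card

namespace Sit3

variable {H : Type u} [Group H] [Finite H] {x j : H} {J' J : Subgroup H}

/-- `x`, as an element of `D` modulo its centre, is not trivial -/
theorem mk_ne_one (S : Sit3 x j J' J) (hx : x ∈ pc (cls J') J') :
    (QuotientGroup.mk' (center ↥(pc (cls J') J'))) ⟨x, hx⟩ ≠ 1 := by
  intro h
  have h1 : (⟨x, hx⟩ : ↥(pc (cls J') J')) ∈ center ↥(pc (cls J') J') := (QuotientGroup.eq_one_iff _).1 h
  refine S.nc (g := 1) (one_mem _) fun d hd => ?_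
  have h2 := congrArg Subtype.val (mem_center_iff.1 h1 ⟨d, hd⟩)
  have h3 : d * x = x * d := h2
  calc (1 : H)⁻¹ * x * 1 * d = x * d := by group
    _ = d * x := h3.symm
    _ = d * (1⁻¹ * x * 1) := by group

theorem mathieu_false (S : Sit3 x j J' J) (iso : Spor.IsoM11 (↥(pc (cls J') J') ⧸ center ↥(pc (cls J') J'))) :
    False := by
  set D := pc (cls J') J' with hD
  have hJ'D : J' ≤ D := Cit.le_pc
  have hxD : x ∈ D := hJ'D S.cl.pr.mem
  set π := QuotientGroup.mk' (center ↥D) with hπ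
  have hne : π ⟨x, hxD⟩ ≠ 1 := S.mk_ne_one hxD
  have hK : IsPr ((J'.subgroupOf D).map π) (π ⟨x, hxD⟩) := (S.cl.pr.subgroupOf hJ'D).map π hne
  have hle : (J'.subgroupOf D).map π ≤ Cit.Eleven.SS (π ⟨x, hxD⟩) := hK.le_of_cube fun v hv hv3 =>
    subset_closure ⟨hv3, hK.comm_z hv⟩
  have := Cit.Eleven.finite iso
  have heq : (J'.subgroupOf D).map π = Cit.Eleven.SS (π ⟨x, hxD⟩) := by
    refine Subgroup.eq_of_le_of_card_ge hle ?_
    rw [card_of_isPr hK, Cit.Eleven.card_SS iso hK.ord]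
  have hcen := Cit.Eleven.centralizer_eq iso hK.ord (Cit.Eleven.QQ_le_SS iso hK.ord) (Cit.Eleven.SS_le _)
  obtain ⟨a, ha, b, hb, haz, hbz, hab⟩ := QQ_not_comm S.pr
  have haD : a ∈ D := S.ge ha
  have hbD : b ∈ D := S.ge hb
  have haK : π ⟨a, haD⟩ ∈ centralizer (Cit.Eleven.SS (π ⟨x, hxD⟩) : Set _) := by
    rw [← heq, mem_centralizer_iff]
    rintro _ ⟨y, hy, rfl⟩
    have h1 := mem_centralizer_iff.1 (S.cm (QQ_le ha)) y hy
    rw [← map_mul, ← map_mul]
    congr 1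
    exact Subtype.ext h1
  rw [hcen] at haK
  obtain ⟨k, hk⟩ := haK
  have hxb : x * b = b * x := mem_centralizer_iff.1 (S.cm (QQ_le hb)) x S.cl.pr.mem
  have hc : a * (x ^ k)⁻¹ * b = b * (a * (x ^ k)⁻¹) := by
    have h1 : π (⟨a, haD⟩ * (⟨x, hxD⟩ ^ k)⁻¹) = 1 := by
      rw [map_mul, map_inv, map_zpow]
      have h2 : (π ⟨x, hxD⟩) ^ k = π ⟨a, haD⟩ := hk
      rw [h2, mul_inv_cancel]
    have h3 := mem_center_iff.1 ((QuotientGroup.eq_one_iff _).1 h1) ⟨b, hbD⟩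
    exact (congrArg Subtype.val h3).symm
  apply hab
  have h4 : (x ^ k)⁻¹ * b = b * (x ^ k)⁻¹ := by
    have h5 : Commute x b := hxb
    exact ((h5.zpow_left k).inv_left).eq
  have h6 : a * b * (x ^ k)⁻¹ = b * a * (x ^ k)⁻¹ := by
    calc a * b * (x ^ k)⁻¹ = a * (b * (x ^ k)⁻¹) := by group
      _ = a * ((x ^ k)⁻¹ * b) := by rw [h4]
      _ = a * (x ^ k)⁻¹ * b := by group
      _ = b * (a * (x ^ k)⁻¹) := hc
      _ = b * a * (x ^ k)⁻¹ := by group
  exact mul_right_cancel h6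

end Sit3

end Cfsg.Agent.OddHalf.NI3.FThree
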