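import Cfsg.Agent.OddHalf.NI3.FThree.MainCore
import Cfsg.Agent.OddHalf.NI3.FThree.C3

/-!
# (F2'₃): the small pieces do not occur

`smallFalse_of` : `SmallFalse`, from THEOREM T and S1173 (a hypothesis here: only the last file of the assembly cites
S1173 itself).
-/

set_option autoImplicit false
set_option linter.unusedSectionVars false
set_option linter.dupNamespace false

namespace Cfsg.Agent.OddHalf.NI3.FThree

open Subgroup Cfsg
open Cfsg.Agent.Cit (pc cls self_mem_cls TStmt)

universe u

theorem Sit3.bas {H : Type u} [Group H] [Finite H] {x j : H} {J' J : Subgroup H} (S : Sit3 x j J' J) :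
    Bas x j J' J (pc (cls J') J') where
  cl := S.cl
  le := Cit.le_pc
  qs := S.comp.2
  two := S.two
  pr := S.pr
  mem := fun _ hy hyj => S.ge (mem_QQ hy hyj)
  cen := fun d _ => S.jc d
  comm := fun a ha k hk => (mem_centralizer_iff.1 (S.cm ha) k hk).symm

/-- **the small pieces do not occur in (F2'₃)** -/
theorem smallFalse_of (h1173 : ∀ (G : Type u) [Group G] [Finite G], oddCore G = ⊥ → Cit.OneF.H1173 G)
    (hT : TStmt.{u}) : SmallFalse.{u} := by
  intro H _ _ x j J' J S hp
  rcases hp with ⟨nmem, p, c, kind, small, sl⟩ | ⟨p, prime, odd, iso, ne, zzc, three⟩ | ⟨iso, ne, mem⟩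
  · exact false_of_C1 h1173 hT S.core S.bas c kind.card
  · exact false_of_exc hT S.core S.bas prime odd iso
  · exact false_of_mathieu hT S.core S.bas iso

end Cfsg.Agent.OddHalf.NI3.FThree
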