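import Cfsg.Agent.OddHalf.NI3.FThree.C3Small
import Cfsg.Agent.OddHalf.NI3.FThree.Main

/-!
# (F2'₃): the final statements

From THEOREM T and S1173 (for the groups with trivial odd core):
* `f23a` : `F23a` (ambient part);
* `f23b` : `F23b` for `S7 := ChartB3 (ZMod 3)` (intrinsic part).
-/

set_option autoImplicit false
set_option linter.unusedSectionVars false
set_option linter.dupNamespace false

namespace Cfsg.Agent.OddHalf.NI3.FThree

open Cfsg Cfsg.Agent.Cit Cfsg.Agent.SignalizersComponents
open Cfsg.Agent.OddHalf.NI.FTwo (ChartB3)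

universe u

/-- **(F2'₃), the ambient part** -/
theorem f23a (hT : TStmt.{u})
    (h1173 : ∀ (G : Type u) [Group G] [Finite G], oddCore G = ⊥ → OneF.H1173 G) : F23a.{u} :=
  f23a_of hT (smallFalse_of h1173 hT)

/-- **(F2'₃), the intrinsic part** -/
theorem f23b (hT : TStmt.{u})
    (h1173 : ∀ (G : Type u) [Group G] [Finite G], oddCore G = ⊥ → OneF.H1173 G) :
    F23b.{u} (fun N _ c d A B A' => ChartB3 (ZMod 3) N c d A B A') :=
  f23b_of hT (smallFalse_of h1173 hT)

end Cfsg.Agent.OddHalf.NI3.FThree
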