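import Mathlib
import Cfsg.Agent.OddHalf.NI3.FThree.C2
import Cfsg.Agent.Nodes.Reindex
import Cfsg.Agent.Nodes.RKindsBC
import Cfsg.Agent.Nodes.KindC
import Cfsg.Agent.Nodes.KindF
import Cfsg.Agent.Nodes.TyStd
import Cfsg.Agent.Cit.TDef

/-!
# (F2'_3), part (c): the kinds

For a chart `c` of `L` over the field with three elements (`|Z r| = 3`):

* `comm_of_chart` : kinds `A n`, `B n` (`n ≥ 3`), `D n`, `E n`, `F₄` (all kinds but `C n`, `G₂`): a subgroup `Q` of `L`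
  centralising `KK Z r` and all `X x`, `x` orthogonal to `r`, is commutative;
* `cent_of_chart` : kinds `C n`, `n ≥ 2`: an element of order three normalising `L` and centralising `KK Z r` and all
  `X x`, `x` orthogonal to `r`, centralises `L`.
-/

set_option autoImplicit false
set_option linter.unusedSectionVars false
set_option linter.dupNamespace false

namespace Cfsg.Agent.OddHalf.NI3.FThree

open Cfsg
open CoxeterSystem Cfsg.Agent.ChevalleyStructure.CoxeterGeom Cfsg.Agent.Tits.Roots Cfsg.Agent.Tits.Core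
  Cfsg.Agent.Tits.RootComb Cfsg.Agent.Nodes.Comb Cfsg.Agent.Nodes.Reps Cfsg.Agent.Nodes.BNOf
  Cfsg.Agent.Nodes.RGDLib Cfsg.Agent.Nodes.Chart Cfsg.Agent.Nodes.Coroot Cfsg.Agent.Nodes.FreeTorus
  Cfsg.Agent.Nodes.SubComb Cfsg.Agent.Nodes.Bruhat Cfsg.Agent.Nodes.StabComb Cfsg.Agent.Nodes.Perp
  Cfsg.Agent.Nodes.Sub Cfsg.Agent.Nodes.ClsSub Cfsg.Agent.Nodes Cfsg.Agent.Nodes.KindBC

/-! ### Root level -/

section Root

variable {I W : Type*} [Fintype I] [DecidableEq I] [Group W] [Fintype W] {M : CoxeterMatrix I}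
  (cs : CoxeterSystem M W) {A : I → I → ℤ} (h : IsCartan M A)

/-- the roots outside `R` can be moved into the hyperplanes of the members of `R` -/
def Short (R : Set (I → ℤ)) : Prop :=
  ∀ r ∈ R, ∀ x, IsRoot cs h x → x ∉ R → ∃ s ∈ R, cpr cs h (x - cpr cs h x s • s) r = 0

/-- the root level conditions of `Lcc`, and any member of `R` is half of a sum -/
structure Long (R : Set (I → ℤ)) : Prop where
  orth : ∀ x ∈ R, ∀ y ∈ R, x ≠ y → x ≠ -y → cpr cs h x y = 0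
  half : ∀ x, IsRoot cs h x → x ∉ R → ∃ a ∈ R, ∃ b ∈ R, cpr cs h a b = 0 ∧ (2 : ℤ) • x = a + b
  nbr : ∀ r ∈ R, ∃ s ∈ R, ∃ y, cpr cs h r s = 0 ∧ IsRoot cs h y ∧ (2 : ℤ) • y = r + s

/-- roots of the same length -/
theorem abs_cpr_le_one {x y : I → ℤ} (hy : IsRoot cs h y)
    (hl : form cs h x x = form cs h y y) (h1 : x ≠ y) (h2 : x ≠ -y) : |cpr cs h x y| ≤ 1 := by
  have e1 := two_form_cpr cs h x hy
  have p1 := form_pos cs h (x := x - y) (sub_ne_zero.2 h1)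
  have p2 := form_pos cs h (x := x + y) (by rw [← sub_neg_eq_add]; exact sub_ne_zero.2 h2)
  have p3 := form_pos cs h hy.ne_zero
  rw [form_sub_left, form_sub_right, form_sub_right, form_comm cs h y x, hl] at p1
  rw [form_add_left, form_add_right, form_add_right, form_comm cs h y x, hl] at p2
  set N := form cs h y y
  set k := cpr cs h x y
  have q1 : (2 - k) * N > 0 := by linarith
  have q2 : (2 + k) * N > 0 := by linarith
  have q3 := (mul_pos_iff_of_pos_right p3).1 q1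
  have q4 := (mul_pos_iff_of_pos_right p3).1 q2
  rw [abs_le]
  omega

end Root

/-! ### The kind `B n` -/

section KB

variable {n : ℕ} {W : Type*} [Group W] [Fintype W] (cs : CoxeterSystem (CoxeterMatrix.B n) W)

theorem short_B (hn : 3 ≤ n) : Short cs (TypeC.isCartan n) (RB n) := by
  intro r hr x hx hxR
  have hxC : x ∈ RC n := ((isRoot_iff_mem cs).1 hx).resolve_left hxR
  obtain ⟨a, rfl⟩ := mem_RC.1 hxC
  obtain ⟨b, c, hbc, rfl⟩ := mem_RB.1 hr
  obtain ⟨k, hk⟩ : ∃ k : Fin n, k ∉ ({b.1, c.1} : Finset (Fin n)) := by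
    by_contra hcon
    push Not at hcon
    have h1 : (Finset.univ : Finset (Fin n)) ⊆ {b.1, c.1} := fun k _ => hcon k
    have h2 := Finset.card_le_card h1
    have h3 := Finset.card_le_two (a := b.1) (b := c.1)
    rw [Finset.card_univ, Fintype.card_fin] at h2
    omega
  rw [Finset.mem_insert, Finset.mem_singleton, not_or] at hk
  by_cases hak : a.1 = k
  · -- already orthogonal; `s = r` works if `cpr = 0`
    refine ⟨rt b c, rt_mem_RB hbc, ?_⟩
    have h1 : cpr cs (TypeC.isCartan n) (rt a a) (rt b c) = 0 := by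
      rw [cpr_rt cs _ hbc, ee_rt, Pi.add_apply, Pi.add_apply, wt_apply_ne (by rw [hak]; exact Ne.symm hk.1),
        wt_apply_ne (by rw [hak]; exact Ne.symm hk.2)]
      ring
    rw [h1, zero_smul, sub_zero, h1]
  · have hs : a.1 ≠ ((k, true) : Fin n × Bool).1 := hak
    refine ⟨rt a (TypeC.ng (k, true)), rt_mem_RB hs, ?_⟩
    have h1 : cpr cs (TypeC.isCartan n) (rt a a) (rt a (TypeC.ng (k, true))) = 2 := by
      rw [cpr_rt cs _ (b := TypeC.ng (k, true)) hs, ee_rt, Pi.add_apply, Pi.add_apply, wt_apply_self,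
        wt_apply_ne (a := a) (k := (TypeC.ng (k, true)).1) (Ne.symm hak)]
      rcases sn_eq_one_or a with h | h <;> rw [h] <;> ring
    have h2 : TypeC.ee (rt a a - (2 : ℤ) • rt a (TypeC.ng (k, true))) = (2 : ℤ) • TypeC.wt (k, true) := by
      rw [sub_eq_add_neg, TypeC.ee_add, TypeC.ee_neg, TypeC.ee_smul, ee_rt, ee_rt, TypeC.wt_ng]
      module
    rw [h1, cpr_rt cs _ hbc, h2, Pi.smul_apply, Pi.smul_apply, wt_apply_ne (Ne.symm hk.1),
      wt_apply_ne (Ne.symm hk.2)]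
    simp

end KB

/-! ### The kind `C n` -/

section KC

variable {n : ℕ} {W : Type*} [Group W] [Fintype W] (cs : CoxeterSystem (CoxeterMatrix.B n) W)

theorem long_C (hn : 2 ≤ n) : Long cs (TypeC.isCartan n) (RC n) where
  orth x hx y hy h1 h2 := by
    obtain ⟨a, rfl⟩ := mem_RC.1 hx
    obtain ⟨b, rfl⟩ := mem_RC.1 hy
    have hab : b.1 ≠ a.1 := by
      intro e
      obtain ⟨i, s⟩ := a
      obtain ⟨j, t⟩ := b
      change j = i at e
      subst e
      cases s <;> cases t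
      · exact h1 rfl
      · apply h2; rw [← rt_ng]; rfl
      · apply h2; rw [← rt_ng]; rfl
      · exact h1 rfl
    rw [cpr_rt_self, ee_rt, Pi.add_apply, wt_apply_ne hab]
    ring
  half x hx hxR := by
    have hxB : x ∈ RB n := ((isRoot_iff_mem cs).1 hx).resolve_right hxR
    obtain ⟨a, b, hab, rfl⟩ := mem_RB.1 hxB
    refine ⟨rt a a, rt_mem_RC a, rt b b, rt_mem_RC b, ?_, ?_⟩
    · rw [cpr_rt_self, ee_rt, Pi.add_apply, wt_apply_ne (Ne.symm hab)]
      ring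
    · apply TypeC.ee_injective
      rw [TypeC.ee_smul, TypeC.ee_add, ee_rt, ee_rt, ee_rt]
      module
  nbr r hr := by
    obtain ⟨a, rfl⟩ := mem_RC.1 hr
    obtain ⟨k, hk⟩ : ∃ k : Fin n, k ∉ ({a.1} : Finset (Fin n)) := by
      by_contra hcon
      push Not at hcon
      have h1 : (Finset.univ : Finset (Fin n)) ⊆ {a.1} := fun k _ => hcon k
      have h2 := Finset.card_le_card h1
      rw [Finset.card_univ, Fintype.card_fin, Finset.card_singleton] at h2
      omega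
    rw [Finset.mem_singleton] at hk
    refine ⟨rt (k, true) (k, true), rt_mem_RC _, rt a (k, true), ?_, isRoot_rt cs (Or.inl (Ne.symm hk)), ?_⟩
    · rw [cpr_rt_self, ee_rt, Pi.add_apply, wt_apply_ne hk]
      ring
    · apply TypeC.ee_injective
      rw [TypeC.ee_smul, TypeC.ee_add, ee_rt, ee_rt, ee_rt]
      module

end KC

/-! ### The kind `F₄` -/

section KF

open Cfsg.Lie Cfsg.Agent.ChevalleyStructure Cfsg.Agent.ChevalleyStructure.RootVec
  Cfsg.Agent.ChevalleyStructure.CoxeterGeomTypes Cfsg.Agent.Nodes.RGDChev Cfsg.Agent.Nodes.KindChev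

set_option backward.isDefEq.respectTransparency false in
theorem aux_F : ∀ i < chevF4.nroots, ∃ k < chevF4.nroots,
    qf (cartanOf chevF4 4) KindF.d (vec chevF4 4 k) (vec chevF4 4 k) = 4 ∧
    2 * qf (cartanOf chevF4 4) KindF.d (vec chevF4 4 i) (KindF.fr 0) =
      qf (cartanOf chevF4 4) KindF.d (vec chevF4 4 i) (vec chevF4 4 k) *
        qf (cartanOf chevF4 4) KindF.d (vec chevF4 4 k) (KindF.fr 0) ∨
    qf (cartanOf chevF4 4) KindF.d (vec chevF4 4 i) (vec chevF4 4 i) = 4 := by decide +kernel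

theorem short_F {W : Type*} [Group W] [Fintype W] (cs : CoxeterSystem CoxeterMatrix.F₄ W)
    (h : IsCartan CoxeterMatrix.F₄ (cartanOf chevF4 4)) : Short cs h (KindF.R cs h) := by
  -- for the highest root
  have key : ∀ x, IsRoot cs h x → x ∉ KindF.R cs h → ∃ s ∈ KindF.R cs h,
      cpr cs h (x - cpr cs h x s • s) (KindF.fr 0) = 0 := by
    intro x hx hxR
    obtain ⟨i, hi, rfl⟩ := (isRoot_iff KindF.isType cs x).1 hx
    obtain ⟨k, hk, h1⟩ := aux_F i hi
    have h2 : qf (cartanOf chevF4 4) KindF.d (vec chevF4 4 i) (vec chevF4 4 i) ≠ 4 := fun e => hxR ⟨hx, e⟩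
    obtain ⟨h3, h4⟩ := h1.resolve_right h2
    have hs : IsRoot cs h (vec chevF4 4 k) := isRoot_vec KindF.isType cs hk
    refine ⟨vec chevF4 4 k, ⟨hs, h3⟩, ?_⟩
    have h0 := KindF.kd.isRoot (cs := cs) (h := h) KindF.isType 0
    have h5 := cpr_mul_qf cs h KindF.kd.hd (vec chevF4 4 i) hs
    have h6 := cpr_mul_qf cs h KindF.kd.hd
      (vec chevF4 4 i - cpr cs h (vec chevF4 4 i) (vec chevF4 4 k) • vec chevF4 4 k) h0
    rw [h3] at h5
    rw [KindF.kd.norm, qf_sub_left, qf_smul_left] at h6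
    set c := cpr cs h (vec chevF4 4 i) (vec chevF4 4 k)
    have h7 : 2 * (qf (cartanOf chevF4 4) KindF.d (vec chevF4 4 i) (KindF.fr 0) -
        c * qf (cartanOf chevF4 4) KindF.d (vec chevF4 4 k) (KindF.fr 0)) = 0 := by
      have h8 : qf (cartanOf chevF4 4) KindF.d (vec chevF4 4 i) (vec chevF4 4 k) = 2 * c := by linarith
      rw [h8] at h4
      linear_combination h4
    rw [h7] at h6
    rcases mul_eq_zero.1 h6 with h8 | h8
    · exact h8
    · norm_num at h8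
  intro r hr x hx hxR
  obtain ⟨w, hw⟩ := KindF.trans cs h hr (KindF.kd.mem KindF.isType 0)
  have hx' : rep cs h w x ∉ KindF.R cs h := by
    intro h1
    have h2 := (KindF.frameSys cs h).act _ h1 w⁻¹
    rw [rep_inv_apply] at h2
    exact hxR h2
  obtain ⟨s, hs, h1⟩ := key _ (hx.act w) hx'
  refine ⟨rep cs h w⁻¹ s, (KindF.frameSys cs h).act _ hs _, ?_⟩
  have hsr : IsRoot cs h s := hs.1
  have h2 : cpr cs h x (rep cs h w⁻¹ s) = cpr cs h (rep cs h w x) s := by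
    have := cpr_rep cs h w⁻¹ (rep cs h w x) hsr
    rwa [rep_inv_apply] at this
  have h3 := cpr_rep cs h w (x - cpr cs h (rep cs h w x) s • rep cs h w⁻¹ s) (y := r) hr.1
  rw [map_sub, map_smul, rep_apply_inv, hw, h1] at h3
  rw [h2]
  exact h3.symm

theorem long_F4_iff {W : Type*} [Group W] [Fintype W] (cs : CoxeterSystem CoxeterMatrix.F₄ W)
    (h : IsCartan CoxeterMatrix.F₄ (cartanOf chevF4 4)) (j : Fin 4) :
    Ty.F4.long j ↔ (sr j : Fin 4 → ℤ) ∈ KindF.R cs h := by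
  have h1 := qf_root cs h KindF.kd.hd 1 j
  rw [map_one, Module.End.one_apply] at h1
  have h2 : (sr j : Fin 4 → ℤ) ∈ KindF.R cs h ↔ 2 * KindF.d j = 4 := by
    constructor
    · rintro ⟨-, h3⟩
      rw [← h1]; exact h3
    · intro h3
      exact ⟨isRoot_sr cs h j, by rw [h1]; exact h3⟩
  rw [h2]
  change 2 ≤ (j : ℕ) ↔ _
  clear h1 h2
  revert j
  decide

end KF

/-! ### Transport -/

section Chart

variable {G : Type*} [Group G] {Om : Set (Subgroup G)} {p : ℕ} {L : Subgroup G}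

/-- the standard Coxeter system on the group of the chart -/
theorem exists_std' (c : Chart Om p L) {τ : Ty} (hτ : c.IsTy τ) :
    ∃ (e : c.I ≃ Fin τ.rk) (cs' : CoxeterSystem τ.M c.W), (∀ i j, c.A i j = τ.cartan (e i) (e j)) ∧
      (∀ i, cs'.simple (e i) = c.cs.simple i) ∧ (∀ i, sr i ∈ c.R ↔ τ.long (e i)) := by
  obtain ⟨e, hA, hl⟩ := hτ
  obtain ⟨cs', hs⟩ := Reindex.exists_reindex c.cs e (fun i j => c.M_apply hA i j)
  exact ⟨e, cs', hA, hs, hl⟩

theorem short_of (c : Chart Om p L) {τ : Ty} (e : c.I ≃ Fin τ.rk) (cs' : CoxeterSystem τ.M c.W)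
    (hA : ∀ i j, c.A i j = τ.cartan (e i) (e j)) (hs : ∀ i, cs'.simple (e i) = c.cs.simple i)
    {R' : Set (Fin τ.rk → ℤ)} (hR'r : ∀ x ∈ R', IsRoot cs' τ.isCartan x)
    (hact' : ∀ r ∈ R', ∀ w, rep cs' τ.isCartan w r ∈ R') (hl : ∀ i, sr i ∈ c.R ↔ sr (e i) ∈ R')
    (hS : Short cs' τ.isCartan R') : Short c.cs c.h c.R := by
  have hmem : ∀ x, IsRoot c.cs c.h x → (x ∈ c.R ↔ x ∘ e.symm ∈ R') := by
    intro x hx
    have h1 := TyStd.mem_R_iff (cs := c.cs) (h := c.h) e (fun i j => c.M_apply hA i j) hA cs' τ.isCartan c.cls.act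
      hact' hl (x := x ∘ e.symm) ((Reindex.isRoot_reindex hA hs).2 hx)
    rw [← h1]
    have h2 : (fun i => (x ∘ e.symm) (e i)) = x := by funext i; simp
    rw [h2]
  intro r hr x hx hxR
  obtain ⟨s', hs', h1⟩ := hS _ ((hmem r (c.cls.root r hr)).1 hr) (x ∘ e.symm) ((Reindex.isRoot_reindex hA hs).2 hx)
    (fun h0 => hxR ((hmem x hx).2 h0))
  obtain ⟨s, rfl⟩ : ∃ s : c.I → ℤ, s' = s ∘ e.symm := ⟨s' ∘ e, (Reindex.comp_symm s').symm⟩
  have hsr : IsRoot c.cs c.h s := (Reindex.isRoot_reindex hA hs).1 (hR'r _ hs')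
  refine ⟨s, (hmem s hsr).2 hs', ?_⟩
  rw [← Reindex.cpr_reindex (cs' := cs') (h' := τ.isCartan) hA hs _ (c.cls.root r hr),
    ← Reindex.cpr_reindex (cs' := cs') (h' := τ.isCartan) hA hs x hsr]
  exact h1

theorem long_of (c : Chart Om p L) {τ : Ty} (e : c.I ≃ Fin τ.rk) (cs' : CoxeterSystem τ.M c.W)
    (hA : ∀ i j, c.A i j = τ.cartan (e i) (e j)) (hs : ∀ i, cs'.simple (e i) = c.cs.simple i)
    {R' : Set (Fin τ.rk → ℤ)} (hR'r : ∀ x ∈ R', IsRoot cs' τ.isCartan x)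
    (hact' : ∀ r ∈ R', ∀ w, rep cs' τ.isCartan w r ∈ R') (hl : ∀ i, sr i ∈ c.R ↔ sr (e i) ∈ R')
    (hS : Long cs' τ.isCartan R') : Long c.cs c.h c.R := by
  have hmem : ∀ x, IsRoot c.cs c.h x → (x ∈ c.R ↔ x ∘ e.symm ∈ R') := by
    intro x hx
    have h1 := TyStd.mem_R_iff (cs := c.cs) (h := c.h) e (fun i j => c.M_apply hA i j) hA cs' τ.isCartan c.cls.act
      hact' hl (x := x ∘ e.symm) ((Reindex.isRoot_reindex hA hs).2 hx)
    rw [← h1]
    have h2 : (fun i => (x ∘ e.symm) (e i)) = x := by funext i; simp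
    rw [h2]
  have lift : ∀ s' ∈ R', ∃ s ∈ c.R, s' = s ∘ e.symm := by
    intro s' hs'
    obtain ⟨s, rfl⟩ : ∃ s : c.I → ℤ, s' = s ∘ e.symm := ⟨s' ∘ e, (Reindex.comp_symm s').symm⟩
    exact ⟨s, (hmem s ((Reindex.isRoot_reindex hA hs).1 (hR'r _ hs'))).2 hs', rfl⟩
  refine ⟨?_, ?_, ?_⟩
  · intro x hx y hy h1 h2
    rw [← Reindex.cpr_reindex (cs' := cs') (h' := τ.isCartan) hA hs _ (c.cls.root y hy)]
    exact hS.orth _ ((hmem x (c.cls.root x hx)).1 hx) _ ((hmem y (c.cls.root y hy)).1 hy)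
      (fun e0 => h1 (Reindex.comp_inj e0)) (fun e0 => h2 (Reindex.comp_inj (e := e) e0))
  · intro x hx hxR
    obtain ⟨a', ha', b', hb', h1, h2⟩ := hS.half _ ((Reindex.isRoot_reindex hA hs).2 hx) (fun h0 => hxR ((hmem x hx).2 h0))
    obtain ⟨a, ha, rfl⟩ := lift a' ha'
    obtain ⟨b, hb, rfl⟩ := lift b' hb'
    refine ⟨a, ha, b, hb, ?_, ?_⟩
    · rw [← Reindex.cpr_reindex (cs' := cs') (h' := τ.isCartan) hA hs _ (c.cls.root b hb)]
      exact h1
    · exact Reindex.comp_inj (e := e) h2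
  · intro r hr
    obtain ⟨s', hs', y', h1, h2, h3⟩ := hS.nbr _ ((hmem r (c.cls.root r hr)).1 hr)
    obtain ⟨s, hs2, rfl⟩ := lift s' hs'
    obtain ⟨y, rfl⟩ : ∃ y : c.I → ℤ, y' = y ∘ e.symm := ⟨y' ∘ e, (Reindex.comp_symm y').symm⟩
    refine ⟨s, hs2, y, ?_, (Reindex.isRoot_reindex hA hs).1 h2, Reindex.comp_inj (e := e) h3⟩
    rw [← Reindex.cpr_reindex (cs' := cs') (h' := τ.isCartan) hA hs _ (c.cls.root s hs2)]
    exact h1

/-- if all simple roots are in `R` then `R` is the set of roots -/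
theorem short_of_all (c : Chart Om p L) (hl : ∀ i, sr i ∈ c.R) : Short c.cs c.h c.R := by
  intro r _ x hx hxR
  obtain ⟨w, i, rfl⟩ := hx
  exact absurd (c.cls.act _ (hl i) w) hxR

theorem short_of_isTy (c : Chart Om p L) {τ : Ty} (hτ : c.IsTy τ) (ok : Cit.KindOk τ) (hC : ∀ n, τ ≠ .C n) :
    Short c.cs c.h c.R := by
  obtain ⟨e, cs', hA, hs, hl⟩ := exists_std' c hτ
  match τ, hτ, ok, hC, e, cs', hA, hs, hl with
  | .A n, _, _, _, _, _, _, _, hl => exact short_of_all c fun i => (hl i).2 trivial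
  | .B n, _, ok, _, e, cs', hA, hs, hl =>
    exact short_of c (τ := .B n) e cs' hA hs (R' := RB n) (fun x hx => root_RB cs' hx) (fun r hr w => act_RB cs' hr w)
      (fun i => by rw [hl]; exact RKindsBC.sr_mem_RB.symm) (short_B cs' ok)
  | .C n, _, _, hC, _, _, _, _, _ => exact absurd rfl (hC n)
  | .D n, _, _, _, _, _, _, _, hl => exact short_of_all c fun i => (hl i).2 trivial
  | .E6, _, _, _, _, _, _, _, hl => exact short_of_all c fun i => (hl i).2 trivial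
  | .E7, _, _, _, _, _, _, _, hl => exact short_of_all c fun i => (hl i).2 trivial
  | .E8, _, _, _, _, _, _, _, hl => exact short_of_all c fun i => (hl i).2 trivial
  | .F4, _, _, _, e, cs', hA, hs, hl =>
    refine short_of c (τ := .F4) e cs' hA hs (R' := KindF.R cs' Ty.F4.isCartan) (fun x hx => hx.1)
      (fun r hr w => (KindF.frameSys cs' Ty.F4.isCartan).act r hr w) (fun i => ?_) (short_F cs' _)
    rw [hl]
    exact long_F4_iff cs' _ (e i)
  | .G2, _, ok, _, _, _, _, _, _ => exact absurd ok id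

theorem long_of_isTy (c : Chart Om p L) {n : ℕ} (hτ : c.IsTy (.C n)) (hn : 2 ≤ n) : Long c.cs c.h c.R := by
  obtain ⟨e, cs', hA, hs, hl⟩ := exists_std' c hτ
  exact long_of c (τ := .C n) e cs' hA hs (R' := RC n) (fun x hx => root_RC cs' hx) (fun r hr w => act_RC cs' hr w)
    (fun i => by rw [hl]; exact RKindsBC.sr_mem_RC.symm) (long_C cs' hn)

theorem form_eq_R (c : Chart Om p L) : ∀ x ∈ c.R, ∀ y ∈ c.R, form c.cs c.h x x = form c.cs c.h y y := by
  intro x hx y hy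
  obtain ⟨w, rfl⟩ := c.trans x hx y hy
  rw [form_rep]

theorem lac_of_isTy (c : Chart Om p L) {τ : Ty} (hτ : c.IsTy τ) (ok : Cit.KindOk τ) (hC : ∀ n, τ ≠ .C n)
    (zx : ∀ r ∈ c.R, c.Z r = c.X r) (h3 : ∀ r ∈ c.R, Nat.card (c.Z r) = 3) {r : c.I → ℤ} (hr : r ∈ c.R) :
    Lac c.cs c.h c.X c.R c.Z r where
  mem := hr
  card := h3
  zx := zx
  le_one x hx y hy h1 h2 := abs_cpr_le_one c.cs c.h (c.cls.root y hy) (form_eq_R c x hx y hy) h1 h2
  short x hx hxR _ := by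
    obtain ⟨s, hs, h1⟩ := short_of_isTy c hτ ok hC r hr x hx hxR
    exact ⟨s, hs, (cpr_zero_iff c.cs c.h _ (c.cls.root r hr)).1 h1⟩

theorem lcc_of_isTy (c : Chart Om p L) {n : ℕ} (hτ : c.IsTy (.C n)) (hn : 2 ≤ n) : Lcc c.cs c.h c.R := by
  have K := long_of_isTy c hτ hn
  refine ⟨c.cls.root, fun x hx => ClsNorm.neg_mem c.cls hx, fun x hx y hy h1 h2 => ?_, form_eq_R c,
    fun x hx hxR => ?_⟩
  · exact (cpr_zero_iff c.cs c.h _ (c.cls.root y hy)).1 (K.orth x hx y hy h1 h2)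
  · obtain ⟨a, ha, b, hb, h1, h2⟩ := K.half x hx hxR
    exact ⟨a, ha, b, hb, (cpr_zero_iff c.cs c.h _ (c.cls.root b hb)).1 h1, h2⟩

/-- the classical root groups have order three if the classical groups have order 24 -/
theorem card_Z [Finite G] (c : Chart Om 3 L) (h24 : ∀ r ∈ c.R, Nat.card (KK c.Z r) = 24) :
    ∀ r ∈ c.R, Nat.card (c.Z r) = 3 := by
  intro r hr
  have : Fact (Nat.Prime 3) := ⟨Nat.prime_three⟩
  have h1 : IsPGroup 3 ↥(c.Z r) := (c.cls.rgd.pgrp' (c.cls.root r hr)).to_le (c.cls.le r hr)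
  obtain ⟨k, hk⟩ := IsPGroup.iff_card.1 h1
  have h2 : Nat.card (c.Z r) ∣ 24 := by
    rw [← h24 r hr]
    exact Subgroup.card_dvd_of_le (le_sup_left : c.Z r ≤ KK c.Z r)
  have h3 : Nat.card (c.Z r) ≠ 1 := by
    intro h4
    exact c.cls.ne_bot r hr (Subgroup.eq_bot_of_card_eq _ h4)
  rw [hk] at h2 h3 ⊢
  rcases k with _ | _ | k
  · exact absurd rfl h3
  · norm_num
  · exfalso
    rw [pow_add, pow_add] at h2
    have h5 : 9 ∣ 24 := by
      refine Dvd.dvd.trans ⟨3 ^ k, ?_⟩ h2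
      ring
    omega

theorem G1_le_L (c : Chart Om p L) : G1 c.cs c.h c.X ≤ L := le_of_eq c.gen

theorem GG_eq_L (c : Chart Om p L) : GG c.cs c.h c.T c.X = L := by
  exact le_antisymm (sup_le c.T_le (le_of_eq c.gen)) (le_trans (le_of_eq c.gen.symm) le_sup_right)

/-- **(F2'_3), (c1)**: all kinds but `C n`. -/
theorem comm_of_chart [Finite G] (c : Chart Om 3 L) {τ : Ty} (hτ : c.IsTy τ) (ok : Cit.KindOk τ) (hC : ∀ n, τ ≠ .C n)
    (zx : ∀ r ∈ c.R, c.Z r = c.X r) (h3 : ∀ r ∈ c.R, Nat.card (c.Z r) = 3) {r : c.I → ℤ} (hr : r ∈ c.R)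
    {Q : Subgroup G} (hQ : Q ≤ L) (hQr : ∀ q ∈ Q, ∀ y ∈ KK c.Z r, q * y = y * q)
    (hQx : ∀ q ∈ Q, ∀ x, IsRoot c.cs c.h x → form c.cs c.h x r = 0 → ∀ y ∈ c.X x, q * y = y * q) :
    ∀ q ∈ Q, ∀ q' ∈ Q, q * q' = q' * q :=
  comm_of_perp c.cls Nat.prime_three (by norm_num) (lac_of_isTy c hτ ok hC zx h3 hr) (by rw [c.gen]; exact hQ) hQr hQx

/-- **(F2'_3), (c2)**: kind `C n`, `n ≥ 2`. -/
theorem cent_of_chart [Finite G] (c : Chart Om 3 L) {n : ℕ} (hτ : c.IsTy (.C n)) (hn : 2 ≤ n)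
    (h3 : ∀ r ∈ c.R, Nat.card (c.Z r) = 3) {r : c.I → ℤ} (hr : r ∈ c.R) {g : G} (hg3 : g * g * g = 1)
    (hgL : ∀ x ∈ L, g * x * g⁻¹ ∈ L) (hgr : ∀ y ∈ KK c.Z r, g * y = y * g)
    (hgx : ∀ x, IsRoot c.cs c.h x → form c.cs c.h x r = 0 → ∀ y ∈ c.X x, g * y = y * g) :
    ∀ y ∈ L, g * y = y * g := by
  have K := lcc_of_isTy c hτ hn
  have h1 : ∀ x, IsRoot c.cs c.h x → Cq g (c.X x) := by
    refine cent_of_perp c.cls Nat.prime_three (by norm_num) K ?_ hr ?_ hg3 ?_ hgr hgx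
    · intro s hs b hb
      have h2 : (⟨b, hb⟩ : c.Z s) ^ Nat.card (c.Z s) = 1 := pow_card_eq_one'
      rw [h3 s hs] at h2
      have h4 : b ^ 3 = 1 := congrArg Subtype.val h2
      rw [← h4, pow_succ, pow_two]
    · obtain ⟨s, hs, y, h2, h4, h5⟩ := (long_of_isTy c hτ hn).nbr r hr
      exact ⟨s, y, hr, hs, (cpr_zero_iff c.cs c.h _ (c.cls.root s hs)).1 h2, h4, h5⟩
    · rw [GG_eq_L]; exact hgL
  intro y hy
  rw [← c.gen] at hy
  have h2 : G1 c.cs c.h c.X ≤ Subgroup.centralizer {g} := by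
    refine RGD.Sup_le fun x hx y hy => ?_
    rw [Subgroup.mem_centralizer_singleton_iff]
    exact (h1 x hx y hy).symm
  exact (Subgroup.mem_centralizer_singleton_iff.1 (h2 hy)).symm

end Chart

end Cfsg.Agent.OddHalf.NI3.FThree
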