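import Cfsg.Agent.OddHalf.NI3.FThree.B3
import Cfsg.Agent.OddHalf.NI3.FThree.Bad

/-!
# (F2'₃): the chart of type `B₃`

`exists_frame` : the frame `r, r', b` of a chart of kind `B₃`; `pos3` : the structure `PosB3` over `F₃`.
-/

set_option autoImplicit false
set_option linter.unusedSectionVars false
set_option linter.dupNamespace false

namespace Cfsg.Agent.OddHalf.NI3.FThree

open Cfsg
open CoxeterSystem Cfsg.Agent.ChevalleyStructure.CoxeterGeom Cfsg.Agent.Tits.Roots Cfsg.Agent.Tits.Core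
  Cfsg.Agent.Tits.RootComb Cfsg.Agent.Nodes.Comb Cfsg.Agent.Nodes.Reps Cfsg.Agent.Nodes.BNOf
  Cfsg.Agent.Nodes.RGDLib Cfsg.Agent.Nodes.Chart Cfsg.Agent.Nodes.Coroot Cfsg.Agent.Nodes.FreeTorus
  Cfsg.Agent.Nodes.SubComb Cfsg.Agent.Nodes.Bruhat Cfsg.Agent.Nodes.StabComb Cfsg.Agent.Nodes.Perp
  Cfsg.Agent.Nodes.Sub Cfsg.Agent.Nodes.ClsSub
open Cfsg.Agent.OddHalf.NI.FTwo (R1 commute_cj mem_of_sq_mem cj_T cj_LL le_T_DD₂ X_comm_self exists_refl_rep zprod
  PosB3 ChartB3)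

/-- the frame of a bad root -/
theorem exists_frame {Y : Type*} [Group Y] {Om : Set (Subgroup Y)} {p : ℕ} {L : Subgroup Y}
    (C : Chart Om p L) {τ : Nodes.Chart.Ty} (hτ : C.IsTy τ) (ok : Cit.KindOk τ)
    (zx : (∀ r ∈ C.R, C.Z r = C.X r) ∨ ∃ n, τ = .C n) {r b : C.I → ℤ} (hr : r ∈ C.R)
    (hb : IsRoot C.cs C.h b) (hbR : b ∉ C.R) (hbr : form C.cs C.h b r = 0)
    (hbo : ∀ s ∈ C.R, form C.cs C.h s r = 0 → form C.cs C.h b s = 0) :
    τ = .B 3 ∧ ∃ r', Fr C.cs C.h C.X C.R C.Z r r' b ∧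
      ∃ w, r' = r - cpr C.cs C.h r (rep C.cs C.h w b) • rep C.cs C.h w b ∧
        form C.cs C.h r (rep C.cs C.h w b) ≠ 0 := by
  obtain ⟨rfl, r', hr', hrr', hr'1, hr'2, hperp, ⟨w₀, hw₀, hw₀n⟩, s₀, hs₀, hs₀b⟩ :=
    NI.FTwo.Comb.comb C hτ ok hr hb hbR hbr hbo
  have hZX : ∀ s ∈ C.R, C.Z s = C.X s := by
    rcases zx with h1 | ⟨n, h1⟩
    · exact h1
    · exact absurd h1 (by simp)
  exact ⟨rfl, r', ⟨hr', hrr', hb, hbR, hbr, hbo r' hr' hrr', hperp, hZX, X_comm_self C.cls hb hbR hs₀ hs₀b⟩,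
    w₀, hw₀, hw₀n⟩

variable {N : Type*} [Group N] {Om : Set (Subgroup N)} {p : ℕ}

/-- **The chart of type `B₃` over `F₃`** -/
theorem pos3 [Finite N] (C : Chart Om p (⊤ : Subgroup N)) {τ : Nodes.Chart.Ty} (hτ : C.IsTy τ)
    (ok : Cit.KindOk τ) (zx : (∀ r ∈ C.R, C.Z r = C.X r) ∨ ∃ n, τ = .C n) {r b : C.I → ℤ} {J : Subgroup N} {j : N}
    (S : St C.cs C.h p C.T C.X C.R C.Z C.z r J j)
    (hb : IsRoot C.cs C.h b) (hbR : b ∉ C.R) (hbr : form C.cs C.h b r = 0)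
    (hbo : ∀ s ∈ C.R, form C.cs C.h s r = 0 → form C.cs C.h b s = 0)
    (hne : ¬ ∀ q ∈ QQ J j, ∀ u ∈ C.X b, q * u = u * q) :
    ∃ r', PosB3 C (ZMod 3) j (C.z r) J (KK C.Z r) (KK C.Z r') r r' b := by
  have hr := S.mem
  obtain ⟨rfl, r', F, w₀, hw₀, hw₀n⟩ := exists_frame C hτ ok zx hr hb hbR hbr hbo
  obtain ⟨hJb, hcb⟩ := S.eq_LL C.cls F hne
  obtain rfl := S.p_eq C.cls
  have hr' := F.r'_mem
  have hrr' := F.rr'
  have hperp := F.perp
  have hZX := F.zx
  have hbab := F.ab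
  have hbr' := F.br'
  have hzne : ∀ s ∈ C.R, C.z s ≠ 1 := fun s hs => (S.cl s hs).pr.t3.z_ne
  have hzo : ∀ s ∈ C.R, orderOf (C.z s) = 2 := fun s hs => (S.cl s hs).pr.ord
  have hj2 : orderOf j = 2 := S.pr.ord
  have hjcen : ∀ g : N, g * j * g⁻¹ = j := by
    intro g
    rw [S.jc g]; group
  have hj : j ∈ Subgroup.center N := Subgroup.mem_center_iff.2 fun g => S.jc g
  have hKL : ∀ s ∈ C.R, KK C.Z s = LL C.X s := by
    intro s hs
    unfold KK LL
    rw [hZX s hs, hZX _ (Nodes.Perp.neg_mem C.cls hs)]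
  -- the product of the involutions
  have hzp : C.z r * C.z r' = j := by
    obtain ⟨k, hk⟩ := exists_rp C.cs C.cls.rgd.nsys w₀
    have hs : rep C.cs C.h w₀⁻¹ r ∈ C.R := C.cls.act r hr _
    have h1 : form C.cs C.h (rep C.cs C.h w₀⁻¹ r) b ≠ 0 := by
      rw [form_rep_left, inv_inv]; exact hw₀n
    have h2 := zprod C.cls hb hbR hs h1 (j := j)
      (fun x _ => (S.jc x).symm)
      (fun t ht htt ht1 => by
        rw [← hJb] at ht
        rcases S.pr.t3.cases t ht with h5 | h5 | h5 | h5 | h5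
        · exact absurd (h5.symm.trans htt) S.pr.t3.z_ne
        · exact absurd h5 ht1
        · exact h5
        · rw [htt, one_mul] at h5; exact absurd h5 ht1
        · rw [htt, one_mul] at h5; exact h5)
    have h3 : rep C.cs C.h w₀⁻¹ r - cpr C.cs C.h (rep C.cs C.h w₀⁻¹ r) b • b = rep C.cs C.h w₀⁻¹ r' := by
      have h4 : cpr C.cs C.h (rep C.cs C.h w₀⁻¹ r) b = cpr C.cs C.h r (rep C.cs C.h w₀ b) := by
        have h5 := cpr_rep C.cs C.h w₀ (rep C.cs C.h w₀⁻¹ r) hb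
        rw [rep_apply_inv] at h5
        exact h5.symm
      rw [h4, hw₀, map_sub, map_smul, rep_inv_apply]
    rw [h3] at h2
    have h4 := congrArg (fun x => k * x * k⁻¹) h2
    simp only [hjcen] at h4
    rw [← h4]
    have h5 := Nodes.ClsNorm.conj_z C.cls hk hs
    have h6 := Nodes.ClsNorm.conj_z C.cls hk (C.cls.act r' hr' w₀⁻¹)
    rw [rep_apply_inv] at h5 h6
    rw [← h5, ← h6]; group
  have hzz' : C.z r * C.z r = 1 := C.cls.z_sq r hr
  have hzr' : C.z r' = j * C.z r := by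
    have h1 : C.z r' = C.z r * j := by rw [← hzp, ← mul_assoc, hzz', one_mul]
    rw [h1, S.jc]
  -- all roots outside `R` are conjugate to `b`
  have hshort : ∀ y, IsRoot C.cs C.h y → y ∉ C.R → ∃ w, y = rep C.cs C.h w b := by
    intro y hy hyR
    rcases NI.FTwo.Comb.comb_short C hτ hb hbR hy hyR with rfl | rfl | ⟨s, hs, rfl⟩
    · exact ⟨1, by rw [map_one, Module.End.one_apply]⟩
    · obtain ⟨w, hw⟩ := exists_refl_rep (cs := C.cs) (h := C.h) hb
      refine ⟨w, ?_⟩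
      rw [hw, cpr_self C.cs C.h hb]; module
    · obtain ⟨w, hw⟩ := exists_refl_rep (cs := C.cs) (h := C.h) (C.cls.root s hs)
      exact ⟨w, (hw b).symm⟩
  have hXR : ∀ s ∈ C.R, ∀ a ∈ C.X s, ∀ a' ∈ C.X s, a * a' = a' * a := by
    intro s hs a ha a' ha'
    refine C.cls.cent s hs s (C.cls.root s hs) ?_ a ha a' (by rw [hZX s hs]; exact ha')
    exact (form_pos C.cs C.h (C.cls.root s hs).ne_zero).le
  have hcR : ∀ s ∈ C.R, Nat.card (C.X s) = 3 := by
    intro s hs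
    rw [← hZX s hs]
    exact S.card_Z C.cls hs
  refine ⟨r', ?_⟩
  refine
    { ty := hτ
      odd := by rw [ZMod.card]; decide
      charP := inferInstance
      r_mem := hr
      r'_mem := hr'
      b_root := hb
      b_not := hbR
      rr' := by rw [form_comm]; exact hrr'
      br := hbr
      br' := hbr'
      perp := hperp
      short := fun y hy hyR => NI.FTwo.Comb.comb_short C hτ hb hbR hy hyR
      zx := hZX
      sl := ?_
      card := ?_
      comm := ?_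
      A_eq := hJb
      B_eq := hKL r hr
      A'_eq := hKL r' hr'
      zr := rfl
      zr' := hzr'
      zz := ?_
      c_mem := ?_
      c_center := hj
      c_order := hj2
      d_order := hzo r hr }
  · intro y hy
    by_cases hyR : y ∈ C.R
    · rw [← hKL y hyR]; exact (S.cl y hyR).pr.iso
    · obtain ⟨w, rfl⟩ := hshort y hy hyR
      obtain ⟨k, hk⟩ := exists_rp C.cs C.cls.rgd.nsys w
      rw [← cj_LL C.cls.rgd hk hb, ← hJb]
      exact (S.pr.cj k).iso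
  · intro y hy
    rw [ZMod.card]
    by_cases hyR : y ∈ C.R
    · exact hcR y hyR
    · obtain ⟨w, rfl⟩ := hshort y hy hyR
      obtain ⟨k, hk⟩ := exists_rp C.cs C.cls.rgd.nsys w
      rw [← C.cls.rgd.conj_rp hk hb]
      exact (Subgroup.card_map_of_injective (MulAut.conj k).injective).trans hcb
  · intro y hy
    by_cases hyR : y ∈ C.R
    · exact hXR y hyR
    · obtain ⟨w, rfl⟩ := hshort y hy hyR
      obtain ⟨k, hk⟩ := exists_rp C.cs C.cls.rgd.nsys w
      rw [← C.cls.rgd.conj_rp hk hb]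
      exact (commute_cj k).2 hbab
  · intro s hs s' hs' hss'
    obtain ⟨w, rfl⟩ := C.trans r hr s hs
    obtain ⟨k, hk⟩ := exists_rp C.cs C.cls.rgd.nsys w
    have h1 : rep C.cs C.h w⁻¹ s' ∈ C.R := C.cls.act s' hs' _
    have h2 : form C.cs C.h (rep C.cs C.h w⁻¹ s') r = 0 := by
      rw [form_rep_left, inv_inv, form_comm]; exact hss'
    have h3 : C.z (rep C.cs C.h w⁻¹ s') = C.z r' := by
      rcases hperp _ (C.cls.root _ h1) h2 with h4 | h4 | h4 | h4
      · rw [h4]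
      · rw [h4, C.cls.z_neg r' hr']
      · exact absurd (h4 ▸ h1) hbR
      · exact absurd (by rw [← neg_neg b, ← h4]; exact Nodes.Perp.neg_mem C.cls h1) hbR
    have h5 := Nodes.ClsNorm.conj_z C.cls hk hr
    have h6 := Nodes.ClsNorm.conj_z C.cls hk h1
    rw [rep_apply_inv, h3] at h6
    rw [← h5, ← h6]
    calc k * C.z r * k⁻¹ * (k * C.z r' * k⁻¹) = k * (C.z r * C.z r') * k⁻¹ := by group
      _ = j := by rw [hzp, hjcen]
  · intro y hy hyR
    obtain ⟨w, rfl⟩ := hshort y hy hyR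
    obtain ⟨k, hk⟩ := exists_rp C.cs C.cls.rgd.nsys w
    rw [← cj_LL C.cls.rgd hk hb, ← hJb, ← hjcen k]
    exact conj_mem_cj.2 S.pr.mem

end Cfsg.Agent.OddHalf.NI3.FThree
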