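import Cfsg.Agent.OddHalf.NI3.FThree.StOf
import Cfsg.Agent.OddHalf.NI3.FThree.Pos
import Cfsg.Agent.OddHalf.NI3.FThree.Kinds
import Cfsg.Agent.OddHalf.NI.FTwo.Entry
import Cfsg.Agent.OddHalf.NI.FTwo.CjTop

/-!
# (F2'₃): the assembly

`SmallFalse` : the pieces without a chart of rank at least two do not occur (file `C3.lean`).
* `F23a` (ambient) : `J ≤ D`;
* `F23b` (intrinsic) : the chart of type `B₃` over `F₃`.
-/

set_option autoImplicit false
set_option linter.unusedSectionVars false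
set_option linter.dupNamespace false

namespace Cfsg.Agent.OddHalf.NI3.FThree

open Cfsg
open CoxeterSystem Cfsg.Agent.ChevalleyStructure.CoxeterGeom Cfsg.Agent.Tits.Roots Cfsg.Agent.Tits.Core
  Cfsg.Agent.Tits.RootComb Cfsg.Agent.Nodes.Comb Cfsg.Agent.Nodes.Reps Cfsg.Agent.Nodes.BNOf
  Cfsg.Agent.Nodes.RGDLib Cfsg.Agent.Nodes.Chart Cfsg.Agent.Nodes.Coroot Cfsg.Agent.Nodes.FreeTorus
  Cfsg.Agent.Nodes.SubComb Cfsg.Agent.Nodes.Bruhat Cfsg.Agent.Nodes.StabComb Cfsg.Agent.Nodes.Perp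
  Cfsg.Agent.Nodes.Sub Cfsg.Agent.Nodes.ClsSub
open Cfsg.Agent.Cit (pc cls self_mem_cls TStmt Piece IsG2D4 zz)
open Cfsg.Agent.SignalizersComponents
open Cfsg.Agent.OddHalf.NI.FTwo (PosB3 ChartB3)

universe u

/-- the pieces without a chart of rank at least two -/
inductive SmallPiece {G : Type*} [Group G] (Om : Set (Subgroup G)) (D : Subgroup G) : Prop
  | chart (nmem : D ∉ Om) (p : ℕ) (c : Chart Om p D) (kind : c.IsTy (.C 1))
      (small : Fintype.card c.I ≤ 2 → IsLieTypeChar p (↥D ⧸ Subgroup.center D))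
      (sl : ∃ (F : Type) (_ : Field F) (_ : Fintype F), CharP F p ∧
        ∀ r ∈ c.R, Nonempty (Matrix.SpecialLinearGroup (Fin 2) F ≃* ↥(c.Z r ⊔ c.Z (-r)))) : SmallPiece Om D
  | exc (p : ℕ) (prime : p.Prime) (odd : p ≠ 2)
      (iso : IsG2D4 p (↥D ⧸ Subgroup.center D)) (ne : ∃ K ∈ Om, K ≤ D)
      (zzc : ∀ K ∈ Om, ∀ J ∈ Om, K ≤ D → J ≤ D → K ≠ J → K ≤ Subgroup.centralizer (J : Set G) →
        ∀ d ∈ D, zz K * zz J * d = d * (zz K * zz J))
      (three : ∀ K ∈ Om, ∀ J ∈ Om, ∀ M ∈ Om, K ≤ D → J ≤ D → M ≤ D → K ≤ Subgroup.centralizer (J : Set G) →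
        K ≤ Subgroup.centralizer (M : Set G) → J ≤ Subgroup.centralizer (M : Set G) → K = J ∨ K = M ∨ J = M) :
      SmallPiece Om D
  | mathieu (iso : Spor.IsoM11 (↥D ⧸ Subgroup.center D)) (ne : ∃ K ∈ Om, K ≤ D)
      (mem : ∀ K ∈ Om, K ≤ D → Cit.SolvTwo.IsT K) : SmallPiece Om D

/-- the small pieces do not occur in (F2'₃) -/
def SmallFalse : Prop :=
  ∀ (H : Type u) [Group H] [Finite H] (x j : H) (J' J : Subgroup H), Sit3 x j J' J →
    SmallPiece (cls J') (pc (cls J') J') → False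

/-- a chart of kind `B₃` with a root group not commuting with `O₂(J)` -/
structure BadChart {H : Type u} [Group H] (x j : H) (J' J D : Subgroup H) where
  C : Chart (cls J') 3 D
  τ : Nodes.Chart.Ty
  ty : C.IsTy τ
  ok : Cit.KindOk τ
  zx : (∀ r ∈ C.R, C.Z r = C.X r) ∨ ∃ n, τ = .C n
  r : C.I → ℤ
  b : C.I → ℤ
  g : H
  hg : g ∈ D
  eJ' : J' = Cit.cj g (KK C.Z r)
  ex : x = g * C.z r * g⁻¹
  st : St C.cs C.h 3 C.T C.X C.R C.Z C.z r (Cit.cj g⁻¹ J) j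
  hb : IsRoot C.cs C.h b
  hbR : b ∉ C.R
  hbr : form C.cs C.h b r = 0
  hbo : ∀ s ∈ C.R, form C.cs C.h s r = 0 → form C.cs C.h b s = 0
  hne : ¬ ∀ q ∈ QQ (Cit.cj g⁻¹ J) j, ∀ u ∈ C.X b, q * u = u * q

/-- the kinds: `B₃` and a bad root -/
theorem bad_of_st {H : Type u} [Group H] [Finite H] {Om : Set (Subgroup H)} {D : Subgroup H} (C : Chart Om 3 D)
    {τ : Nodes.Chart.Ty} (hτ : C.IsTy τ) (ok : Cit.KindOk τ) (hC1 : τ ≠ .C 1)
    (zx : (∀ r ∈ C.R, C.Z r = C.X r) ∨ ∃ n, τ = .C n) {r : C.I → ℤ} {J : Subgroup H} {j : H}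
    (S : St C.cs C.h 3 C.T C.X C.R C.Z C.z r J j) :
    ¬ ∀ q ∈ QQ J j, ∀ x, IsRoot C.cs C.h x → form C.cs C.h x r = 0 → ∀ u ∈ C.X x, q * u = u * q := by
  intro hH
  obtain ⟨a, ha, b, hb, -, -, hab⟩ := QQ_not_comm S.pr
  have hG : GG C.cs C.h C.T C.X = D := Nodes.ChartFrame.GG_eq C
  have h3 : ∀ s ∈ C.R, Nat.card (C.Z s) = 3 := fun s hs => S.card_Z C.cls hs
  by_cases hC : ∃ n, τ = .C n
  · obtain ⟨n, rfl⟩ := hC
    have hn : 2 ≤ n := by
      have h1 : 1 ≤ n := ok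
      have h2 : n ≠ 1 := fun e => hC1 (by rw [e])
      omega
    have hall := comm_of_ne_B3 C hτ ok S (by simp)
    have hJ : J ≤ Subgroup.centralizer (D : Set H) := by
      refine S.pr.le_of_cube fun v hv hv3 => ?_
      rw [Subgroup.mem_centralizer_iff]
      intro d hd
      refine (cent_of_chart C hτ hn h3 S.mem hv3 ?_ (fun y hy => S.comm v hv y hy)
        (fun x hx h0 y hy => hall v hv x hx h0 y hy) d hd).symm
      intro y hy
      have h4 : v ∈ Subgroup.normalizer (GG C.cs C.h C.T C.X : Set H) := S.norm (S.sn.1 hv)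
      rw [hG] at h4
      exact (Subgroup.mem_normalizer_iff.1 h4 y).1 hy
    apply hab
    have h5 : b ∈ D := hG ▸ S.ge hb
    exact (Subgroup.mem_centralizer_iff.1 (hJ (QQ_le ha)) b h5).symm
  · have hZX : ∀ s ∈ C.R, C.Z s = C.X s := zx.resolve_right hC
    apply hab
    exact comm_of_chart C hτ ok (fun n e => hC ⟨n, e⟩) hZX h3 S.mem (Q := QQ J j) (by rw [← hG]; exact S.ge)
      (fun q hq y hy => S.comm q (QQ_le hq) y hy) hH a ha b hb

theorem exists_bad_chart (hT : TStmt.{u}) (hF : SmallFalse.{u}) {H : Type u} [Group H] [Finite H] {x j : H}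
    {J' J : Subgroup H} (S : Sit3 x j J' J) : Nonempty (BadChart x j J' J (pc (cls J') J')) := by
  have nmem : pc (cls J') J' ∉ cls J' := S.cl.pc_notMem S.comp.2
  rcases Cl.piece hT S.core S.cl with hm | ⟨-, -, -, p, C, τ, hτ, ok, small, sl, zx⟩ |
    ⟨-, -, p, prime, odd, iso, ne, zzc, three⟩ | ⟨-, -, iso, ne, mem⟩
  · exact absurd hm nmem
  · by_cases hC1 : τ = .C 1
    · subst hC1
      exact (hF H x j J' J S (.chart nmem p C hτ small sl)).elim
    obtain ⟨r, hr, g, hg, e1, e2, St'⟩ := S.exists_st hT C nmem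
    obtain rfl := St'.p_eq C.cls
    have h1 := bad_of_st C hτ ok hC1 zx St'
    obtain ⟨-, b, hb, hbR, hbr, hbo, hne⟩ := kind_B3 C hτ ok St' h1
    exact ⟨⟨C, τ, hτ, ok, zx, r, b, g, hg, e1, e2, St', hb, hbR, hbr, hbo, hne⟩⟩
  · exact (hF H x j J' J S (.exc p prime odd iso ne zzc three)).elim
  · exact (hF H x j J' J S (.mathieu iso ne mem)).elim

/-- **`J ≤ D`** -/
theorem Sit3.J_le (hT : TStmt.{u}) (hF : SmallFalse.{u}) {H : Type u} [Group H] [Finite H] {x j : H}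
    {J' J : Subgroup H} (S : Sit3 x j J' J) : J ≤ pc (cls J') J' := by
  obtain ⟨B⟩ := exists_bad_chart hT hF S
  have hG : GG B.C.cs B.C.h B.C.T B.C.X = pc (cls J') J' := Nodes.ChartFrame.GG_eq B.C
  obtain ⟨-, r', F, -⟩ := exists_frame B.C B.ty B.ok B.zx B.st.mem B.hb B.hbR B.hbr B.hbo
  obtain ⟨hJb, -⟩ := B.st.eq_LL B.C.cls F B.hne
  have h1 : Cit.cj B.g⁻¹ J ≤ pc (cls J') J' := hJb.le.trans (le_trans
    (sup_le (X_le_GG (T := B.C.T) B.hb) (X_le_GG (T := B.C.T) B.hb.neg)) hG.le)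
  intro y hy
  have h2 : B.g⁻¹ * y * B.g ∈ pc (cls J') J' := by
    have h3 := h1 (Cit.conj_mem_cj (g := B.g⁻¹) hy)
    rwa [inv_inv] at h3
  have h4 := mul_mem (mul_mem B.hg h2) (inv_mem B.hg)
  have h5 : B.g * (B.g⁻¹ * y * B.g) * B.g⁻¹ = y := by group
  rwa [h5] at h4

/-- `J ≠ J'`-independent data: the chart of type `B₃` of a group `N = D` -/
theorem BadChart.chartB3 {N : Type u} [Group N] [Finite N] {x j : N} {J' J : Subgroup N}
    (hOm : Cit.Hyp (cls J')) (B : BadChart x j J' J (⊤ : Subgroup N)) :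
    ∃ T, IsPr T (x * j) ∧ Sn T (Subgroup.centralizer ({x} : Set N)) ∧ ChartB3 (ZMod 3) N j x J J' T := by
  obtain ⟨C, τ, hτ, ok, zx, r, b, g, -, e1, e2, S, hb, hbR, hbr, hbo, hne⟩ := B
  obtain ⟨r', P⟩ := pos3 C hτ ok zx S hb hbR hbr hbo hne
  have hjg : g * j * g⁻¹ = j := by rw [S.jc g]; group
  obtain ⟨C', r1, r1', b1, P'⟩ := NI.FTwo.CjTop.exists_cj hOm.conj P g
  have hcl := S.cl r' P.r'_mem
  have hz : g * C.z r' * g⁻¹ = x * j := by
    rw [P.zr', e2]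
    calc g * (j * C.z r) * g⁻¹ = (g * j * g⁻¹) * (g * C.z r * g⁻¹) := by group
      _ = j * (g * C.z r * g⁻¹) := by rw [hjg]
      _ = (g * C.z r * g⁻¹) * j := (S.jc _).symm
  refine ⟨Cit.cj g (KK C.Z r'), ?_, ?_, cls J', 3, C', r1, r1', b1, hOm, ?_⟩
  · rw [← hz]
    exact hcl.pr.cj g
  · have h1 := hcl.sn.cj g
    rw [Cit.cj_centralizer, hz] at h1
    have h2 : Subgroup.centralizer ({x * j} : Set N) = Subgroup.centralizer ({x} : Set N) := by
      ext y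
      rw [Subgroup.mem_centralizer_singleton_iff, Subgroup.mem_centralizer_singleton_iff]
      have h3 : y * (x * j) = (y * x) * j := by group
      have h4 : (x * j) * y = (x * y) * j := by rw [mul_assoc, ← S.jc y]; group
      rw [h3, h4]
      exact mul_left_inj j
    rwa [h2] at h1
  · rw [hjg] at P'
    have h5 : Nodes.Reps.cj g (Cit.cj g⁻¹ J) = J := Cit.cj_cj_inv g J
    have h6 : Nodes.Reps.cj g (KK C.Z r) = J' := e1.symm
    rw [h5, h6, ← e2] at P'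
    exact P'

end Cfsg.Agent.OddHalf.NI3.FThree
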