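import Cfsg.Agent.OddHalf.NI3.Step
import Cfsg.Agent.Cit.SLThreeComm
import Cfsg.Agent.Lib.LocalCore
import Cfsg.Agent.Lib.ThompsonPQ
import Cfsg.Agent.SignalizersComponents.MinCounterBasic

/-!
# (F2'₃): the quaternion subgroup of a subgroup isomorphic to `SL₂(3)`

`QQ J z = O₂(J)` for `J ≅ SL₂(3)` with involution `z` (`IsPr J z`).
* `le_normalizer_of_sn` : a 2-subgroup of `C` normalised by the subnormal subgroup `J` of `C` normalises `J`;
* `eq_or_comm` : two subnormal subgroups of `C` isomorphic to `SL₂(3)` with the same involution, central in `C`, are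
  equal or commute (`O(C) = 1`);
* `comm_of_QQ` : a subgroup of `C` commuting with `O₂(J)` commutes with `J`.
-/

set_option autoImplicit false
set_option linter.unusedSectionVars false

namespace Cfsg.Agent.OddHalf.NI3.FThree

open Subgroup Cfsg Cfsg.Agent.Cit Cfsg.Agent.Cit.SolvTwo

variable {G : Type*} [Group G]

/-- `O₂(J)` for `J ≅ SL₂(3)` with involution `z` -/
def QQ (J : Subgroup G) (z : G) : Subgroup G := closure {y | y ∈ J ∧ y * y = z}

/-- `O₂(A)` as a subgroup of `G` -/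
def P2 (A : Subgroup G) : Subgroup G := (pCore 2 A).map A.subtype

theorem P2_le (A : Subgroup G) : P2 A ≤ A := map_subtype_le _

theorem P2_pgrp (A : Subgroup G) : IsPGroup 2 (P2 A) := Lib.LocalCore.isPGroup_map_pCore 2 A

theorem normalizer_le_normalizer_P2 (A : Subgroup G) : normalizer (A : Set G) ≤ normalizer (P2 A : Set G) :=
  SignalizersComponents.MinCounterBasic.normalizer_le_normalizer_map _ (Lib.Cores.pCore_characteristic 2)

theorem le_normalizer_P2 (A : Subgroup G) : A ≤ normalizer (P2 A : Set G) :=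
  Subgroup.le_normalizer.trans (normalizer_le_normalizer_P2 A)

theorem le_P2 {A P : Subgroup G} (hs : Sn P A) (hP : IsPGroup 2 P) : P ≤ P2 A := by
  have h1 : P.subgroupOf A ≤ pCore 2 A :=
    SignalizersComponents.CompBasic.subnormal_pGroup_le_pCore hs.2 (hP.comap_subtype)
  have h2 := map_mono (f := A.subtype) h1
  rwa [map_subgroupOf_eq_of_le hs.1] at h2

/-- an element of a 2-group which is killed by a 3-power -/
theorem eq_one_of_two_three {P : Subgroup G} (hP : IsPGroup 2 P) {x : G} (hx : x ∈ P) {p : ℕ} (hp : p.Prime)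
    (hp2 : p ≠ 2) {k : ℕ} (hk : x ^ p ^ k = 1) : x = 1 := by
  obtain ⟨n, hn⟩ := hP ⟨x, hx⟩
  have h1 : x ^ 2 ^ n = 1 := by simpa using congrArg Subtype.val hn
  have h2 := Nat.dvd_gcd (orderOf_dvd_of_pow_eq_one h1) (orderOf_dvd_of_pow_eq_one hk)
  have h3 : Nat.Coprime (2 ^ n) (p ^ k) :=
    Nat.Coprime.pow _ _ ((Nat.coprime_primes Nat.prime_two hp).2 (Ne.symm hp2))
  rw [h3, Nat.dvd_one, orderOf_eq_one_iff] at h2
  exact h2

section

variable {J : Subgroup G} {z : G}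

theorem QQ_le : QQ J z ≤ J := (closure_le _).2 fun _ hy => hy.1

theorem mem_QQ {y : G} (hy : y ∈ J) (h : y * y = z) : y ∈ QQ J z := subset_closure ⟨hy, h⟩

/-- `QQ J z` in coordinates -/
theorem QQ_eq {i k d : G} (h : SLThree.Sl J z i k d) : QQ J z = closure {i, k} := by
  apply le_antisymm
  · rw [QQ, closure_le]
    rintro y ⟨hy, hyz⟩
    have hz : z ∈ closure ({i, k} : Set G) := h.q.mem_z
    obtain ⟨q, hq, h1⟩ := h.mem_cases hy
    have hd : d ∉ closure ({i, k} : Set G) := by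
      intro hd
      obtain ⟨n, hn⟩ := h.q.isPGroup ⟨d, hd⟩
      exact h.d_ne (SLThree.Sl.eq_one_of_cube h.d3 (n := n) (by simpa using congrArg Subtype.val hn))
    have hdd : d * d ∉ closure ({i, k} : Set G) := by
      intro h2
      apply hd
      have h3 : d = (d * d) * (d * d) := by
        rw [← mul_assoc, h.d3, one_mul]
      rw [h3]; exact mul_mem h2 h2
    rcases h1 with rfl | rfl | rfl
    · exact hq
    · exfalso
      apply hdd
      have h2 : d * d = (q * (d * q * d⁻¹))⁻¹ * ((q * d) * (q * d)) := by group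
      rw [h2, hyz]
      exact mul_mem (inv_mem (mul_mem hq (h.conj_mem hq))) hz
    · exfalso
      apply hd
      have h2 : d = (q * (d * (d * q * d⁻¹) * d⁻¹))⁻¹ * ((q * (d * d)) * (q * (d * d))) := by
        have h3 : (q * (d * (d * q * d⁻¹) * d⁻¹))⁻¹ * ((q * (d * d)) * (q * (d * d))) = d ^ 4 := by group
        rw [h3, pow_succ, pow_succ, pow_succ, pow_one, h.d3, one_mul]
      rw [h2, hyz]
      exact mul_mem (inv_mem (mul_mem hq (h.conj_mem (h.conj_mem hq)))) hz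
  · rw [closure_le]
    rintro y (rfl | rfl)
    · exact mem_QQ h.hi h.q.i2
    · exact mem_QQ h.hj h.q.j2

theorem QQ_pgrp (h : IsPr J z) : IsPGroup 2 (QQ J z) := by
  obtain ⟨i, k, d, hl⟩ := h.sl
  rw [QQ_eq hl]; exact hl.q.isPGroup

theorem mem_z_QQ (h : IsPr J z) : z ∈ QQ J z := by
  obtain ⟨i, k, d, hl⟩ := h.sl
  rw [QQ_eq hl]; exact hl.q.mem_z

theorem QQ_cases (h : IsPr J z) {x : G} (hx : x ∈ QQ J z) : x * x = z ∨ x = 1 ∨ x = z := by
  obtain ⟨n, hn⟩ := QQ_pgrp h ⟨x, hx⟩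
  exact h.t3.cases_two (QQ_le hx) (n := n) (by simpa using congrArg Subtype.val hn)

/-- the 2-elements of `J` -/
theorem mem_QQ_of_two (h : IsPr J z) {P : Subgroup G} (hP : IsPGroup 2 P) {x : G} (hx : x ∈ J) (hxP : x ∈ P) :
    x ∈ QQ J z := by
  obtain ⟨n, hn⟩ := hP ⟨x, hxP⟩
  rcases h.t3.cases_two hx (n := n) (by simpa using congrArg Subtype.val hn) with h1 | h1 | h1
  · exact mem_QQ hx h1
  · rw [h1]; exact one_mem _
  · rw [h1]; exact mem_z_QQ h

theorem QQ_not_comm (h : IsPr J z) : ∃ x ∈ QQ J z, ∃ y ∈ QQ J z, x * x = z ∧ y * y = z ∧ x * y ≠ y * x := by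
  obtain ⟨x, hx, y, hy, h1, h2, h3⟩ := h.t3.ex4
  exact ⟨x, mem_QQ hx h1, y, mem_QQ hy h2, h1, h2, h3⟩

theorem normalizer_QQ {n : G} (hn : n ∈ normalizer (J : Set G)) (hz : n * z = z * n) :
    n ∈ normalizer (QQ J z : Set G) := by
  rw [mem_normalizer_iff_cj, cj_def, QQ, MonoidHom.map_closure]
  congr 1
  ext y
  constructor
  · rintro ⟨x, ⟨hx, hxz⟩, rfl⟩
    refine ⟨(mem_normalizer_iff.1 hn x).1 hx, ?_⟩
    show n * x * n⁻¹ * (n * x * n⁻¹) = z
    calc n * x * n⁻¹ * (n * x * n⁻¹) = n * (x * x) * n⁻¹ := by group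
      _ = z := by rw [hxz, hz]; group
  · rintro ⟨hy, hyz⟩
    refine ⟨n⁻¹ * y * n, ⟨?_, ?_⟩, ?_⟩
    · have := (mem_normalizer_iff.1 (inv_mem hn) y).1 hy
      rwa [inv_inv] at this
    · calc n⁻¹ * y * n * (n⁻¹ * y * n) = n⁻¹ * (y * y) * n := by group
        _ = z := by rw [hyz, mul_assoc, ← hz]; group
    · show n * (n⁻¹ * y * n) * n⁻¹ = y
      group

theorem le_normalizer_QQ (h : IsPr J z) : J ≤ normalizer (QQ J z : Set G) := fun _ hn =>
  normalizer_QQ (le_normalizer hn) (h.comm_z hn)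

theorem QQ_sn (h : IsPr J z) {C : Subgroup G} (hs : Sn J C) : Sn (QQ J z) C :=
  (Sn.of_normal QQ_le (le_normalizer_QQ h)).trans hs

theorem QQ_le_P2 (h : IsPr J z) {C : Subgroup G} (hs : Sn J C) : QQ J z ≤ P2 C := le_P2 (QQ_sn h hs) (QQ_pgrp h)

theorem QQ_cj {g : G} (hz : g * z = z * g) : QQ (cj g J) z = cj g (QQ J z) := by
  rw [QQ, QQ, cj_def g (closure _), MonoidHom.map_closure]
  congr 1
  ext y
  constructor
  · rintro ⟨hy, hyz⟩
    rw [mem_cj] at hy
    refine ⟨g⁻¹ * y * g, ⟨hy, ?_⟩, ?_⟩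
    · calc g⁻¹ * y * g * (g⁻¹ * y * g) = g⁻¹ * (y * y) * g := by group
        _ = z := by rw [hyz, mul_assoc, ← hz]; group
    · show g * (g⁻¹ * y * g) * g⁻¹ = y
      group
  · rintro ⟨x, ⟨hx, hxz⟩, rfl⟩
    refine ⟨conj_mem_cj hx, ?_⟩
    show g * x * g⁻¹ * (g * x * g⁻¹) = z
    calc g * x * g⁻¹ * (g * x * g⁻¹) = g * (x * x) * g⁻¹ := by group
      _ = z := by rw [hxz, hz]; group

/-- a 2-subgroup of `C` normalised by the subnormal subgroup `J` normalises `J` -/
theorem le_normalizer_of_sn [Finite G] (h : IsPr J z) {C P : Subgroup G} (hs : Sn J C) (hPC : P ≤ C)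
    (hP : IsPGroup 2 P) (hn : J ≤ normalizer (P : Set G)) : P ≤ normalizer (J : Set G) := by
  have hs' : Sn J (J ⊔ P) := hs.restrict (sup_le hs.1 hPC) le_sup_left
  have key : ∀ w ∈ P, J ≤ cj w J := by
    intro w hw
    refine h.le_of_cube fun v hv h3 => ?_
    rw [mem_cj]
    refine mem_of_sup hs' hP hn ?_ ?_
    · exact mul_mem (mul_mem (inv_mem (mem_sup_right hw)) (mem_sup_left hv)) (mem_sup_right hw)
    · have h4 : orderOf (w⁻¹ * v * w) = orderOf v := by
        have := orderOf_injective (MulAut.conj w⁻¹).toMonoidHom (MulAut.conj w⁻¹).injective v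
        simpa using this
      rw [h4]; exact odd_of_cube h3
  intro w hw
  rw [mem_normalizer_iff_cj]
  refine le_antisymm ?_ (key w hw)
  have h1 := cj_mono w (key w⁻¹ (inv_mem hw))
  rwa [cj_cj_inv] at h1

/-- **equal or commuting** -/
theorem eq_or_comm [Finite G] {C M : Subgroup G} (hO : pPrimeCore 2 C = ⊥) (hz : ∀ x ∈ C, x * z = z * x)
    (h : SLThree.IsSl J z) (h' : SLThree.IsSl M z) (hs : Sn J C) (hs' : Sn M C) :
    J = M ∨ ∀ x ∈ J, ∀ y ∈ M, x * y = y * x := by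
  obtain ⟨z₁, hz₁, h1⟩ := h.subgroupOf hs.1
  obtain ⟨z₂, hz₂, h2⟩ := h'.subgroupOf hs'.1
  have hzz : z₂ = z₁ := Subtype.ext (hz₂.trans hz₁.symm)
  rw [hzz] at h2
  rcases SLThree.eq_or_cm (X := ↥C) hO (z := z₁) (fun x => Subtype.ext (by
    show (x : G) * z₁ = z₁ * x
    rw [hz₁]; exact hz x x.2)) h1 h2 hs.2 hs'.2 with h3 | h3
  · left
    have h4 := congrArg (Subgroup.map C.subtype) h3
    rwa [map_subgroupOf_eq_of_le hs.1, map_subgroupOf_eq_of_le hs'.1] at h4
  · right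
    intro x hx y hy
    exact congrArg Subtype.val (h3 ⟨x, hs.1 hx⟩ hx ⟨y, hs'.1 hy⟩ hy)

/-- two conjugates with non-commuting common elements are equal -/
theorem mem_normalizer_of_comm_QQ [Finite G] {C : Subgroup G} (hO : pPrimeCore 2 C = ⊥)
    (hz : ∀ x ∈ C, x * z = z * x) (h : IsPr J z) (hs : Sn J C) {g : G} (hg : g ∈ C)
    (hc : ∀ a ∈ QQ J z, g * a = a * g) : g ∈ normalizer (J : Set G) := by
  have h1 : SLThree.IsSl (cj g J) z := by
    have h2 := (show SLThree.IsSl J z from h.sl).cj g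
    have h3 : g * z * g⁻¹ = z := by rw [hz g hg]; group
    rwa [h3] at h2
  have h2 : Sn (cj g J) C := by
    have := hs.cj g
    rwa [mem_normalizer_iff_cj.1 (Subgroup.le_normalizer hg)] at this
  rw [mem_normalizer_iff_cj]
  rcases eq_or_comm hO hz h.sl h1 hs h2 with h3 | h3
  · exact h3.symm
  · exfalso
    obtain ⟨x, hx, y, hy, -, -, hxy⟩ := QQ_not_comm h
    apply hxy
    refine h3 x (QQ_le hx) y ?_
    have h4 : y = g * y * g⁻¹ := by rw [hc y hy]; group
    rw [h4]; exact conj_mem_cj (QQ_le hy)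

/-- **a subgroup of `C` commuting with `O₂(J)` commutes with `J`** -/
theorem comm_of_QQ [Finite G] {C : Subgroup G} (hO : pPrimeCore 2 C = ⊥)
    (hz : ∀ x ∈ C, x * z = z * x) (h : IsPr J z) (hs : Sn J C) {g : G} (hg : g ∈ C)
    (hc : ∀ a ∈ QQ J z, g * a = a * g) : ∀ x ∈ J, g * x = x * g :=
  h.t3.comm (fun _ hx => h.comm_z hx) (mem_normalizer_of_comm_QQ hO hz h hs hg hc)
    fun y hy hyz => hc y (mem_QQ hy hyz)

end

end Cfsg.Agent.OddHalf.NI3.FThree
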