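import Cfsg.Agent.OddHalf.NI3.FThree.Quat
import Cfsg.Agent.OddHalf.NI.FTwo.LeviOne
import Cfsg.Agent.OddHalf.NI.FTwo.Levi

/-!
# (F2'₃): normal 2-subgroups of rank one groups in characteristic 3

* `two` : `R1 3 B U n`, `N` a normal 2-subgroup not commuting with `U`: `|U| = 3`, `Y = N B`, `4 |N ∩ B| = |N|`;
* `cent` : an element of `N` commuting with `U` commutes with `n U n⁻¹`;
* `r1_root` : the rank one structure of `T ⟨X b, X (-b)⟩` for all roots `b` with `X b` abelian.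
-/

set_option autoImplicit false
set_option linter.unusedSectionVars false
set_option linter.dupNamespace false

namespace Cfsg.Agent.OddHalf.NI3.FThree

open Cfsg
open Cfsg.Agent.OddHalf.NI.FTwo (R1)

theorem three_pow_mod (l : ℕ) : 3 ^ l % 8 = 1 ∨ 3 ^ l % 8 = 3 := by
  induction l with
  | zero => left; rfl
  | succ l ih => rw [pow_succ]; omega

/-- `1 + 3 ^ l = 2 ^ k` only for `3 ^ l = 1, 3` -/
theorem three_pow_eq {l k : ℕ} (h : 1 + 3 ^ l = 2 ^ k) (hl : 3 ^ l ≠ 1) : 3 ^ l = 3 := by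
  have h1 := three_pow_mod l
  rcases Nat.lt_or_ge k 3 with hk | hk
  · interval_cases k <;> omega
  · exfalso
    obtain ⟨m, rfl⟩ := Nat.exists_eq_add_of_le hk
    rw [pow_add] at h
    omega

section

variable {Y : Type*} [Group Y] {B U : Subgroup Y} {nn : Y}

theorem notMem_nn {p : ℕ} (H : R1 p B U nn) (hU : U ≠ ⊥) : nn ∉ B := by
  intro hn
  apply hU
  rw [Subgroup.eq_bot_iff_forall]
  exact fun x hx => H.inj x hx (mul_mem (mul_mem (inv_mem hn) (H.le hx)) hn)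

theorem inf_eq_bot {U N : Subgroup Y} (hU : IsPGroup 3 U) (hN : IsPGroup 2 N) {x : Y} (hx : x ∈ U) (hxN : x ∈ N) :
    x = 1 := by
  obtain ⟨k, hk⟩ := hU ⟨x, hx⟩
  exact eq_one_of_two_three hN hxN Nat.prime_three (by norm_num) (k := k) (by simpa using congrArg Subtype.val hk)

/-- elements of `N` normalising `U` centralise `U` -/
theorem comm_of_normalizes {U N : Subgroup Y} (hU : IsPGroup 3 U) (hN : IsPGroup 2 N)
    (hUN : U ≤ Subgroup.normalizer (N : Set Y)) {t : Y} (ht : t ∈ N) (htU : t ∈ Subgroup.normalizer (U : Set Y)) :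
    ∀ u ∈ U, t * u = u * t := by
  intro u hu
  have h1 : t * u * t⁻¹ * u⁻¹ ∈ U := mul_mem ((Subgroup.mem_normalizer_iff.1 htU u).1 hu) (inv_mem hu)
  have h2 : t * u * t⁻¹ * u⁻¹ ∈ N := by
    have h3 : t * u * t⁻¹ * u⁻¹ = t * (u * t⁻¹ * u⁻¹) := by group
    rw [h3]
    exact mul_mem ht ((Subgroup.mem_normalizer_iff.1 (hUN hu) _).1 (inv_mem ht))
  have h3 := inf_eq_bot hU hN h1 h2
  rw [mul_inv_eq_one, mul_inv_eq_iff_eq_mul] at h3
  exact h3

theorem two [Finite Y] (H : R1 3 B U nn) {N : Subgroup Y} (hN : N.Normal) (h2 : IsPGroup 2 N)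
    (hne : ¬ ∀ x ∈ N, ∀ y ∈ U, x * y = y * x) :
    (∀ g : Y, ∃ m ∈ N, m⁻¹ * g ∈ B) ∧ Nat.card U = 3 ∧ 4 * Nat.card (N ⊓ B : Subgroup Y) = Nat.card N := by
  have : Fact (Nat.Prime 2) := ⟨Nat.prime_two⟩
  have : Fact (Nat.Prime 3) := ⟨Nat.prime_three⟩
  have hUN : U ≤ Subgroup.normalizer (N : Set Y) := by rw [Subgroup.normalizer_eq_top_iff.2 hN]; exact le_top
  have hUb : U ≠ ⊥ := by
    rintro rfl
    apply hne
    intro x _ y hy
    rw [Subgroup.mem_bot.1 hy, mul_one, one_mul]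
  obtain ⟨m₀, hm₀, hm₀B⟩ : ∃ m ∈ N, m ∉ B := by
    by_contra hcon
    push Not at hcon
    exact hne fun x hx y hy => comm_of_normalizes H.pgrp h2 hUN hx (H.norm (hcon x hx)) y hy
  -- `nn ∈ N B`
  have hnn : ∃ m ∈ N, ∃ b ∈ B, nn = m * b := by
    rcases H.cases m₀ with h1 | ⟨u, hu, b, hb, e⟩
    · exact absurd h1 hm₀B
    · refine ⟨u⁻¹ * m₀ * u⁻¹⁻¹, hN.conj_mem _ hm₀ _, u⁻¹ * b⁻¹, mul_mem (inv_mem (H.le hu)) (inv_mem hb), ?_⟩
      rw [e]; group
  have hall : ∀ g : Y, ∃ m ∈ N, m⁻¹ * g ∈ B := by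
    intro g
    rcases H.cases g with h1 | ⟨u, hu, b, hb, rfl⟩
    · exact ⟨1, one_mem _, by simpa using h1⟩
    · obtain ⟨m, hm, c, hc, e⟩ := hnn
      refine ⟨u * m * u⁻¹, hN.conj_mem _ hm _, ?_⟩
      rw [e]
      have : (u * m * u⁻¹)⁻¹ * (u * (m * c) * b) = u * c * b := by group
      rw [this]
      exact mul_mem (mul_mem (H.le hu) hc) hb
  have htop : N ⊔ B = ⊤ := by
    rw [eq_top_iff]
    intro g _
    obtain ⟨m, hm, hg⟩ := hall g
    have : g = m * (m⁻¹ * g) := by group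
    rw [this]
    exact mul_mem (Subgroup.mem_sup_left hm) (Subgroup.mem_sup_right hg)
  have hindex : B.index * Nat.card (N ⊓ B : Subgroup Y) = Nat.card N := by
    have h1 : N.relIndex (B ⊔ N) = N.relIndex B := Subgroup.relIndex_sup_right B N
    rw [sup_comm, htop, Subgroup.relIndex_top_right] at h1
    have h2 : Nat.card N * N.index = Nat.card Y := Subgroup.card_mul_index N
    have h3 : Nat.card B * B.index = Nat.card Y := Subgroup.card_mul_index B
    have h4 : Nat.card (N ⊓ B : Subgroup Y) * N.relIndex B = Nat.card B := by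
      rw [← Subgroup.inf_relIndex_right]
      have h5 : Nat.card ((N ⊓ B).subgroupOf B) = Nat.card (N ⊓ B : Subgroup Y) :=
        Nat.card_congr (Subgroup.subgroupOfEquivOfLe inf_le_right).toEquiv
      rw [← h5, Subgroup.relIndex]
      exact Subgroup.card_mul_index _
    have h5 : 0 < N.relIndex B := Nat.pos_of_ne_zero (Subgroup.index_ne_zero_of_finite (H := N.subgroupOf B))
    rw [h1] at h2
    have h6 : (B.index * Nat.card (N ⊓ B : Subgroup Y)) * N.relIndex B = Nat.card N * N.relIndex B := by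
      rw [h2, ← h3, ← h4]; ring
    exact Nat.eq_of_mul_eq_mul_right h5 h6
  rw [H.card_quotient hUb] at hindex
  obtain ⟨m, hm⟩ := IsPGroup.iff_card.1 h2
  obtain ⟨l, hl⟩ := IsPGroup.iff_card.1 H.pgrp
  have h3 : 1 + 3 ^ l ∣ 2 ^ m := by rw [← hl, ← hm]; exact Dvd.intro _ hindex
  obtain ⟨k, -, hk⟩ := (Nat.dvd_prime_pow Nat.prime_two).1 h3
  have h4 : 3 ^ l ≠ 1 := by
    rw [← hl]
    intro h5
    exact hUb (Subgroup.eq_bot_of_card_eq _ h5)
  have h5 := three_pow_eq hk h4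
  rw [hl, h5] at hindex
  exact ⟨hall, by rw [hl, h5], hindex⟩

/-- the element `g` normalises `U` only if `g ∈ B` -/
theorem mem_B_of_normalizes {p : ℕ} (H : R1 p B U nn) (hU : U ≠ ⊥) {g : Y}
    (hg : g ∈ Subgroup.normalizer (U : Set Y)) : g ∈ B := by
  obtain ⟨x, hx, hx1⟩ : ∃ x ∈ U, x ≠ 1 := by
    by_contra h0
    push Not at h0
    exact hU ((Subgroup.eq_bot_iff_forall _).2 h0)
  exact H.ti hx hx1 ((Subgroup.mem_normalizer_iff.1 hg x).1 hx)

/-- an element of the normal 2-subgroup `N` commuting with `U` commutes with `n U n⁻¹` -/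
theorem cent (H : R1 3 B U nn) (hUb : U ≠ ⊥) {N : Subgroup Y} (hN : N.Normal) (h2 : IsPGroup 2 N) {t : Y}
    (ht : t ∈ N) (htU : ∀ u ∈ U, t * u = u * t) : ∀ u ∈ U, t * (nn * u * nn⁻¹) = (nn * u * nn⁻¹) * t := by
  have htB : t ∈ B := by
    refine mem_B_of_normalizes H hUb ?_
    rw [Subgroup.mem_normalizer_iff]
    intro x
    constructor
    · intro hx
      rw [htU x hx, mul_assoc, mul_inv_cancel, mul_one]; exact hx
    · intro hx
      have h3 := htU _ hx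
      have h4 : x = t * x * t⁻¹ := by
        have h5 : t * (t * x * t⁻¹) = t * x := by rw [h3]; group
        exact (mul_left_cancel h5).symm
      rw [h4]; exact hx
  -- `t nn = u' nn b`
  obtain ⟨u', hu', b, hb, e⟩ : ∃ u ∈ U, ∃ b ∈ B, t * nn = u * nn * b := by
    rcases H.cases (t * nn) with h1 | h1
    · exfalso
      apply notMem_nn H hUb
      have : nn = t⁻¹ * (t * nn) := by group
      rw [this]; exact mul_mem (inv_mem htB) h1
    · exact h1
  -- `s = u'⁻¹ t`, `nn⁻¹ s nn ∈ B`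
  have hs : nn⁻¹ * (u'⁻¹ * t) * nn ∈ B := by
    have : nn⁻¹ * (u'⁻¹ * t) * nn = nn⁻¹ * u'⁻¹ * (t * nn) := by group
    rw [this, e]
    have : nn⁻¹ * u'⁻¹ * (u' * nn * b) = b := by group
    rw [this]; exact hb
  obtain ⟨m, hm⟩ := h2 ⟨t, ht⟩
  have hm' : t ^ 2 ^ m = 1 := by simpa using congrArg Subtype.val hm
  have hc0 : Commute u' t := (htU u' hu').symm
  have hc : Commute u'⁻¹ t := hc0.inv_left
  have hu1 : u' = 1 := by
    have h3 : nn⁻¹ * (u'⁻¹ * t) ^ 2 ^ m * nn ∈ B := by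
      have h4 : nn⁻¹ * (u'⁻¹ * t) ^ 2 ^ m * nn = (nn⁻¹ * (u'⁻¹ * t) * nn) ^ 2 ^ m := by
        have := (conj_pow (i := 2 ^ m) (a := nn⁻¹) (b := u'⁻¹ * t)).symm
        simpa using this
      rw [h4]; exact pow_mem hs _
    rw [hc.mul_pow, hm', mul_one] at h3
    have h4 := H.inj _ (pow_mem (inv_mem hu') _) h3
    have h5 : u'⁻¹ = 1 := by
      obtain ⟨k, hk⟩ := H.pgrp ⟨_, inv_mem hu'⟩
      have hk' : u'⁻¹ ^ 3 ^ k = 1 := by simpa using congrArg Subtype.val hk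
      have h6 := Nat.dvd_gcd (orderOf_dvd_of_pow_eq_one h4) (orderOf_dvd_of_pow_eq_one hk')
      have h7 : Nat.Coprime (2 ^ m) (3 ^ k) := Nat.Coprime.pow _ _ (by norm_num)
      rw [h7, Nat.dvd_one, orderOf_eq_one_iff] at h6
      exact h6
    exact inv_eq_one.1 h5
  rw [hu1, inv_one, one_mul] at hs
  -- `nn⁻¹ t nn ∈ N ∩ B` commutes with `U`
  have h3 : nn⁻¹ * t * nn ∈ N := by
    have := hN.conj_mem t ht nn⁻¹
    rwa [inv_inv] at this
  have hUN : U ≤ Subgroup.normalizer (N : Set Y) := by rw [Subgroup.normalizer_eq_top_iff.2 hN]; exact le_top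
  intro u hu
  have h4 := comm_of_normalizes H.pgrp h2 hUN h3 (H.norm hs) u hu
  calc t * (nn * u * nn⁻¹) = nn * ((nn⁻¹ * t * nn) * u) * nn⁻¹ := by group
    _ = nn * (u * (nn⁻¹ * t * nn)) * nn⁻¹ := by rw [h4]
    _ = (nn * u * nn⁻¹) * t := by group

end

/-! ### Levi subgroups of rank one for arbitrary roots -/

open CoxeterSystem Cfsg.Agent.ChevalleyStructure.CoxeterGeom Cfsg.Agent.Tits.Roots Cfsg.Agent.Tits.Core
  Cfsg.Agent.Tits.RootComb Cfsg.Agent.Nodes.Comb Cfsg.Agent.Nodes.Reps Cfsg.Agent.Nodes.BNOf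
  Cfsg.Agent.Nodes.RGDLib Cfsg.Agent.Nodes.Chart Cfsg.Agent.Nodes.Coroot Cfsg.Agent.Nodes.FreeTorus
  Cfsg.Agent.Nodes.SubComb Cfsg.Agent.Nodes.Bruhat Cfsg.Agent.Nodes.StabComb Cfsg.Agent.Nodes.Perp
  Cfsg.Agent.Nodes.Sub Cfsg.Agent.Nodes.ClsSub
open Cfsg.Agent.OddHalf.NI.FTwo (r1 BJ_singleton LJ_singleton cj_T cj_LL)

variable {I W Y : Type*} [Fintype I] [DecidableEq I] [Group W] [Fintype W] [Group Y] {M : CoxeterMatrix I}
  {cs : CoxeterSystem M W} {A : I → I → ℤ} {h : IsCartan M A} {p : ℕ} {T : Subgroup Y} {n : I → Y}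
  {X : (I → ℤ) → Subgroup Y}

theorem r1_root [Finite Y] [Fact p.Prime] (D : RGD cs h p T n X) {b : I → ℤ} (hb : IsRoot cs h b)
    (hab : ∀ x ∈ X b, ∀ y ∈ X b, x * y = y * x) :
    ∃ (nn : Y) (hn : nn ∈ T ⊔ LL X b), cj nn (X b) = X (-b) ∧
      R1 p ((T ⊔ X b).subgroupOf (T ⊔ LL X b)) ((X b).subgroupOf (T ⊔ LL X b)) ⟨nn, hn⟩ := by
  obtain ⟨w, i, rfl⟩ := hb
  set b := rep cs h w (sr i) with hbdef
  have hb : IsRoot cs h b := ⟨w, i, rfl⟩
  obtain ⟨k, hk⟩ := exists_rp cs D.nsys w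
  have hX : cj k (X (sr i)) = X b := D.conj_rp hk (isRoot_sr cs h i)
  have hTX : cj k (T ⊔ X (sr i)) = T ⊔ X b := by rw [cj_sup, cj_T D hk, hX]
  have hTL : cj k (T ⊔ LL X (sr i)) = T ⊔ LL X b := by
    rw [cj_sup, cj_T D hk, cj_LL D hk (isRoot_sr cs h i)]
  have hab' : ∀ x ∈ X (sr i), ∀ y ∈ X (sr i), x * y = y * x := by
    rw [← hX] at hab
    exact (Cfsg.Agent.OddHalf.NI.FTwo.commute_cj k).1 hab
  have H := r1 D i hab'
  have hni : n i ∈ LJ cs h T X {i} := n_mem_LJ D (Set.mem_singleton i)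
  have hni' : n i ∈ T ⊔ LL X (sr i) := by rwa [LJ_singleton] at hni
  have hn : k * n i * k⁻¹ ∈ T ⊔ LL X b := by
    rw [← hTL]; exact conj_mem_cj.2 hni'
  have hXL : X b ≤ T ⊔ LL X b := le_sup_left.trans le_sup_right
  have hBL : T ⊔ X b ≤ T ⊔ LL X b := sup_le_sup_left le_sup_left _
  have hmem : ∀ g : Y, g ∈ T ⊔ LL X b → k⁻¹ * g * k ∈ LJ cs h T X {i} := by
    intro g hg
    rw [LJ_singleton]
    rw [← hTL] at hg
    exact mem_cj.1 hg
  refine ⟨k * n i * k⁻¹, hn, ?_, ?_⟩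
  · rw [cj_mul, cj_mul]
    have h1 : cj k⁻¹ (X b) = X (sr i) := by rw [← hX, cj_inv_cj]
    rw [h1, D.conj i _ (isRoot_sr cs h i), rep_simple_sr, D.conj_rp hk (isRoot_sr cs h i).neg, map_neg]
  · refine ⟨?_, ?_, ?_, ?_, ?_, ?_, ?_⟩
    · intro x hx
      exact (le_sup_right : X b ≤ T ⊔ X b) hx
    · rintro ⟨g, hg⟩ hgB
      rw [Subgroup.mem_normalizer_iff]
      intro x
      rw [Subgroup.mem_subgroupOf, Subgroup.mem_subgroupOf]
      have h1 : T ⊔ X b ≤ Subgroup.normalizer (X b : Set Y) :=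
        sup_le (fun t ht => mem_normalizer_iff_cj.2 (D.tor _ hb t ht)) Subgroup.le_normalizer
      exact (Subgroup.mem_normalizer_iff.1 (h1 hgB)) x
    · rintro ⟨g, hg⟩
      rcases H.cases ⟨_, hmem g hg⟩ with h1 | ⟨⟨u, huL⟩, hu, ⟨c, hcL⟩, hc, e⟩
      · left
        have h2 : k⁻¹ * g * k ∈ BJ cs h T X {i} := h1
        rw [BJ_singleton] at h2
        have h3 : g ∈ T ⊔ X b := by rw [← hTX]; exact mem_cj.2 h2
        exact h3
      · right
        have hu' : k * u * k⁻¹ ∈ X b := by rw [← hX]; exact conj_mem_cj.2 hu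
        have hc2 : c ∈ BJ cs h T X {i} := hc
        rw [BJ_singleton] at hc2
        have hc' : k * c * k⁻¹ ∈ T ⊔ X b := by rw [← hTX]; exact conj_mem_cj.2 hc2
        have e' : k⁻¹ * g * k = u * n i * c := congrArg Subtype.val e
        refine ⟨⟨_, hXL hu'⟩, hu', ⟨_, hBL hc'⟩, hc', Subtype.ext ?_⟩
        change g = (k * u * k⁻¹) * (k * n i * k⁻¹) * (k * c * k⁻¹)
        have : g = k * (k⁻¹ * g * k) * k⁻¹ := by group
        rw [this, e']; group
    · rintro ⟨u, huL⟩ hu hB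
      have hu' : k⁻¹ * u * k ∈ X (sr i) := by
        have h1 : u ∈ X b := hu
        rw [← hX] at h1; exact mem_cj.1 h1
      have hB' : (k * n i * k⁻¹)⁻¹ * u * (k * n i * k⁻¹) ∈ T ⊔ X b := hB
      have h1 : (n i)⁻¹ * (k⁻¹ * u * k) * n i ∈ BJ cs h T X {i} := by
        rw [BJ_singleton]
        rw [← hTX, mem_cj] at hB'
        have : (n i)⁻¹ * (k⁻¹ * u * k) * n i = k⁻¹ * ((k * n i * k⁻¹)⁻¹ * u * (k * n i * k⁻¹)) * k := by group
        rw [this]; exact hB'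
      have h2 := H.inj ⟨_, hmem u huL⟩ hu' h1
      have h3 : k⁻¹ * u * k = 1 := congrArg Subtype.val h2
      apply Subtype.ext
      change u = 1
      have : u = k * (k⁻¹ * u * k) * k⁻¹ := by group
      rw [this, h3]; group
    · intro x hx y hy
      exact Subtype.ext (hab _ hx _ hy)
    · exact (D.pgrp' hb).comap_subtype
    · have h1 := H.ndvd
      intro h2
      apply h1
      rw [LJ_singleton]
      change p ∣ (X b).relIndex (T ⊔ LL X b) at h2
      change p ∣ (X (sr i)).relIndex (T ⊔ LL X (sr i))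
      rw [← hX, ← hTL] at h2
      have h3 : (Cit.cj k (X (sr i))).relIndex (Cit.cj k (T ⊔ LL X (sr i))) =
          (X (sr i)).relIndex (T ⊔ LL X (sr i)) := Cit.relIndex_cj k _ _
      rw [← h3]
      exact h2

end Cfsg.Agent.OddHalf.NI3.FThree
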